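import Mathlib

set_option autoImplicit false

namespace Cfsg.Agent.H29

open Matrix

variable {F : Type*} [Field F] {m : ℕ}

/-- The block diagonal matrix `diag(A, μ)` of size `m + 1`. -/
def blk (A : Matrix (Fin m) (Fin m) F) (μ : F) : Matrix (Fin (m + 1)) (Fin (m + 1)) F :=
  Matrix.reindex finSumFinEquiv finSumFinEquiv
    (Matrix.fromBlocks A 0 0 (Matrix.diagonal (fun _ : Fin 1 => μ)))

theorem finSum_symm_castSucc (i : Fin m) :
    (finSumFinEquiv : Fin m ⊕ Fin 1 ≃ Fin (m + 1)).symm (Fin.castSucc i) = Sum.inl i :=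
  finSumFinEquiv_symm_apply_castAdd i

theorem finSum_symm_last :
    (finSumFinEquiv : Fin m ⊕ Fin 1 ≃ Fin (m + 1)).symm (Fin.last m) = Sum.inr 0 :=
  finSumFinEquiv_symm_last

@[simp] theorem blk_castSucc_castSucc (A : Matrix (Fin m) (Fin m) F) (μ : F) (i j : Fin m) :
    blk A μ (Fin.castSucc i) (Fin.castSucc j) = A i j := by
  simp [blk, Matrix.reindex_apply, Matrix.submatrix_apply, finSum_symm_castSucc]

@[simp] theorem blk_castSucc_last (A : Matrix (Fin m) (Fin m) F) (μ : F) (i : Fin m) :
    blk A μ (Fin.castSucc i) (Fin.last m) = 0 := by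
  simp [blk, Matrix.reindex_apply, Matrix.submatrix_apply, finSum_symm_castSucc, finSum_symm_last]

@[simp] theorem blk_last_castSucc (A : Matrix (Fin m) (Fin m) F) (μ : F) (j : Fin m) :
    blk A μ (Fin.last m) (Fin.castSucc j) = 0 := by
  simp [blk, Matrix.reindex_apply, Matrix.submatrix_apply, finSum_symm_castSucc, finSum_symm_last]

@[simp] theorem blk_last_last (A : Matrix (Fin m) (Fin m) F) (μ : F) :
    blk A μ (Fin.last m) (Fin.last m) = μ := by
  simp [blk, Matrix.reindex_apply, Matrix.submatrix_apply, finSum_symm_last]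

theorem blk_mul (A B : Matrix (Fin m) (Fin m) F) (μ ν : F) :
    blk A μ * blk B ν = blk (A * B) (μ * ν) := by
  simp [blk, Matrix.reindex_apply, Matrix.submatrix_mul_equiv, Matrix.fromBlocks_multiply]

theorem blk_one : blk (1 : Matrix (Fin m) (Fin m) F) 1 = 1 := by
  simp [blk, Matrix.reindex_apply]

theorem det_blk (A : Matrix (Fin m) (Fin m) F) (μ : F) : (blk A μ).det = A.det * μ := by
  simp [blk, Matrix.det_fromBlocks_zero₂₁]

/-- Top-left block. -/
def tl (g : Matrix (Fin (m + 1)) (Fin (m + 1)) F) : Matrix (Fin m) (Fin m) F :=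
  g.submatrix Fin.castSucc Fin.castSucc

@[simp] theorem tl_apply (g : Matrix (Fin (m + 1)) (Fin (m + 1)) F) (i j : Fin m) :
    tl g i j = g (Fin.castSucc i) (Fin.castSucc j) := rfl

@[simp] theorem tl_blk (A : Matrix (Fin m) (Fin m) F) (μ : F) : tl (blk A μ) = A := by
  ext i j; simp

/-- Block diagonal shape. -/
def IsBlock (g : Matrix (Fin (m + 1)) (Fin (m + 1)) F) : Prop :=
  ∀ i : Fin m, g (Fin.castSucc i) (Fin.last m) = 0 ∧ g (Fin.last m) (Fin.castSucc i) = 0

theorem isBlock_blk (A : Matrix (Fin m) (Fin m) F) (μ : F) : IsBlock (blk A μ) := by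
  intro i; simp

theorem eq_blk_of_isBlock {g : Matrix (Fin (m + 1)) (Fin (m + 1)) F} (hg : IsBlock g) :
    g = blk (tl g) (g (Fin.last m) (Fin.last m)) := by
  ext i j
  induction i using Fin.lastCases with
  | last =>
    induction j using Fin.lastCases with
    | last => simp
    | cast j => simp [(hg j).2]
  | cast i =>
    induction j using Fin.lastCases with
    | last => simp [(hg i).1]
    | cast j => simp

theorem isBlock_iff {g : Matrix (Fin (m + 1)) (Fin (m + 1)) F} :
    IsBlock g ↔ ∃ A μ, g = blk A μ :=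
  ⟨fun h => ⟨_, _, eq_blk_of_isBlock h⟩, fun ⟨A, μ, h⟩ => h ▸ isBlock_blk A μ⟩

theorem isBlock_mul {g h : Matrix (Fin (m + 1)) (Fin (m + 1)) F} (hg : IsBlock g)
    (hh : IsBlock h) : IsBlock (g * h) := by
  rw [eq_blk_of_isBlock hg, eq_blk_of_isBlock hh, blk_mul]
  exact isBlock_blk _ _

theorem tl_mul {g h : Matrix (Fin (m + 1)) (Fin (m + 1)) F} (hg : IsBlock g)
    (hh : IsBlock h) : tl (g * h) = tl g * tl h := by
  conv_lhs => rw [eq_blk_of_isBlock hg, eq_blk_of_isBlock hh, blk_mul]
  simp

theorem last_mul {g h : Matrix (Fin (m + 1)) (Fin (m + 1)) F} (hg : IsBlock g)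
    (hh : IsBlock h) : (g * h) (Fin.last m) (Fin.last m) =
      g (Fin.last m) (Fin.last m) * h (Fin.last m) (Fin.last m) := by
  conv_lhs => rw [eq_blk_of_isBlock hg, eq_blk_of_isBlock hh, blk_mul]
  simp

theorem det_of_isBlock {g : Matrix (Fin (m + 1)) (Fin (m + 1)) F} (hg : IsBlock g) :
    g.det = (tl g).det * g (Fin.last m) (Fin.last m) := by
  conv_lhs => rw [eq_blk_of_isBlock hg, det_blk]

/-- The diagonal entries of the involution `diag(-1, …, -1, 1)`. -/
def tdiag (n : ℕ) : Fin n → F := fun i => if (i : ℕ) + 1 = n then (1 : F) else -1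

theorem tdiag_last : tdiag (F := F) (m + 1) (Fin.last m) = 1 := by
  simp [tdiag]

theorem tdiag_castSucc (i : Fin m) : tdiag (F := F) (m + 1) (Fin.castSucc i) = -1 := by
  have : (i : ℕ) ≠ m := Nat.ne_of_lt i.2
  simp [tdiag, this]

theorem diagonal_tdiag_eq_blk :
    Matrix.diagonal (tdiag (F := F) (m + 1)) = blk (-1 : Matrix (Fin m) (Fin m) F) 1 := by
  ext i j
  induction i using Fin.lastCases with
  | last =>
    induction j using Fin.lastCases with
    | last => simp [tdiag_last]
    | cast j => simp [Matrix.diagonal_apply, Fin.castSucc_ne_last, (Fin.castSucc_ne_last j).symm]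
  | cast i =>
    induction j using Fin.lastCases with
    | last => simp [Matrix.diagonal_apply, Fin.castSucc_ne_last]
    | cast j =>
      by_cases h : i = j
      · subst h; simp [tdiag_castSucc]
      · have h' : Fin.castSucc i ≠ Fin.castSucc j := fun e => h (Fin.castSucc_injective _ e)
        simp [Matrix.diagonal_apply, h', h, Matrix.neg_apply, Matrix.one_apply]

/-- A matrix commuting with `diag(-1, …, -1, 1)` is block diagonal (when `2 ≠ 0`). -/
theorem isBlock_of_commute (h2 : (2 : F) ≠ 0) {g : Matrix (Fin (m + 1)) (Fin (m + 1)) F}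
    (hg : g * Matrix.diagonal (tdiag (F := F) (m + 1)) =
      Matrix.diagonal (tdiag (F := F) (m + 1)) * g) : IsBlock g := by
  intro i
  constructor
  · have h := congrFun (congrFun hg (Fin.castSucc i)) (Fin.last m)
    rw [Matrix.mul_diagonal, Matrix.diagonal_mul, tdiag_last, tdiag_castSucc] at h
    have h3 : (2 : F) * g (Fin.castSucc i) (Fin.last m) = 0 := by linear_combination h
    rcases mul_eq_zero.mp h3 with h4 | h4
    · exact absurd h4 h2
    · exact h4
  · have h := congrFun (congrFun hg (Fin.last m)) (Fin.castSucc i)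
    rw [Matrix.mul_diagonal, Matrix.diagonal_mul, tdiag_last, tdiag_castSucc] at h
    have h3 : (2 : F) * g (Fin.last m) (Fin.castSucc i) = 0 := by linear_combination -h
    rcases mul_eq_zero.mp h3 with h4 | h4
    · exact absurd h4 h2
    · exact h4

theorem commute_of_isBlock {g : Matrix (Fin (m + 1)) (Fin (m + 1)) F} (hg : IsBlock g) :
    g * Matrix.diagonal (tdiag (F := F) (m + 1)) =
      Matrix.diagonal (tdiag (F := F) (m + 1)) * g := by
  rw [diagonal_tdiag_eq_blk, eq_blk_of_isBlock hg, blk_mul, blk_mul]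
  simp

end Cfsg.Agent.H29
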