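import Mathlib

set_option autoImplicit false

namespace Cfsg.Agent.H29

variable {G : Type*} [Group G]

/-- `i ↦ x ^ i` for `i : ZMod n`, when `x ^ n = 1`, as an additive hom. -/
noncomputable def zmodPowAdd (x : G) (n : ℕ) (hx : x ^ n = 1) : ZMod n →+ Additive G :=
  ZMod.lift n ⟨zmultiplesHom (Additive G) (Additive.ofMul x), by
    rw [zmultiplesHom_apply, natCast_zsmul, ← ofMul_pow, hx]; rfl⟩

/-- `i ↦ x ^ i` for `i : ZMod n`, when `x ^ n = 1`. -/
noncomputable def zmodPow (x : G) (n : ℕ) (hx : x ^ n = 1) (i : ZMod n) : G :=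
  Additive.toMul (zmodPowAdd x n hx i)

theorem zmodPow_intCast (x : G) (n : ℕ) (hx : x ^ n = 1) (k : ℤ) :
    zmodPow x n hx (k : ZMod n) = x ^ k := by
  unfold zmodPow zmodPowAdd
  rw [ZMod.lift_coe]
  simp [zmultiplesHom_apply]

theorem zmodPow_add (x : G) (n : ℕ) (hx : x ^ n = 1) (i j : ZMod n) :
    zmodPow x n hx (i + j) = zmodPow x n hx i * zmodPow x n hx j := by
  unfold zmodPow
  rw [map_add]; rfl

theorem zmodPow_zero (x : G) (n : ℕ) (hx : x ^ n = 1) : zmodPow x n hx 0 = 1 := by
  unfold zmodPow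
  rw [map_zero]; rfl

theorem zmodPow_neg (x : G) (n : ℕ) (hx : x ^ n = 1) (i : ZMod n) :
    zmodPow x n hx (-i) = (zmodPow x n hx i)⁻¹ := by
  unfold zmodPow
  rw [map_neg]; rfl

theorem zmodPow_sub (x : G) (n : ℕ) (hx : x ^ n = 1) (i j : ZMod n) :
    zmodPow x n hx (i - j) = zmodPow x n hx i * (zmodPow x n hx j)⁻¹ := by
  rw [sub_eq_add_neg, zmodPow_add, zmodPow_neg]

theorem zmodPow_mem_zpowers (x : G) (n : ℕ) (hx : x ^ n = 1) (i : ZMod n) :
    zmodPow x n hx i ∈ Subgroup.zpowers x := by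
  obtain ⟨k, rfl⟩ := ZMod.intCast_surjective i
  rw [zmodPow_intCast]
  exact Subgroup.zpow_mem_zpowers x k

theorem zmodPow_conj (x a : G) (n : ℕ) (hx : x ^ n = 1) (hax : a * x * a⁻¹ = x⁻¹) (i : ZMod n) :
    a * zmodPow x n hx i * a⁻¹ = zmodPow x n hx (-i) := by
  obtain ⟨k, rfl⟩ := ZMod.intCast_surjective i
  rw [← Int.cast_neg, zmodPow_intCast, zmodPow_intCast]
  have h1 : a * x ^ k * a⁻¹ = (a * x * a⁻¹) ^ k := (conj_zpow).symm
  rw [h1, hax, inv_zpow, zpow_neg]

/-- The map `DihedralGroup n → G` determined by `r 1 ↦ x`, `sr 0 ↦ a`. -/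
noncomputable def dihedralFun (x a : G) (n : ℕ) (hx : x ^ n = 1) : DihedralGroup n → G
  | DihedralGroup.r i => zmodPow x n hx i
  | DihedralGroup.sr i => a * zmodPow x n hx i

/-- The hom `DihedralGroup n →* G` determined by `r 1 ↦ x`, `sr 0 ↦ a`. -/
noncomputable def dihedralHom (x a : G) (n : ℕ) (hx : x ^ n = 1) (ha : a * a = 1)
    (hax : a * x * a⁻¹ = x⁻¹) : DihedralGroup n →* G :=
  MonoidHom.mk' (dihedralFun x a n hx) (by
    have hinv : a⁻¹ = a := inv_eq_of_mul_eq_one_right ha
    have hswap : ∀ i : ZMod n, zmodPow x n hx i * a = a * zmodPow x n hx (-i) := by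
      intro i
      have := zmodPow_conj x a n hx hax (-i)
      rw [neg_neg, hinv] at this
      rw [← this]
      simp [mul_assoc, ha]
    intro u v
    cases u with
    | r i =>
      cases v with
      | r j => simp only [DihedralGroup.r_mul_r, dihedralFun, zmodPow_add]
      | sr j =>
        simp only [DihedralGroup.r_mul_sr, dihedralFun]
        rw [← mul_assoc, hswap, mul_assoc, ← zmodPow_add, neg_add_eq_sub]
    | sr i =>
      cases v with
      | r j => simp only [DihedralGroup.sr_mul_r, dihedralFun, zmodPow_add, mul_assoc]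
      | sr j =>
        simp only [DihedralGroup.sr_mul_sr, dihedralFun]
        rw [mul_assoc, ← mul_assoc (zmodPow x n hx i), hswap, mul_assoc, ← zmodPow_add,
          ← mul_assoc, ha, one_mul, neg_add_eq_sub])

theorem dihedralHom_r (x a : G) (n : ℕ) (hx : x ^ n = 1) (ha : a * a = 1)
    (hax : a * x * a⁻¹ = x⁻¹) (i : ZMod n) :
    dihedralHom x a n hx ha hax (DihedralGroup.r i) = zmodPow x n hx i := rfl

theorem dihedralHom_sr (x a : G) (n : ℕ) (hx : x ^ n = 1) (ha : a * a = 1)
    (hax : a * x * a⁻¹ = x⁻¹) (i : ZMod n) :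
    dihedralHom x a n hx ha hax (DihedralGroup.sr i) = a * zmodPow x n hx i := rfl

/-- An involution inverting an element of odd order generates with it a dihedral group. -/
theorem nonempty_dihedral_equiv (x a : G) (hodd : Odd (orderOf x)) (ha : a * a = 1) (ha1 : a ≠ 1)
    (hax : a * x * a⁻¹ = x⁻¹) :
    Nonempty (↥(Subgroup.zpowers a ⊔ Subgroup.zpowers x) ≃* DihedralGroup (orderOf x)) := by
  have hx : x ^ orderOf x = 1 := pow_orderOf_eq_one x
  set f := dihedralHom x a (orderOf x) hx ha hax with hf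
  have hinj : Function.Injective f := by
    rw [injective_iff_map_eq_one]
    intro u hu
    cases u with
    | r i =>
      rw [hf, dihedralHom_r] at hu
      obtain ⟨k, rfl⟩ := ZMod.intCast_surjective i
      rw [zmodPow_intCast] at hu
      have h1 := orderOf_dvd_iff_zpow_eq_one.mpr hu
      have h2 : ((k : ℤ) : ZMod (orderOf x)) = 0 := (ZMod.intCast_zmod_eq_zero_iff_dvd k _).mpr h1
      rw [h2]; rfl
    | sr i =>
      exfalso
      rw [hf, dihedralHom_sr] at hu
      have h1 : a = (zmodPow x (orderOf x) hx i)⁻¹ := eq_inv_of_mul_eq_one_left hu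
      have h2 : a ∈ Subgroup.zpowers x := by
        rw [h1]; exact inv_mem (zmodPow_mem_zpowers x _ hx i)
      have h3 : orderOf a ∣ orderOf x := by
        have := Subgroup.orderOf_dvd_natCard (Subgroup.zpowers x) h2
        rwa [Nat.card_zpowers] at this
      have h4 : orderOf a = 2 := by
        have h5 : a ^ 2 = 1 := by rw [pow_two]; exact ha
        exact orderOf_eq_prime h5 ha1
      rw [h4] at h3
      exact (Nat.not_even_iff_odd.mpr hodd) (even_iff_two_dvd.mpr h3)
  have hrange : f.range = Subgroup.zpowers a ⊔ Subgroup.zpowers x := by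
    apply le_antisymm
    · rintro _ ⟨u, rfl⟩
      cases u with
      | r i =>
        rw [hf, dihedralHom_r]
        exact Subgroup.mem_sup_right (zmodPow_mem_zpowers x _ hx i)
      | sr i =>
        rw [hf, dihedralHom_sr]
        exact mul_mem (Subgroup.mem_sup_left (Subgroup.mem_zpowers a))
          (Subgroup.mem_sup_right (zmodPow_mem_zpowers x _ hx i))
    · apply sup_le
      · rw [Subgroup.zpowers_le]
        refine ⟨DihedralGroup.sr 0, ?_⟩
        rw [hf, dihedralHom_sr, zmodPow_zero, mul_one]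
      · rw [Subgroup.zpowers_le]
        refine ⟨DihedralGroup.r 1, ?_⟩
        rw [hf, dihedralHom_r]
        have := zmodPow_intCast x (orderOf x) hx 1
        simpa using this
  exact ⟨((MonoidHom.ofInjective hinj).trans (MulEquiv.subgroupCongr hrange)).symm⟩

end Cfsg.Agent.H29
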