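import Cfsg.Agent.H29.SLStd
import Cfsg.Agent.H29.Cores

set_option autoImplicit false

namespace Cfsg.Agent.H29

open Cfsg Matrix

/-- A finite group with a normal quasisimple subgroup containing an involution has a component
modulo its core. -/
theorem hasComponent_quot_oddCore {C : Type*} [Group C] [Finite C] (S : Subgroup C)
    (hS : S.Normal) (hq : IsQuasisimple S) (x : C) (hx : x ∈ S) (hx2 : orderOf x = 2) :
    HasComponent (C ⧸ oddCore C) := by
  refine ⟨S.map (QuotientGroup.mk' (oddCore C)), ?_, ?_⟩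
  · exact (Subgroup.Normal.map hS _ (QuotientGroup.mk'_surjective _)).isSubnormal
  · have hnt : Nontrivial ↥(S.map (QuotientGroup.mk' (oddCore C))) := by
      refine ⟨⟨⟨QuotientGroup.mk' (oddCore C) x, Subgroup.mem_map_of_mem _ hx⟩, 1, ?_⟩⟩
      intro h
      have h1 : QuotientGroup.mk' (oddCore C) x = 1 := congrArg Subtype.val h
      rw [QuotientGroup.mk'_apply, QuotientGroup.eq_one_iff] at h1
      have h2 : orderOf x ∣ Nat.card (oddCore C) := Subgroup.orderOf_dvd_natCard _ h1
      rw [hx2] at h2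
      have h3 := odd_card_oddCore C
      exact (Nat.not_even_iff_odd.mpr h3) (even_iff_two_dvd.mpr h2)
    exact H27.quasisimple_of_surjective ((QuotientGroup.mk' (oddCore C)).subgroupMap S)
      (MonoidHom.subgroupMap_surjective _ _) hq

variable {F : Type*} [Field F] {m : ℕ}

/-- The involution `diag(-1, …, -1, 1)` of `GL(m+1)`. -/
def tGL : Matrix.GeneralLinearGroup (Fin (m + 1)) F :=
  ⟨Matrix.diagonal (tdiag (F := F) (m + 1)), Matrix.diagonal (tdiag (F := F) (m + 1)),
    by rw [diagonal_tdiag_eq_blk, blk_mul]; simp [blk_one],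
    by rw [diagonal_tdiag_eq_blk, blk_mul]; simp [blk_one]⟩

theorem tGL_val : (tGL (F := F) (m := m)).val = Matrix.diagonal (tdiag (F := F) (m + 1)) := rfl

/-- The block embedding `SL(m) → GL(m+1)`. -/
def embGL : Matrix.SpecialLinearGroup (Fin m) F →* Matrix.GeneralLinearGroup (Fin (m + 1)) F :=
  Matrix.SpecialLinearGroup.toGL.comp embSL

theorem embGL_val (A : Matrix.SpecialLinearGroup (Fin m) F) : (embGL A).val = blk A.1 1 := rfl

theorem embGL_injective : Function.Injective (embGL (F := F) (m := m)) :=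
  Matrix.SpecialLinearGroup.toGL_injective.comp embSL_injective

theorem tl_one : tl (1 : Matrix (Fin (m + 1)) (Fin (m + 1)) F) = 1 := by
  ext i j
  simp [Matrix.one_apply]

theorem mem_range_embGL_iff (g : Matrix.GeneralLinearGroup (Fin (m + 1)) F) :
    g ∈ (embGL (F := F) (m := m)).range ↔
      IsBlock g.val ∧ g.val (Fin.last m) (Fin.last m) = 1 ∧ (tl g.val).det = 1 := by
  constructor
  · rintro ⟨A, rfl⟩
    refine ⟨isBlock_blk _ _, blk_last_last _ _, ?_⟩
    rw [embGL_val, tl_blk]; exact A.2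
  · rintro ⟨hb, h1, hdet⟩
    refine ⟨⟨tl g.val, hdet⟩, ?_⟩
    apply Units.ext
    show blk (tl g.val) 1 = g.val
    conv_rhs => rw [eq_blk_of_isBlock hb, h1]

theorem mem_centralizer_tGL_iff (h2 : (2 : F) ≠ 0)
    (g : Matrix.GeneralLinearGroup (Fin (m + 1)) F) :
    g ∈ Subgroup.centralizer ({tGL} : Set (Matrix.GeneralLinearGroup (Fin (m + 1)) F)) ↔
      IsBlock g.val := by
  rw [Subgroup.mem_centralizer_singleton_iff]
  constructor
  · intro h
    apply isBlock_of_commute h2
    have h1 : g.val * (tGL (F := F) (m := m)).val = (tGL (F := F) (m := m)).val * g.val :=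
      congrArg Units.val h
    exact h1
  · intro h
    apply Units.ext
    show g.val * (tGL (F := F) (m := m)).val = (tGL (F := F) (m := m)).val * g.val
    exact commute_of_isBlock h

theorem conj_mem_range_embGL {g s : Matrix.GeneralLinearGroup (Fin (m + 1)) F}
    (hg : IsBlock g.val) (hg' : IsBlock (g⁻¹).val) (hs : s ∈ (embGL (F := F) (m := m)).range) :
    g * s * g⁻¹ ∈ (embGL (F := F) (m := m)).range := by
  rw [mem_range_embGL_iff] at hs ⊢
  obtain ⟨hsb, hs1, hsdet⟩ := hs
  have e : (g * s * g⁻¹).val = g.val * s.val * (g⁻¹).val := rfl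
  have hgs : IsBlock (g.val * s.val) := isBlock_mul hg hsb
  have e2 : g.val * (g⁻¹).val = 1 := by
    have h := congrArg Units.val (mul_inv_cancel g)
    exact h
  refine ⟨by rw [e]; exact isBlock_mul hgs hg', ?_, ?_⟩
  · rw [e, last_mul hgs hg', last_mul hg hsb, hs1, mul_one, ← last_mul hg hg', e2,
      Matrix.one_apply_eq]
  · rw [e, tl_mul hgs hg', tl_mul hg hsb, Matrix.det_mul, Matrix.det_mul, hsdet, mul_one,
      ← Matrix.det_mul, ← tl_mul hg hg', e2, tl_one, Matrix.det_one]

theorem range_embGL_le_centralizer (h2 : (2 : F) ≠ 0) :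
    (embGL (F := F) (m := m)).range ≤
      Subgroup.centralizer ({tGL} : Set (Matrix.GeneralLinearGroup (Fin (m + 1)) F)) := by
  intro s hs
  rw [mem_centralizer_tGL_iff h2]
  exact ((mem_range_embGL_iff s).mp hs).1

theorem centralizer_tGL_le_normalizer (h2 : (2 : F) ≠ 0) :
    Subgroup.centralizer ({tGL} : Set (Matrix.GeneralLinearGroup (Fin (m + 1)) F)) ≤
      Subgroup.normalizer (((embGL (F := F) (m := m)).range : Subgroup _) : Set _) := by
  intro g hg
  have hgb : IsBlock g.val := (mem_centralizer_tGL_iff h2 g).mp hg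
  have hgb' : IsBlock (g⁻¹).val := (mem_centralizer_tGL_iff h2 g⁻¹).mp (Subgroup.inv_mem _ hg)
  rw [Subgroup.mem_normalizer_iff]
  intro s
  constructor
  · exact conj_mem_range_embGL hgb hgb'
  · intro h
    have h3 := conj_mem_range_embGL hgb' (by rw [inv_inv]; exact hgb) h
    have e : g⁻¹ * (g * s * g⁻¹) * g⁻¹⁻¹ = s := by group
    rwa [e] at h3

theorem orderOf_tGL (h2 : (2 : F) ≠ 0) (hm : 1 ≤ m) : orderOf (tGL (F := F) (m := m)) = 2 := by
  have htt : (tGL (F := F) (m := m)) * tGL = 1 := by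
    apply Units.ext
    show Matrix.diagonal (tdiag (F := F) (m + 1)) * Matrix.diagonal (tdiag (F := F) (m + 1)) = 1
    rw [diagonal_tdiag_eq_blk, blk_mul]; simp [blk_one]
  have ht1 : (tGL (F := F) (m := m)) ≠ 1 := by
    intro h
    have h3 : (tGL (F := F) (m := m)).val (Fin.castSucc ⟨0, hm⟩) (Fin.castSucc ⟨0, hm⟩) = 1 := by
      rw [h]; exact Matrix.one_apply_eq _
    rw [tGL_val, Matrix.diagonal_apply_eq, tdiag_castSucc] at h3
    apply h2
    linear_combination -h3
  exact orderOf_eq_prime (by rw [pow_two]; exact htt) ht1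

theorem tGL_not_mem_center (h2 : (2 : F) ≠ 0) (hm : 1 ≤ m) :
    (tGL (F := F) (m := m)) ∉ Subgroup.center (Matrix.GeneralLinearGroup (Fin (m + 1)) F) := by
  intro h
  rw [Subgroup.mem_center_iff] at h
  have hne : Fin.castSucc (⟨0, hm⟩ : Fin m) ≠ Fin.last m := Fin.castSucc_ne_last _
  have hT : Matrix.SpecialLinearGroup.toGL (Matrix.SpecialLinearGroup.transvection hne (1 : F)) ∈
      Subgroup.centralizer ({tGL} : Set (Matrix.GeneralLinearGroup (Fin (m + 1)) F)) := by
    rw [Subgroup.mem_centralizer_singleton_iff]; exact h _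
  have hb := (mem_centralizer_tGL_iff h2 _).mp hT
  have h3 := (hb ⟨0, hm⟩).1
  have h4 : (Matrix.SpecialLinearGroup.toGL
      (Matrix.SpecialLinearGroup.transvection hne (1 : F))).val
      (Fin.castSucc ⟨0, hm⟩) (Fin.last m) = 1 := by
    show (1 + Matrix.single (Fin.castSucc (⟨0, hm⟩ : Fin m)) (Fin.last m) (1 : F))
      (Fin.castSucc ⟨0, hm⟩) (Fin.last m) = 1
    rw [Matrix.add_apply, Matrix.one_apply_ne hne, Matrix.single_apply_same, zero_add]
  rw [h4] at h3
  exact one_ne_zero h3

theorem orderOf_diag2n_neg_one (h2 : (2 : F) ≠ 0) {i j : Fin m} (hij : i ≠ j) :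
    orderOf (Matrix.SpecialLinearGroup.diag2n hij (-1 : F) (neg_ne_zero.mpr one_ne_zero)) = 2 := by
  have hAA : (Matrix.SpecialLinearGroup.diag2n hij (-1 : F) (neg_ne_zero.mpr one_ne_zero)) *
      (Matrix.SpecialLinearGroup.diag2n hij (-1 : F) (neg_ne_zero.mpr one_ne_zero)) = 1 := by
    apply Subtype.ext
    show (Matrix.SpecialLinearGroup.diag2n hij (-1 : F) (neg_ne_zero.mpr one_ne_zero)).1 *
      (Matrix.SpecialLinearGroup.diag2n hij (-1 : F) (neg_ne_zero.mpr one_ne_zero)).1 = 1
    rw [Matrix.SpecialLinearGroup.diag2n_coe, Matrix.diagonal_mul_diagonal, ← Matrix.diagonal_one]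
    congr 1
    funext k
    by_cases h1 : k = i
    · simp [h1]
    · by_cases h3 : k = j
      · simp [h1, h3]
      · simp [h1, h3]
  have hA1 : (Matrix.SpecialLinearGroup.diag2n hij (-1 : F) (neg_ne_zero.mpr one_ne_zero)) ≠ 1 := by
    intro h
    have h3 : (Matrix.SpecialLinearGroup.diag2n hij (-1 : F) (neg_ne_zero.mpr one_ne_zero)).1 i i
        = 1 := by
      rw [h]; exact Matrix.one_apply_eq _
    rw [Matrix.SpecialLinearGroup.diag2n_coe, Matrix.diagonal_apply_eq] at h3
    simp only [if_true] at h3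
    apply h2
    linear_combination -h3
  exact orderOf_eq_prime (by rw [pow_two]; exact hAA) hA1

/-- `C(t) / O(C(t))` has a component, for `t = diag(-1, …, -1, 1)` in `GL(m+1, F)`, when
`SL(m, F)` is quasisimple. -/
theorem hasComponent_centralizer_tGL [Finite F] (h2 : (2 : F) ≠ 0) (hm : 2 ≤ m)
    (hq : IsQuasisimple (Matrix.SpecialLinearGroup (Fin m) F)) :
    HasComponent (↥(Subgroup.centralizer ({tGL} : Set (Matrix.GeneralLinearGroup (Fin (m + 1)) F)))
      ⧸ oddCore ↥(Subgroup.centralizer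
        ({tGL} : Set (Matrix.GeneralLinearGroup (Fin (m + 1)) F)))) := by
  have hSC := range_embGL_le_centralizer (m := m) h2
  have hCN := centralizer_tGL_le_normalizer (m := m) h2
  have hn : ((embGL (F := F) (m := m)).range.subgroupOf (Subgroup.centralizer
      ({tGL} : Set (Matrix.GeneralLinearGroup (Fin (m + 1)) F)))).Normal :=
    (Subgroup.normal_subgroupOf_iff_le_normalizer hSC).mpr hCN
  have hqS : IsQuasisimple ↥(embGL (F := F) (m := m)).range :=
    H27.quasisimple_of_mulEquiv (MonoidHom.ofInjective embGL_injective) hq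
  have hqS' : IsQuasisimple ↥((embGL (F := F) (m := m)).range.subgroupOf (Subgroup.centralizer
      ({tGL} : Set (Matrix.GeneralLinearGroup (Fin (m + 1)) F)))) :=
    H27.isQuasisimple_subgroupOf hSC hqS
  have h01 : (⟨0, by omega⟩ : Fin m) ≠ ⟨1, by omega⟩ := by
    intro h; exact absurd (congrArg Fin.val h) (by simp)
  have hA2 := orderOf_diag2n_neg_one h2 h01
  have hxC : embGL (Matrix.SpecialLinearGroup.diag2n h01 (-1 : F) (neg_ne_zero.mpr one_ne_zero)) ∈
      Subgroup.centralizer ({tGL} : Set (Matrix.GeneralLinearGroup (Fin (m + 1)) F)) :=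
    hSC ⟨_, rfl⟩
  have hx2 : orderOf (⟨_, hxC⟩ : ↥(Subgroup.centralizer
      ({tGL} : Set (Matrix.GeneralLinearGroup (Fin (m + 1)) F)))) = 2 := by
    rw [← Subgroup.orderOf_coe]
    show orderOf (embGL
      (Matrix.SpecialLinearGroup.diag2n h01 (-1 : F) (neg_ne_zero.mpr one_ne_zero))) = 2
    rw [orderOf_injective embGL embGL_injective]; exact hA2
  exact hasComponent_quot_oddCore _ hn hqS' ⟨_, hxC⟩ ⟨_, rfl⟩ hx2

end Cfsg.Agent.H29
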