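import Cfsg.Agent.H87.KLDefs
import Cfsg.Agent.H88.Puig
import Cfsg.Agent.H86.FusSylow
import Cfsg.Agent.H86.FusExt
import Cfsg.Agent.H40.PComp

set_option autoImplicit false

/-!
Generation of a saturated fusion system `F` with a normal subgroup `Q` by the maps of `S·C_F(Q)`
and the maps normalizing `Q·C_S(Q)` (a step of the Kessar–Linckelmann argument).
-/

namespace Cfsg.Agent.H29.MS

open Cfsg Cfsg.FusionSystem Cfsg.Agent.H86 Cfsg.Agent.H87

variable {Ω : Type*} [Group Ω] {S : Subgroup Ω} {p : ℕ} [Fact p.Prime] {F : FusionSystem S}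
  {Q : Subgroup Ω}

/-- If `Q` is normal in the saturated system `F`, then `F` is generated by the maps of `S·C_F(Q)`
together with the maps defined on overgroups of `Q·C_S(Q)` that normalize `Q·C_S(Q)`: any system
`E` containing these contains all maps of `F`. -/
theorem gen_sc_normalizer [Finite S] (hS : IsPGroup p S) (hF : F.IsSaturated p) (hQ : F.IsNormal Q)
    (E : FusionSystem S)
    (h₁ : ∀ (A : Subgroup Ω) (f : Ω → Ω), SCMor F Q A f → Mor E A f)
    (h₂ : ∀ (A : Subgroup Ω) (f : Ω → Ω), Mor F A f → Q ⊔ centralizerIn S Q ≤ A →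
      imgS (Q ⊔ centralizerIn S Q) f = Q ⊔ centralizerIn S Q → Mor E A f) :
    ∀ (A : Subgroup Ω) (f : Ω → Ω), Mor F A f → Mor E A f := by
  refine H88.alperin_induction hS hF E ?_
  intro R ha hr IH α hα
  have hRS : R ≤ S := ha.1
  haveI : Finite R := finite_of_le hRS
  obtain ⟨hQS, hQext⟩ := isNormal_iff.1 hQ
  obtain ⟨-, hsc⟩ := stronglyClosed_iff.1 (Cfsg.Agent.H86.IsNormal.stronglyClosed hQ)
  have hαM : Mor F R (autFun R α) := (mem_autGroup_iff hRS α).1 hα
  -- case (i): `Q` is not contained in `R`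
  by_cases hQR : Q ≤ R
  swap
  · refine (mem_autGroup_iff hRS α).2 ?_
    obtain ⟨f', hf', hf'f, -⟩ := hQext R _ hαM
    have hlt : R < R ⊔ Q := lt_of_le_of_ne le_sup_left (fun h => hQR (le_sup_right.trans h.ge))
    haveI : Finite (R ⊔ Q : Subgroup Ω) := finite_of_le hf'.le
    exact ((IH _ _ hf' (card_lt_card_of_lt hlt)).restrict le_sup_left).congr hf'f
  -- case (ii): `C_S(R)` is not contained in `R`
  by_cases hCR : centralizerIn S R ≤ R
  swap
  · refine (mem_autGroup_iff hRS α).2 ?_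
    obtain ⟨f', hf', hf'f⟩ := receptive_extend' hr hαM (imgS_autFun hαM)
    have hlt : R < extSub S R (autFun R α) :=
      lt_of_le_of_ne (le_extSub hαM) (fun h => hCR ((centralizerIn_le_extSub hαM).trans h.ge))
    haveI : Finite (extSub S R (autFun R α)) := finite_of_le hf'.le
    exact ((IH _ _ hf' (card_lt_card_of_lt hlt)).restrict (le_extSub hαM)).congr hf'f
  haveI : Finite Q := finite_of_le hQS
  -- case (iii-a): `Q·C_S(Q) ≤ R`
  by_cases hCQ : centralizerIn S Q ≤ R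
  · refine (mem_autGroup_iff hRS α).2 ?_
    have hαQ : ∀ x ∈ Q, autFun R α x ∈ Q := fun x hx => hsc Q _ le_rfl (hαM.restrict hQR) x hx
    have himQ : imgS Q (autFun R α) = Q := imgS_eq_of_maps (hαM.restrict hQR) hαQ
    have hDR : Q ⊔ centralizerIn S Q ≤ R := sup_le hQR hCQ
    refine h₂ R _ hαM hDR ?_
    have hαC : ∀ c ∈ centralizerIn S Q, autFun R α c ∈ centralizerIn S Q := by
      intro c hc
      rw [mem_centralizerIn_iff]
      refine ⟨hαM.mem (hCQ hc), fun y hy => ?_⟩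
      rw [← himQ] at hy
      obtain ⟨x, hx, rfl⟩ := (hαM.restrict hQR).mem_imgS.1 hy
      rw [← hαM.map_mul (hQR hx) (hCQ hc), ← hαM.map_mul (hCQ hc) (hQR hx),
        (mem_centralizerIn_iff.1 hc).2 x hx]
    haveI : Finite (centralizerIn S Q) := finite_of_le (S := S) inf_le_left
    have himC : imgS (centralizerIn S Q) (autFun R α) = centralizerIn S Q :=
      imgS_eq_of_maps (hαM.restrict hCQ) hαC
    rw [(hαM.restrict hDR).imgS_sup, himQ, himC]
  -- case (iii-b): Frattini argument in `Aut_F(R)`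
  have hCS : centralizerIn S Q ≤ S := inf_le_left
  have hCnorm : ∀ s ∈ S, ∀ c ∈ centralizerIn S Q, s * c * s⁻¹ ∈ centralizerIn S Q := by
    intro s hs c hc
    rw [mem_centralizerIn_iff] at hc ⊢
    refine ⟨S.mul_mem (S.mul_mem hs hc.1) (S.inv_mem hs), fun x hx => ?_⟩
    have hx' : s⁻¹ * x * s ∈ Q := by
      have := hsc Q (fun y => s⁻¹ * y * s⁻¹⁻¹) le_rfl (Mor.conj F hQS (S.inv_mem hs)) x hx
      simpa using this
    have h3 := hc.2 _ hx'
    calc x * (s * c * s⁻¹) = s * ((s⁻¹ * x * s) * c) * s⁻¹ := by group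
      _ = s * (c * (s⁻¹ * x * s)) * s⁻¹ := by rw [h3]
      _ = s * c * s⁻¹ * x := by group
  obtain ⟨c₀, hc₀C, hc₀N, hc₀R⟩ :
      ∃ c ∈ centralizerIn S Q, c ∈ Subgroup.normalizer (R : Set Ω) ∧ c ∉ R := by
    have hT : centralizerIn S Q ⊔ R ≤ S := sup_le hCS hRS
    have hlt : R < centralizerIn S Q ⊔ R :=
      lt_of_le_of_ne le_sup_right (fun h => hCQ (le_sup_left.trans h.ge))
    haveI : Finite (centralizerIn S Q ⊔ R : Subgroup Ω) := finite_of_le hT
    have hTp : IsPGroup p (centralizerIn S Q ⊔ R : Subgroup Ω) := hS.to_le hT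
    obtain ⟨g, hgN, hgR⟩ := exists_mem_normalizerIn_not_mem hTp hlt
    obtain ⟨hgT, hgN'⟩ := mem_normalizerIn_iff.1 hgN
    have hRC : R ≤ Subgroup.normalizer (centralizerIn S Q : Set Ω) := by
      intro r hr'
      refine mem_normalizer_of_forall_conj_mem (fun y hy => hCnorm r (hRS hr') y hy) (fun y hy => ?_)
      have := hCnorm r⁻¹ (S.inv_mem (hRS hr')) y hy
      simpa using this
    have e := Subgroup.coe_mul_of_right_le_normalizer_left (centralizerIn S Q) R hRC
    have hgT' : g ∈ ((centralizerIn S Q ⊔ R : Subgroup Ω) : Set Ω) := hgT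
    rw [e, Set.mem_mul] at hgT'
    obtain ⟨c, hc, r, hr', rfl⟩ := hgT'
    refine ⟨c, hc, ?_, fun hcR => hgR (R.mul_mem hcR hr')⟩
    have : c = (c * r) * r⁻¹ := by group
    rw [this]
    exact Subgroup.mul_mem _ hgN' (Subgroup.inv_mem _ (Subgroup.le_normalizer hr'))
  obtain ⟨P0, hP0⟩ := ha.2
  let X0 : Subgroup (MulAut R) :=
    { carrier := {β | ∀ x : R, (x : Ω) ∈ Q → β x = x}
      mul_mem' := fun {β γ} hβ hγ x hx => by
        show β (γ x) = x
        rw [hγ x hx, hβ x hx]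
      one_mem' := fun x _ => rfl
      inv_mem' := fun {β} hβ x hx => by
        show β⁻¹ x = x
        conv_lhs => rw [← hβ x hx]
        show (β⁻¹ * β) x = x
        rw [inv_mul_cancel]; rfl }
  let X : Subgroup (F.autGroup R) := X0.subgroupOf (F.autGroup R)
  have hXn : X.Normal := by
    constructor
    intro β hβ γ
    have hβ' : ∀ x : R, (x : Ω) ∈ Q → (β : MulAut R) x = x := Subgroup.mem_subgroupOf.1 hβ
    refine Subgroup.mem_subgroupOf.2 ?_
    intro x hx
    have hγinv : Mor F R (autFun R ((γ⁻¹ : F.autGroup R) : MulAut R)) :=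
      (mem_autGroup_iff hRS _).1 (γ⁻¹).2
    have hx' : ((((γ⁻¹ : F.autGroup R) : MulAut R) x : R) : Ω) ∈ Q := by
      have := hsc Q _ le_rfl (hγinv.restrict hQR) x hx
      rwa [autFun_apply] at this
    show (γ : MulAut R) ((β : MulAut R) (((γ⁻¹ : F.autGroup R) : MulAut R) x)) = x
    rw [hβ' _ hx']
    show ((γ : MulAut R) * ((γ⁻¹ : F.autGroup R) : MulAut R)) x = x
    rw [← Subgroup.coe_mul, mul_inv_cancel]; rfl
  have hfr := Sylow.normalizer_sup_eq_top (H40.sylowInfNormal P0 X)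
  rw [H40.coe_sylowInfNormal, Subgroup.subgroupOf_map_subtype] at hfr
  have hmem : (⟨α, hα⟩ : F.autGroup R) ∈
      Subgroup.normalizer ((((P0 : Subgroup (F.autGroup R)) ⊓ X : Subgroup (F.autGroup R))) : Set _) ⊔ X := by
    rw [hfr]; trivial
  rw [Subgroup.mem_sup_of_normal_right] at hmem
  obtain ⟨n, hn, x, hx, hnx⟩ := hmem
  -- the `X`-part is a map of `S·C_F(Q)`
  have hxE : Mor E R (autFun R (x : MulAut R)) := by
    have hxM : Mor F R (autFun R (x : MulAut R)) := (mem_autGroup_iff hRS _).1 x.2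
    have hx' : ∀ y : R, (y : Ω) ∈ Q → (x : MulAut R) y = y := Subgroup.mem_subgroupOf.1 hx
    refine h₁ R _ ⟨autFun R (x : MulAut R), ?_, fun _ _ => rfl, 1, S.one_mem, fun y hy => ?_⟩
    · rw [sup_eq_left.2 hQR]; exact hxM
    · rw [autFun_of_mem _ (hQR hy), hx' ⟨y, hQR hy⟩ hy]; simp
  -- the normalizer part extends to a larger subgroup
  have hnE : Mor E R (autFun R (n : MulAut R)) := by
    have hnM : Mor F R (autFun R (n : MulAut R)) := (mem_autGroup_iff hRS _).1 n.2
    obtain ⟨f', hf', hf'f⟩ := receptive_extend' hr hnM (imgS_autFun hnM)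
    have hc₀E : c₀ ∈ extSub S R (autFun R (n : MulAut R)) := by
      rw [mem_extSub_iff hnM]
      refine ⟨hCS hc₀C, hc₀N, ?_⟩
      obtain ⟨κ, hκ⟩ := exists_conjAut hc₀N
      have hκS : κ ∈ autInducedBy S R := (mem_autInducedBy_iff S R κ).2 ⟨c₀, hCS hc₀C, hκ⟩
      have hκA : κ ∈ F.autGroup R := autInducedBy_le_autGroup F hRS hκS
      have hκY : (⟨κ, hκA⟩ : F.autGroup R) ∈ (P0 : Subgroup (F.autGroup R)) ⊓ X := by
        refine ⟨?_, ?_⟩
        · show (⟨κ, hκA⟩ : F.autGroup R) ∈ (P0 : Subgroup (F.autGroup R))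
          rw [hP0]; exact Subgroup.mem_subgroupOf.2 hκS
        · refine Subgroup.mem_subgroupOf.2 ?_
          intro y hy
          apply Subtype.ext
          show ((κ y : R) : Ω) = y
          rw [hκ]
          have := (mem_centralizerIn_iff.1 hc₀C).2 y hy
          rw [← this]; group
      have hconj := (Subgroup.mem_normalizer_iff.1 hn ⟨κ, hκA⟩).1 hκY
      have h3 : ((n * ⟨κ, hκA⟩ * n⁻¹ : F.autGroup R) : MulAut R) ∈ autInducedBy S R := by
        have h4 : (n * ⟨κ, hκA⟩ * n⁻¹ : F.autGroup R) ∈ (P0 : Subgroup (F.autGroup R)) := hconj.1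
        rw [hP0] at h4
        exact Subgroup.mem_subgroupOf.1 h4
      obtain ⟨h, hh, Hh⟩ := (mem_autInducedBy_iff S R _).1 h3
      refine ⟨h, hh, fun y hy => ?_⟩
      have h5 := Hh ((n : MulAut R) ⟨y, hy⟩)
      have e1 : ((n * ⟨κ, hκA⟩ * n⁻¹ : F.autGroup R) : MulAut R) ((n : MulAut R) ⟨y, hy⟩)
          = (n : MulAut R) (κ ⟨y, hy⟩) := by
        show (n : MulAut R) (κ (((n⁻¹ : F.autGroup R) : MulAut R) ((n : MulAut R) ⟨y, hy⟩))) = _
        congr 2
        show (((n⁻¹ : F.autGroup R) : MulAut R) * (n : MulAut R)) ⟨y, hy⟩ = _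
        rw [← Subgroup.coe_mul, inv_mul_cancel]; rfl
      rw [e1] at h5
      have hcy : c₀ * y * c₀⁻¹ ∈ R := conj_mem_of_mem_normalizer hc₀N hy
      rw [autFun_of_mem _ hcy, autFun_of_mem _ hy, ← h5]
      congr 2
      exact Subtype.ext (hκ ⟨y, hy⟩).symm
    have hlt : R < extSub S R (autFun R (n : MulAut R)) :=
      lt_of_le_of_ne (le_extSub hnM) (fun h => hc₀R (h.ge hc₀E))
    haveI : Finite (extSub S R (autFun R (n : MulAut R))) := finite_of_le hf'.le
    exact ((IH _ _ hf' (card_lt_card_of_lt hlt)).restrict (le_extSub hnM)).congr hf'f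
  have h6 : ((n : MulAut R) * (x : MulAut R)) ∈ E.autGroup R :=
    (E.autGroup R).mul_mem ((mem_autGroup_iff hRS _).2 hnE) ((mem_autGroup_iff hRS _).2 hxE)
  have h7 : α = (n : MulAut R) * (x : MulAut R) := (congrArg Subtype.val hnx).symm
  rw [h7]; exact h6

end Cfsg.Agent.H29.MS
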