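import Mathlib

/-!
# Automorphisms of `p`-power order of an elementary abelian group of order at most `p ^ 2` (helper29)

Elementary "two-dimensional linear algebra" over the prime field, done by hand in a commutative
group `W` of exponent `p` with at most `p ^ 2` elements:

* `exists_fixed`: an automorphism of `p`-power order fixes a nontrivial element;
* `map_eq_mul_pow`: it moves every element by a power of any given nontrivial fixed element;
* `exists_inverting`: two such automorphisms with different fixed lines generate an automorphism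
  whose square is the inversion;
* `norm_eq_one`: for `p` odd, the norm `∏ θ^k y` over a full period is trivial.
-/

set_option autoImplicit false

namespace Cfsg.Agent.H29.MW

variable {W : Type*} [CommGroup W] [Finite W] {p : ℕ} [hp : Fact p.Prime]

lemma dvd_of_pow_mem_zpowers {z w : W} (hw : w ^ p = 1) (hwz : w ∉ Subgroup.zpowers z) {k : ℕ}
    (hk : w ^ k ∈ Subgroup.zpowers z) : p ∣ k := by
  by_contra hpk
  have hcop : Nat.Coprime k (orderOf w) := by
    have h1 : orderOf w ∣ p := orderOf_dvd_of_pow_eq_one hw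
    have h2 : Nat.Coprime k p := (Nat.Coprime.symm ((Nat.Prime.coprime_iff_not_dvd hp.out).2 hpk))
    exact Nat.Coprime.coprime_dvd_right h1 h2
  obtain ⟨m, hm⟩ := exists_pow_eq_self_of_coprime hcop
  exact hwz (hm ▸ Subgroup.pow_mem _ hk m)

lemma pow_eq_of_mul_eq {z e : W} (he : e ^ p = 1) (hez : e ∉ Subgroup.zpowers z) {m n m' n' : ℕ}
    (hn' : n' < p) (hnn : n ≤ n') (h : z ^ m * e ^ n = z ^ m' * e ^ n') : n = n' := by
  have h1 : e ^ (n' - n) ∈ Subgroup.zpowers z := by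
    have h2 : e ^ n' = e ^ (n' - n) * e ^ n := by rw [← pow_add, Nat.sub_add_cancel hnn]
    rw [h2, ← mul_assoc] at h
    have h3 : z ^ m = z ^ m' * e ^ (n' - n) := mul_right_cancel h
    have h4 : e ^ (n' - n) = (z ^ m')⁻¹ * z ^ m := by rw [h3]; group
    rw [h4]
    exact mul_mem (inv_mem (Subgroup.pow_mem _ (Subgroup.mem_zpowers z) _))
      (Subgroup.pow_mem _ (Subgroup.mem_zpowers z) _)
  have h5 := dvd_of_pow_mem_zpowers he hez h1
  have h6 : n' - n = 0 := Nat.eq_zero_of_dvd_of_lt h5 (by omega)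
  omega

lemma inj_two (hexp : ∀ a : W, a ^ p = 1) {z e : W} (hz : z ≠ 1) (hez : e ∉ Subgroup.zpowers z) :
    Function.Injective (fun x : Fin p × Fin p => z ^ (x.1 : ℕ) * e ^ (x.2 : ℕ)) := by
  rintro ⟨a, b⟩ ⟨a', b'⟩ h
  have h' : z ^ (a : ℕ) * e ^ (b : ℕ) = z ^ (a' : ℕ) * e ^ (b' : ℕ) := h
  have hb : (b : ℕ) = b' := by
    rcases Nat.le_total b b' with hle | hle
    · exact pow_eq_of_mul_eq (hexp e) hez b'.2 hle h'
    · exact (pow_eq_of_mul_eq (hexp e) hez b.2 hle h'.symm).symm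
  rw [hb] at h'
  have h2 : z ^ (a : ℕ) = z ^ (a' : ℕ) := mul_right_cancel h'
  have hoz : orderOf z = p := orderOf_eq_prime (hexp z) hz
  have ha : (a : ℕ) = a' :=
    pow_injOn_Iio_orderOf (x := z) (by rw [hoz]; exact a.2) (by rw [hoz]; exact a'.2) h2
  exact Prod.ext (Fin.ext ha) (Fin.ext hb)

lemma sq_le_card (hexp : ∀ a : W, a ^ p = 1) {z e : W} (hz : z ≠ 1) (hez : e ∉ Subgroup.zpowers z) :
    p ^ 2 ≤ Nat.card W := by
  have h := Nat.card_le_card_of_injective _ (inj_two hexp hz hez)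
  rw [Nat.card_prod, Nat.card_fin] at h
  rw [sq]
  exact h

lemma span_two (hexp : ∀ a : W, a ^ p = 1) (hcard : Nat.card W ≤ p ^ 2) {z e : W} (hz : z ≠ 1)
    (hez : e ∉ Subgroup.zpowers z) (w : W) : ∃ m n : ℕ, w = z ^ m * e ^ n := by
  have hcard' : Nat.card W ≤ Nat.card (Fin p × Fin p) := by
    rw [Nat.card_prod, Nat.card_fin, ← sq]
    exact hcard
  have hbij := Function.Injective.bijective_of_nat_card_le (inj_two hexp hz hez) hcard'
  obtain ⟨x, hx⟩ := hbij.2 w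
  exact ⟨x.1, x.2, hx.symm⟩

lemma exists_fixed (hW : IsPGroup p W) [hnt : Nontrivial W] (θ : MulAut W) {k : ℕ}
    (hθ : θ ^ p ^ k = 1) : ∃ z : W, z ≠ 1 ∧ θ z = z := by
  have hPG : IsPGroup p (Subgroup.zpowers θ) := by
    rintro ⟨g, hg⟩
    obtain ⟨n, rfl⟩ := Subgroup.mem_zpowers_iff.1 hg
    refine ⟨k, Subtype.ext ?_⟩
    show (θ ^ n) ^ p ^ k = 1
    rw [← zpow_natCast, ← zpow_mul, mul_comm, zpow_mul, zpow_natCast, hθ, one_zpow]
  have hdvd : p ∣ Nat.card W := by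
    obtain ⟨n, hn0, hn⟩ := hW.nontrivial_iff_card.mp hnt
    exact hn.symm ▸ dvd_pow_self _ (ne_of_gt hn0)
  have h1 : (1 : W) ∈ MulAction.fixedPoints (Subgroup.zpowers θ) W := by
    intro g
    show (g : MulAut W) (1 : W) = 1
    exact map_one _
  obtain ⟨b, hb, hne⟩ := hPG.exists_fixed_point_of_prime_dvd_card_of_fixed_point W hdvd h1
  refine ⟨b, fun h => hne h.symm, ?_⟩
  exact hb ⟨θ, Subgroup.mem_zpowers θ⟩

lemma map_eq_mul_pow (hexp : ∀ a : W, a ^ p = 1) (hcard : Nat.card W ≤ p ^ 2) (θ : MulAut W)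
    {k : ℕ} (hθ : θ ^ p ^ k = 1) {z : W} (hz : z ≠ 1) (hθz : θ z = z) (w : W) :
    ∃ a : ℕ, θ w = w * z ^ a := by
  by_cases hw : w ∈ Subgroup.zpowers z
  · obtain ⟨n, rfl⟩ := Subgroup.mem_zpowers_iff.1 hw
    exact ⟨0, by rw [map_zpow, hθz]; simp⟩
  · obtain ⟨m, n, hmn⟩ := span_two hexp hcard hz hw (θ w)
    have key : ∀ j : ℕ, ∃ mj : ℕ, (θ ^ j) w = z ^ mj * w ^ (n ^ j) := by
      intro j
      induction j with
      | zero => exact ⟨0, by simp⟩
      | succ j ih =>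
        obtain ⟨mj, hmj⟩ := ih
        refine ⟨mj + m * n ^ j, ?_⟩
        rw [pow_succ', MulAut.mul_apply, hmj, map_mul, map_pow, map_pow, hθz, hmn, mul_pow,
          ← pow_mul, ← pow_mul, pow_succ, pow_add, mul_assoc, mul_comm n]
    obtain ⟨M, hM⟩ := key (p ^ k)
    rw [hθ, MulAut.one_apply] at hM
    have hw1 : w ≠ 1 := fun h => hw (h ▸ one_mem _)
    have how : orderOf w = p := orderOf_eq_prime (hexp w) hw1
    have hN : n ^ p ^ k ≠ 0 := by
      intro h0
      rw [h0, pow_zero, mul_one] at hM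
      exact hw (hM ▸ Subgroup.pow_mem _ (Subgroup.mem_zpowers z) _)
    have h1 : w ^ (n ^ p ^ k - 1) ∈ Subgroup.zpowers z := by
      have h2 : w ^ (n ^ p ^ k) = w ^ (n ^ p ^ k - 1) * w := by
        rw [← pow_succ, Nat.sub_add_cancel (Nat.one_le_iff_ne_zero.2 hN)]
      rw [h2, ← mul_assoc] at hM
      have h3 : z ^ M * w ^ (n ^ p ^ k - 1) = 1 := by
        have : 1 * w = z ^ M * w ^ (n ^ p ^ k - 1) * w := by rw [one_mul]; exact hM
        exact (mul_right_cancel this).symm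
      have h4 : w ^ (n ^ p ^ k - 1) = (z ^ M)⁻¹ := eq_inv_of_mul_eq_one_right h3
      rw [h4]
      exact inv_mem (Subgroup.pow_mem _ (Subgroup.mem_zpowers z) _)
    have h5 := dvd_of_pow_mem_zpowers (hexp w) hw h1
    have h6 : ((n : ZMod p)) ^ p ^ k = 1 := by
      have h7 : ((n ^ p ^ k - 1 : ℕ) : ZMod p) = 0 := (ZMod.natCast_eq_zero_iff _ _).2 h5
      rw [Nat.cast_sub (Nat.one_le_iff_ne_zero.2 hN), Nat.cast_pow, Nat.cast_one, sub_eq_zero] at h7
      exact h7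
    rw [ZMod.pow_card_pow] at h6
    have h8 : n ≡ 1 [MOD p] := by
      rw [← ZMod.natCast_eq_natCast_iff, Nat.cast_one]
      exact h6
    have h9 : w ^ n = w := by
      have : w ^ n = w ^ 1 := by
        rw [pow_eq_pow_iff_modEq, how]
        exact h8
      rw [this, pow_one]
    refine ⟨m, ?_⟩
    rw [hmn, h9, mul_comm]

/-- Coordinates with respect to two elements. -/
def E (u v : W) (m n : ℤ) : W := u ^ m * v ^ n

lemma E_mul (u v : W) (m n m' n' : ℤ) : E u v m n * E u v m' n' = E u v (m + m') (n + n') := by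
  unfold E
  rw [zpow_add, zpow_add, mul_mul_mul_comm]

lemma E_zpow (u v : W) (m n k : ℤ) : (E u v m n) ^ k = E u v (m * k) (n * k) := by
  unfold E
  rw [mul_zpow, ← zpow_mul, ← zpow_mul]

lemma E_inv (u v : W) (m n : ℤ) : (E u v m n)⁻¹ = E u v (-m) (-n) := by
  unfold E
  rw [mul_inv, ← zpow_neg, ← zpow_neg]

lemma E_hom (u v : W) (h : MulAut W) {a b c d : ℤ} (hu : h u = E u v a b) (hv : h v = E u v c d)
    (m n : ℤ) : h (E u v m n) = E u v (a * m + c * n) (b * m + d * n) := by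
  have : h (E u v m n) = (h u) ^ m * (h v) ^ n := by
    unfold E
    rw [map_mul, map_zpow, map_zpow]
  rw [this, hu, hv, E_zpow, E_zpow, E_mul]

lemma E_congr {u v : W} (hu : u ^ p = 1) (hv : v ^ p = 1) {m n m' n' : ℤ}
    (hm : (p : ℤ) ∣ m - m') (hn : (p : ℤ) ∣ n - n') : E u v m n = E u v m' n' := by
  obtain ⟨s, hs⟩ := hm
  obtain ⟨t, ht⟩ := hn
  have h1 : m = m' + p * s := by omega
  have h2 : n = n' + p * t := by omega
  unfold E
  rw [h1, h2, zpow_add, zpow_add, zpow_mul, zpow_mul, zpow_natCast, zpow_natCast, hu, hv]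
  simp

lemma exists_inverting (hexp : ∀ a : W, a ^ p = 1) (hcard : Nat.card W ≤ p ^ 2) (x y : MulAut W)
    {k l : ℕ} (hx : x ^ p ^ k = 1) (hy : y ^ p ^ l = 1) {u v : W} (hu : u ≠ 1)
    (hvu : v ∉ Subgroup.zpowers u) (hxu : x u = u) (hyv : y v = v) (hx1 : x ≠ 1) (hy1 : y ≠ 1) :
    ∃ i j : ℕ, ∀ w : W, ((x ^ i * y ^ j) ^ 2) w = w⁻¹ := by
  have hp' := hp.out
  have hv : v ≠ 1 := fun h => hvu (h ▸ one_mem _)
  have hspan := span_two hexp hcard hu hvu
  obtain ⟨a, ha⟩ := map_eq_mul_pow hexp hcard x hx hu hxu v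
  obtain ⟨c, hc⟩ := map_eq_mul_pow hexp hcard y hy hv hyv u
  have hpa : ¬ p ∣ a := by
    rintro ⟨q, rfl⟩
    rw [pow_mul, hexp u, one_pow, mul_one] at ha
    apply hx1
    ext w
    obtain ⟨m, n, rfl⟩ := hspan w
    rw [map_mul, map_pow, map_pow, hxu, ha]
    rfl
  have hpc : ¬ p ∣ c := by
    rintro ⟨q, rfl⟩
    rw [pow_mul, hexp v, one_pow, mul_one] at hc
    apply hy1
    ext w
    obtain ⟨m, n, rfl⟩ := hspan w
    rw [map_mul, map_pow, map_pow, hyv, hc]
    rfl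
  have ha0 : (a : ZMod p) ≠ 0 := fun h => hpa ((ZMod.natCast_eq_zero_iff _ _).1 h)
  have hc0 : (c : ZMod p) ≠ 0 := fun h => hpc ((ZMod.natCast_eq_zero_iff _ _).1 h)
  refine ⟨((a : ZMod p)⁻¹).val, ((-2 : ZMod p) * (c : ZMod p)⁻¹).val, ?_⟩
  set i := ((a : ZMod p)⁻¹).val with hi
  set j := ((-2 : ZMod p) * (c : ZMod p)⁻¹).val with hj
  have hA : (((i : ℤ) * (a : ℤ) : ℤ) : ZMod p) = 1 := by
    push_cast
    rw [hi, ZMod.natCast_zmod_val, inv_mul_cancel₀ ha0]
  have hC : (((j : ℤ) * (c : ℤ) : ℤ) : ZMod p) = -2 := by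
    push_cast
    rw [hj, ZMod.natCast_zmod_val, mul_assoc, inv_mul_cancel₀ hc0, mul_one]
  have hxi : ∀ i : ℕ, (x ^ i) v = v * u ^ (i * a) ∧ (x ^ i) u = u := by
    intro i
    induction i with
    | zero => simp
    | succ i ih =>
      rw [pow_succ', MulAut.mul_apply, MulAut.mul_apply, ih.1, ih.2, map_mul, map_pow, hxu, ha]
      refine ⟨?_, rfl⟩
      rw [mul_assoc, ← pow_add]
      congr 2
      ring
  have hyj : ∀ j : ℕ, (y ^ j) u = u * v ^ (j * c) ∧ (y ^ j) v = v := by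
    intro j
    induction j with
    | zero => simp
    | succ j ih =>
      rw [pow_succ', MulAut.mul_apply, MulAut.mul_apply, ih.1, ih.2, map_mul, map_pow, hyv, hc]
      refine ⟨?_, rfl⟩
      rw [mul_assoc, ← pow_add]
      congr 2
      ring
  have hEu : u = E u v 1 0 := by simp [E]
  have hEv : v = E u v 0 1 := by simp [E]
  have hxu' : (x ^ i) u = E u v 1 0 := by rw [(hxi i).2]; exact hEu
  have hxv' : (x ^ i) v = E u v ((i : ℤ) * a) 1 := by
    rw [(hxi i).1]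
    unfold E
    rw [zpow_one, mul_comm, ← zpow_natCast]
    push_cast
    rfl
  have hyu' : (y ^ j) u = E u v 1 ((j : ℤ) * c) := by
    rw [(hyj j).1]
    unfold E
    rw [zpow_one, ← zpow_natCast]
    push_cast
    rfl
  have hyv' : (y ^ j) v = E u v 0 1 := by rw [(hyj j).2]; exact hEv
  have hg : ∀ m n : ℤ, (x ^ i * y ^ j) (E u v m n) =
      E u v (1 * (1 * m + 0 * n) + ((i : ℤ) * a) * (((j : ℤ) * c) * m + 1 * n))
        (0 * (1 * m + 0 * n) + 1 * (((j : ℤ) * c) * m + 1 * n)) := by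
    intro m n
    rw [MulAut.mul_apply, E_hom u v (y ^ j) hyu' hyv', E_hom u v (x ^ i) hxu' hxv']
  intro w
  obtain ⟨m, n, rfl⟩ := hspan w
  have hw : u ^ m * v ^ n = E u v (m : ℤ) (n : ℤ) := by
    unfold E
    rw [zpow_natCast, zpow_natCast]
  rw [hw, pow_two, MulAut.mul_apply, hg, hg, E_inv]
  apply E_congr (hexp u) (hexp v)
  · rw [← ZMod.intCast_zmod_eq_zero_iff_dvd]
    set A : ℤ := (i : ℤ) * a with hAdef
    set C : ℤ := (j : ℤ) * c with hCdef
    push_cast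
    rw [hA, hC]
    ring
  · rw [← ZMod.intCast_zmod_eq_zero_iff_dvd]
    set A : ℤ := (i : ℤ) * a with hAdef
    set C : ℤ := (j : ℤ) * c with hCdef
    push_cast
    rw [hA, hC]
    ring

lemma norm_eq_one (hp2 : p ≠ 2) (hW : IsPGroup p W) (hexp : ∀ a : W, a ^ p = 1)
    (hcard : Nat.card W ≤ p ^ 2) (θ : MulAut W) {k : ℕ} (hθ : θ ^ p ^ k = 1) (y : W) (s : ℕ → W)
    (hs0 : s 0 = 1) (hs : ∀ n, s (n + 1) = s n * (θ ^ (n + 1)) y) : s p = 1 := by
  have hp' := hp.out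
  rcases subsingleton_or_nontrivial W with hsub | hnt
  · exact Subsingleton.elim _ _
  obtain ⟨z, hz, hθz⟩ := exists_fixed hW θ hθ
  obtain ⟨a, ha⟩ := map_eq_mul_pow hexp hcard θ hθ hz hθz y
  have hθk : ∀ n : ℕ, (θ ^ n) y = y * z ^ (n * a) ∧ (θ ^ n) z = z := by
    intro n
    induction n with
    | zero => simp
    | succ n ih =>
      rw [pow_succ', MulAut.mul_apply, MulAut.mul_apply, ih.1, ih.2, map_mul, map_pow, hθz, ha]
      refine ⟨?_, rfl⟩
      rw [mul_assoc, ← pow_add]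
      congr 2
      ring
  have hsn : ∀ n : ℕ, s n = y ^ n * z ^ (a * ∑ i ∈ Finset.range (n + 1), i) := by
    intro n
    induction n with
    | zero => simp [hs0]
    | succ n ih =>
      have e1 : ∑ i ∈ Finset.range (n + 1 + 1), i = ∑ i ∈ Finset.range (n + 1), i + (n + 1) :=
        Finset.sum_range_succ _ _
      rw [hs, ih, (hθk (n + 1)).1, e1, mul_add, pow_add z, pow_succ y, mul_mul_mul_comm,
        mul_comm (n + 1) a]
  rw [hsn p, hexp y, one_mul]
  have hdvd : p ∣ ∑ i ∈ Finset.range (p + 1), i := by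
    have h1 := Finset.sum_range_id_mul_two (p + 1)
    have h2 : p ∣ (∑ i ∈ Finset.range (p + 1), i) * 2 := by
      rw [h1]
      exact ⟨p + 1, by simp [mul_comm]⟩
    have hcop : Nat.Coprime p 2 := by
      rw [Nat.Prime.coprime_iff_not_dvd hp']
      intro h
      exact hp2 ((Nat.prime_dvd_prime_iff_eq hp' Nat.prime_two).1 h)
    exact hcop.dvd_of_dvd_mul_right h2
  obtain ⟨q, hq⟩ := hdvd
  rw [hq, ← mul_assoc, mul_comm a p, mul_assoc, pow_mul, hexp z, one_pow]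

end Cfsg.Agent.H29.MW

/-! ### Versions for a group with a commutativity hypothesis -/

namespace Cfsg.Agent.H29.MW

variable {W : Type*} [Group W] [Finite W] {p : ℕ} [hp : Fact p.Prime]

theorem sq_le_card' (hcomm : ∀ a b : W, a * b = b * a) (hexp : ∀ a : W, a ^ p = 1) {z e : W}
    (hz : z ≠ 1) (hez : e ∉ Subgroup.zpowers z) : p ^ 2 ≤ Nat.card W := by
  letI : CommGroup W := { ‹Group W› with mul_comm := hcomm }
  exact sq_le_card hexp hz hez

theorem exists_fixed' (hcomm : ∀ a b : W, a * b = b * a) (hW : IsPGroup p W) [hnt : Nontrivial W]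
    (θ : MulAut W) {k : ℕ} (hθ : θ ^ p ^ k = 1) : ∃ z : W, z ≠ 1 ∧ θ z = z := by
  letI : CommGroup W := { ‹Group W› with mul_comm := hcomm }
  exact exists_fixed hW θ hθ

theorem map_eq_mul_pow' (hcomm : ∀ a b : W, a * b = b * a) (hexp : ∀ a : W, a ^ p = 1)
    (hcard : Nat.card W ≤ p ^ 2) (θ : MulAut W) {k : ℕ} (hθ : θ ^ p ^ k = 1) {z : W} (hz : z ≠ 1)
    (hθz : θ z = z) (w : W) : ∃ a : ℕ, θ w = w * z ^ a := by
  letI : CommGroup W := { ‹Group W› with mul_comm := hcomm }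
  exact map_eq_mul_pow hexp hcard θ hθ hz hθz w

theorem exists_inverting' (hcomm : ∀ a b : W, a * b = b * a) (hexp : ∀ a : W, a ^ p = 1)
    (hcard : Nat.card W ≤ p ^ 2) (x y : MulAut W) {k l : ℕ} (hx : x ^ p ^ k = 1)
    (hy : y ^ p ^ l = 1) {u v : W} (hu : u ≠ 1) (hvu : v ∉ Subgroup.zpowers u) (hxu : x u = u)
    (hyv : y v = v) (hx1 : x ≠ 1) (hy1 : y ≠ 1) :
    ∃ i j : ℕ, ∀ w : W, ((x ^ i * y ^ j) ^ 2) w = w⁻¹ := by
  letI : CommGroup W := { ‹Group W› with mul_comm := hcomm }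
  exact exists_inverting hexp hcard x y hx hy hu hvu hxu hyv hx1 hy1

theorem norm_eq_one' (hcomm : ∀ a b : W, a * b = b * a) (hp2 : p ≠ 2) (hW : IsPGroup p W)
    (hexp : ∀ a : W, a ^ p = 1) (hcard : Nat.card W ≤ p ^ 2) (θ : MulAut W) {k : ℕ}
    (hθ : θ ^ p ^ k = 1) (y : W) (s : ℕ → W) (hs0 : s 0 = 1)
    (hs : ∀ n, s (n + 1) = s n * (θ ^ (n + 1)) y) : s p = 1 := by
  letI : CommGroup W := { ‹Group W› with mul_comm := hcomm }
  exact norm_eq_one hp2 hW hexp hcard θ hθ y s hs0 hs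

end Cfsg.Agent.H29.MW
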