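import Mathlib
import Cfsg.Prelude.Def_OddOrderLocal
import Cfsg.Agent.H29.MetaW
import Cfsg.Agent.H76.FrattiniAut
import Cfsg.Agent.H3.PGroup
import Cfsg.Agent.H86.GrpLemmas

/-!
# Groups acting on a `p`-group with Frattini quotient of order at most `p ^ 2` (helper29)

* `frQuot`: the action of `Aut V` on `V / Φ(V)`;
* `exists_inverting_aut`: a non-`p`-closed action on a `p`-group whose Frattini quotient has order
  at most `p ^ 2` contains an element inverting the Frattini quotient;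
* `pow_mul_mem_frattini`: `(c y) ^ p ≡ c ^ p` modulo `Φ(Q)` for `p` odd;
* `card_le_of_metacyclic`: sections of exponent `p` of a metacyclic group have order at most `p ^ 2`.
-/

set_option autoImplicit false

namespace Cfsg.Agent.H29.MW

open Cfsg

section FrQuot
variable (V : Type*) [Group V]

/-- The action of automorphisms on the Frattini quotient. -/
noncomputable def frQuot : MulAut V →* MulAut (V ⧸ frattini V) where
  toFun e := QuotientGroup.congr (frattini V) (frattini V) e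
    (Subgroup.characteristic_iff_map_eq.1 inferInstance e)
  map_one' := by
    ext x
    induction x using QuotientGroup.induction_on
    rfl
  map_mul' := by
    intro e f
    ext x
    induction x using QuotientGroup.induction_on
    rfl

variable {V}

lemma frQuot_mk (e : MulAut V) (v : V) :
    frQuot V e (QuotientGroup.mk v) = QuotientGroup.mk (e v) := rfl

end FrQuot

section
variable {V : Type*} [Group V] [Finite V] {p : ℕ} [Fact p.Prime]

lemma frQuot_comm (hV : IsPGroup p V) (a b : V ⧸ frattini V) : a * b = b * a := by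
  have h : IsMulCommutative (V ⧸ frattini V) :=
    Subgroup.Normal.quotient_commutative_iff_commutator_le.2 (H3.commutator_le_frattini hV)
  exact h.is_comm.comm a b

lemma frQuot_exp (hV : IsPGroup p V) (a : V ⧸ frattini V) : a ^ p = 1 := by
  induction a using QuotientGroup.induction_on with
  | H v =>
    rw [← QuotientGroup.mk_pow, QuotientGroup.eq_one_iff]
    exact H3.pow_mem_frattini hV v

lemma frQuot_ker_isPGroup (hV : IsPGroup p V) : IsPGroup p (frQuot V).ker := by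
  have hp := Fact.out (p := p.Prime)
  obtain ⟨n, hn⟩ := IsPGroup.iff_card.mp hV
  obtain ⟨r, -, hr⟩ := (Nat.dvd_prime_pow hp).mp (hn ▸ Subgroup.index_dvd_card (frattini V))
  have hB : ∀ β ∈ (frQuot V).ker, ∀ v : V, β v * v⁻¹ ∈ frattini V := by
    intro β hβ v
    have h1 : frQuot V β (QuotientGroup.mk v) = QuotientGroup.mk v := by
      rw [MonoidHom.mem_ker.1 hβ]; rfl
    rw [frQuot_mk, QuotientGroup.eq] at h1
    have h2 := (inferInstance : (frattini V).Normal).conj_mem _ (inv_mem h1) (β v)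
    have h3 : β v * ((β v)⁻¹ * v)⁻¹ * (β v)⁻¹ = β v * v⁻¹ := by group
    rwa [h3] at h2
  have hdvd := H76.card_dvd_of_trivial_on_frattini hn hr (frQuot V).ker hB
  obtain ⟨m, -, hm⟩ := (Nat.dvd_prime_pow hp).mp hdvd
  exact IsPGroup.of_card hm

end

theorem exists_inverting_aut {G V : Type*} [Group G] [Finite G] [Group V] [Finite V] {p : ℕ}
    [Fact p.Prime] (hV : IsPGroup p V) (res : G →* MulAut V) (C : Subgroup G) [hCn : C.Normal]
    (hC : ∀ g ∈ C, res g = 1 → ∃ k : ℕ, g ^ p ^ k = 1)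
    (hcard : Nat.card (V ⧸ frattini V) ≤ p ^ 2)
    (τ : G) (hτC : τ ∈ C) {k : ℕ} (hτp : τ ^ p ^ k = 1) (hτ : τ ∉ pCore p G) :
    ∃ ζ ∈ C, (∀ v : V, v * res ζ v ∈ frattini V) ∧ ζ * τ * ζ⁻¹ * τ⁻¹ ∈ pCore p G ∧
      Nat.card (V ⧸ frattini V) = p ^ 2 := by
  have hp := Fact.out (p := p.Prime)
  have hcomm : ∀ a b : V ⧸ frattini V, a * b = b * a := frQuot_comm hV
  have hexp : ∀ a : V ⧸ frattini V, a ^ p = 1 := frQuot_exp hV
  have hWp : IsPGroup p (V ⧸ frattini V) := hV.to_quotient _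
  set ρ : G →* MulAut (V ⧸ frattini V) := (frQuot V).comp res with hρ
  have hKn : (C ⊓ ρ.ker).Normal := inferInstance
  have hKp : ∀ g ∈ C ⊓ ρ.ker, ∃ k : ℕ, g ^ p ^ k = 1 := by
    rintro g ⟨hgC, hgk⟩
    have h1 : res g ∈ (frQuot V).ker := by
      rw [MonoidHom.mem_ker]; exact MonoidHom.mem_ker.1 hgk
    obtain ⟨a, ha⟩ := (frQuot_ker_isPGroup hV) ⟨res g, h1⟩
    have ha' : res g ^ p ^ a = 1 := by
      have := congrArg Subtype.val ha
      simpa using this
    have h2 : res (g ^ p ^ a) = 1 := by rw [map_pow, ha']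
    obtain ⟨b, hb⟩ := hC _ (C.pow_mem hgC _) h2
    exact ⟨a + b, by rw [pow_add, pow_mul, hb]⟩
  have hKpG : IsPGroup p (C ⊓ ρ.ker : Subgroup G) := by
    rintro ⟨g, hg⟩
    obtain ⟨k, hk⟩ := hKp g hg
    exact ⟨k, Subtype.ext hk⟩
  have hKle : C ⊓ ρ.ker ≤ pCore p G := H86.le_pCore hKn hKpG
  -- Step A
  have hA : ρ τ ≠ 1 := fun h => hτ (hKle ⟨hτC, MonoidHom.mem_ker.2 h⟩)
  have hnt : Nontrivial (V ⧸ frattini V) := by
    by_contra hnt
    rw [not_nontrivial_iff_subsingleton] at hnt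
    exact hA (MulEquiv.ext fun w => Subsingleton.elim _ _)
  have hτρ : (ρ τ) ^ p ^ k = 1 := by rw [← map_pow, hτp, map_one]
  obtain ⟨z, hz, hτz⟩ := exists_fixed' hcomm hWp (ρ τ) hτρ
  -- Step B
  have hB : ∃ γ : G, ρ γ z ∉ Subgroup.zpowers z := by
    by_contra hcon
    simp only [not_exists, not_not] at hcon
    have hcon' : ∀ γ : G, ∃ n : ℕ, ρ γ z = z ^ n := by
      intro γ
      have h1 := hcon γ
      rw [← mem_powers_iff_mem_zpowers] at h1
      obtain ⟨n, hn⟩ := (Submonoid.mem_powers_iff _ _).1 h1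
      exact ⟨n, hn.symm⟩
    let U : Subgroup G :=
      { carrier := {g | g ∈ C ∧ ρ g z = z ∧ ∀ w, ∃ a : ℕ, ρ g w = w * z ^ a}
        one_mem' := ⟨C.one_mem, by simp, fun w => ⟨0, by simp⟩⟩
        mul_mem' := by
          rintro g h ⟨hgC, hgz, hg⟩ ⟨hhC, hhz, hh⟩
          refine ⟨C.mul_mem hgC hhC, by rw [map_mul, MulAut.mul_apply, hhz, hgz], fun w => ?_⟩
          obtain ⟨b, hb⟩ := hh w
          obtain ⟨a, ha⟩ := hg w
          exact ⟨a + b, by
            rw [map_mul, MulAut.mul_apply, hb, map_mul, map_pow, hgz, ha, mul_assoc, ← pow_add]⟩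
        inv_mem' := by
          rintro g ⟨hgC, hgz, hg⟩
          have hinvz : ρ g⁻¹ z = z := by
            rw [map_inv]
            nth_rewrite 1 [← hgz]
            exact MulAut.inv_apply_self _ _ _
          refine ⟨C.inv_mem hgC, hinvz, fun w => ?_⟩
          obtain ⟨a, ha⟩ := hg (ρ g⁻¹ w)
          have h1 : ρ g (ρ g⁻¹ w) = w := by rw [map_inv]; exact MulAut.apply_inv_self _ _ _
          rw [h1] at ha
          refine ⟨(p - 1) * a, ?_⟩
          have e : a + (p - 1) * a = p * a := by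
            have h1 : p - 1 + 1 = p := Nat.sub_add_cancel hp.one_lt.le
            calc a + (p - 1) * a = (p - 1 + 1) * a := by ring
              _ = p * a := by rw [h1]
          have h2 : z ^ a * z ^ ((p - 1) * a) = 1 := by
            rw [← pow_add, e, pow_mul, hexp z, one_pow]
          nth_rewrite 2 [ha]
          rw [mul_assoc, h2, mul_one] }
    have hUn : U.Normal := by
      constructor
      rintro g ⟨hgC, hgz, hg⟩ γ
      obtain ⟨n, hn⟩ := hcon' γ
      obtain ⟨n', hn'⟩ := hcon' γ⁻¹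
      refine ⟨hCn.conj_mem g hgC γ, ?_, fun w => ?_⟩
      · rw [map_mul, map_mul, MulAut.mul_apply, MulAut.mul_apply, hn', map_pow, hgz, ← hn', map_inv]
        exact MulAut.apply_inv_self _ _ _
      · obtain ⟨a, ha⟩ := hg (ρ γ⁻¹ w)
        refine ⟨n * a, ?_⟩
        rw [map_mul, map_mul, MulAut.mul_apply, MulAut.mul_apply, ha, map_mul, map_pow, hn,
          ← pow_mul, map_inv, MulAut.apply_inv_self]
    have hUp : IsPGroup p U := by
      rintro ⟨g, hgC, hgz, hg⟩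
      have h1 : g ^ p ∈ C ⊓ ρ.ker := by
        refine ⟨C.pow_mem hgC _, ?_⟩
        show g ^ p ∈ ρ.ker
        rw [MonoidHom.mem_ker, map_pow]
        ext w
        obtain ⟨a, ha⟩ := hg w
        have h2 : ∀ n : ℕ, ((ρ g) ^ n) w = w * z ^ (n * a) := by
          intro n
          induction n with
          | zero => simp
          | succ n ih =>
            rw [pow_succ', MulAut.mul_apply, ih, map_mul, map_pow, hgz, ha, mul_assoc, ← pow_add]
            congr 2
            ring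
        rw [h2 p, pow_mul, hexp z, one_pow, mul_one]
        rfl
      obtain ⟨m, hm⟩ := hKp _ h1
      exact ⟨m + 1, Subtype.ext (by
        show g ^ p ^ (m + 1) = 1
        rw [pow_succ', pow_mul, hm])⟩
    have hτU : τ ∈ U :=
      ⟨hτC, hτz, fun w => map_eq_mul_pow' hcomm hexp hcard (ρ τ) hτρ hz hτz w⟩
    exact hτ (H86.le_pCore hUn hUp hτU)
  -- Step C
  obtain ⟨γ, hγ⟩ := hB
  set y : G := γ * τ * γ⁻¹ with hy
  have hyC : y ∈ C := hCn.conj_mem τ hτC γ
  have hyv : ρ y (ρ γ z) = ρ γ z := by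
    rw [hy, map_mul, map_mul, MulAut.mul_apply, MulAut.mul_apply, map_inv, MulAut.inv_apply_self,
      hτz]
  have hyρ : (ρ y) ^ p ^ k = 1 := by
    rw [← map_pow, hy, conj_pow, hτp]
    simp
  have hy1 : ρ y ≠ 1 := by
    intro h
    apply hA
    have : ρ τ = (ρ γ)⁻¹ * ρ y * ρ γ := by
      rw [hy]
      simp [mul_assoc]
    rw [this, h]
    simp
  obtain ⟨i, j, hij⟩ := exists_inverting' hcomm hexp hcard (ρ τ) (ρ y) hτρ hyρ hz hγ hτz hyv hA hy1
  set ζ : G := (τ ^ i * y ^ j) ^ 2 with hζ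
  have hζC : ζ ∈ C := C.pow_mem (C.mul_mem (C.pow_mem hτC _) (C.pow_mem hyC _)) _
  have hζρ : ∀ w, ρ ζ w = w⁻¹ := by
    intro w
    rw [hζ, map_pow, map_mul, map_pow, map_pow]
    exact hij w
  refine ⟨ζ, hζC, fun v => ?_, ?_, ?_⟩
  · have h1 := hζρ (QuotientGroup.mk v)
    have h2 : ρ ζ (QuotientGroup.mk v) = QuotientGroup.mk (res ζ v) := rfl
    rw [h2, ← QuotientGroup.mk_inv, QuotientGroup.eq] at h1
    have h3 := inv_mem h1
    rwa [mul_inv_rev, inv_inv, inv_inv] at h3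
  · apply hKle
    refine ⟨?_, ?_⟩
    · exact C.mul_mem (C.mul_mem (C.mul_mem hζC hτC) (C.inv_mem hζC)) (C.inv_mem hτC)
    · show ζ * τ * ζ⁻¹ * τ⁻¹ ∈ ρ.ker
      rw [MonoidHom.mem_ker, map_mul, map_mul, map_mul, map_inv, map_inv]
      have hcm : ρ ζ * ρ τ = ρ τ * ρ ζ := by
        ext w
        rw [MulAut.mul_apply, MulAut.mul_apply, hζρ, hζρ, map_inv]
      rw [hcm]
      group
  · exact le_antisymm hcard (sq_le_card' hcomm hexp hz hγ)

theorem pow_mul_mem_frattini {Ω : Type*} [Group Ω] {p : ℕ} [Fact p.Prime] (hp2 : p ≠ 2)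
    (Q : Subgroup Ω) [Finite Q] (hQ : IsPGroup p Q) (hcard : Nat.card (↥Q ⧸ frattini ↥Q) ≤ p ^ 2)
    (c : Ω) (hc : c ∈ Subgroup.normalizer (Q : Set Ω)) {k : ℕ} (hck : c ^ p ^ k = 1)
    (y : Ω) (hy : y ∈ Q) : (c * y) ^ p * (c ^ p)⁻¹ ∈ (frattini ↥Q).map Q.subtype := by
  have hcn : ∀ (n : ℕ) (x : Ω), x ∈ Q → c ^ n * x * (c ^ n)⁻¹ ∈ Q := fun n x hx =>
    (Subgroup.mem_normalizer_iff.1 (Subgroup.pow_mem _ hc n) x).1 hx
  have hcn' : ∀ x : Ω, x ∈ Q → c⁻¹ * x * c ∈ Q := fun x hx => by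
    have := (Subgroup.mem_normalizer_iff.1 (Subgroup.inv_mem _ hc) x).1 hx
    simpa using this
  let θ : MulAut ↥Q :=
    { toFun := fun x => ⟨c * x * c⁻¹, (Subgroup.mem_normalizer_iff.1 hc x).1 x.2⟩
      invFun := fun x => ⟨c⁻¹ * x * c, hcn' x x.2⟩
      left_inv := fun x => Subtype.ext (by simp [mul_assoc])
      right_inv := fun x => Subtype.ext (by simp [mul_assoc])
      map_mul' := fun x y => Subtype.ext (by simp [mul_assoc]) }
  have hθ1 : ∀ x : ↥Q, ((θ x : ↥Q) : Ω) = c * x * c⁻¹ := fun x => rfl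
  have hθn : ∀ (n : ℕ) (x : ↥Q), (((θ ^ n) x : ↥Q) : Ω) = c ^ n * x * (c ^ n)⁻¹ := by
    intro n
    induction n with
    | zero => intro x; simp
    | succ n ih =>
      intro x
      rw [pow_succ', MulAut.mul_apply, hθ1, ih, pow_succ']
      group
  have hθ : θ ^ p ^ k = 1 := by
    apply MulEquiv.ext
    intro x
    apply Subtype.ext
    rw [hθn, hck]
    simp
  have hθ' : (frQuot ↥Q θ) ^ p ^ k = 1 := by rw [← map_pow, hθ, map_one]
  let s : ℕ → ↥Q ⧸ frattini ↥Q := fun n =>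
    Nat.rec 1 (fun m acc => acc * ((frQuot ↥Q θ) ^ (m + 1)) (QuotientGroup.mk ⟨y, hy⟩)) n
  have hs0 : s 0 = 1 := rfl
  have hs : ∀ n, s (n + 1) = s n * ((frQuot ↥Q θ) ^ (n + 1)) (QuotientGroup.mk ⟨y, hy⟩) :=
    fun n => rfl
  have hsp := norm_eq_one' (frQuot_comm hQ) hp2 (hQ.to_quotient _) (frQuot_exp hQ) hcard
    (frQuot ↥Q θ) hθ' (QuotientGroup.mk ⟨y, hy⟩) s hs0 hs
  have key : ∀ n : ℕ, ∃ h : (c * y) ^ n * (c ^ n)⁻¹ ∈ Q,
      (QuotientGroup.mk ⟨_, h⟩ : ↥Q ⧸ frattini ↥Q) = s n := by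
    intro n
    induction n with
    | zero =>
      refine ⟨by simp, ?_⟩
      rw [hs0, QuotientGroup.eq_one_iff]
      have : (⟨(c * y) ^ 0 * (c ^ 0)⁻¹, by simp⟩ : ↥Q) = 1 := Subtype.ext (by simp)
      rw [this]
      exact one_mem _
    | succ n ih =>
      obtain ⟨h, hn⟩ := ih
      have e : (c * y) ^ (n + 1) * (c ^ (n + 1))⁻¹ =
          ((c * y) ^ n * (c ^ n)⁻¹) * (c ^ (n + 1) * y * (c ^ (n + 1))⁻¹) := by
        rw [pow_succ (c * y), pow_succ c]
        generalize (c * y) ^ n = a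
        generalize c ^ n = b
        group
      have h' : (c * y) ^ (n + 1) * (c ^ (n + 1))⁻¹ ∈ Q := by
        rw [e]
        exact Q.mul_mem h (hcn (n + 1) y hy)
      refine ⟨h', ?_⟩
      rw [hs, ← hn]
      have h1 : ((frQuot ↥Q θ) ^ (n + 1)) (QuotientGroup.mk ⟨y, hy⟩) =
          QuotientGroup.mk ((θ ^ (n + 1)) ⟨y, hy⟩) := by
        rw [← map_pow]
        rfl
      rw [h1, ← QuotientGroup.mk_mul]
      congr 1
      apply Subtype.ext
      rw [Subgroup.coe_mul, hθn]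
      exact e
  obtain ⟨h, hh⟩ := key p
  rw [hsp, QuotientGroup.eq_one_iff] at hh
  exact ⟨⟨_, h⟩, hh, rfl⟩

theorem card_le_of_metacyclic {Ω : Type*} [Group Ω] (p : ℕ) (hp : 0 < p) (P : Subgroup Ω)
    (hm : IsMetacyclic ↥P) (E D : Subgroup Ω) [Finite E] (hDE : D ≤ E) (hEP : E ≤ P)
    (hnorm : ∀ g ∈ E, ∀ d ∈ D, g * d * g⁻¹ ∈ D) (hpow : ∀ g ∈ E, g ^ p ∈ D) :
    Nat.card E ≤ p ^ 2 * Nat.card D := by
  obtain ⟨N, hN, hNc, hQc⟩ := hm
  let φ : ↥E →* ↥P ⧸ N := (QuotientGroup.mk' N).comp (Subgroup.inclusion hEP)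
  obtain ⟨⟨g0, b, rfl⟩, hg0⟩ := IsCyclic.exists_generator (α := ↥φ.range)
  let NE : Subgroup ↥E := N.comap (Subgroup.inclusion hEP)
  have hNEc : IsCyclic ↥NE := by
    let f : ↥NE →* ↥N :=
      ((Subgroup.inclusion hEP).comp NE.subtype).codRestrict N (fun x => x.2)
    exact isCyclic_of_injective f (by
      intro x y hxy
      have := congrArg Subtype.val hxy
      exact Subtype.ext (Subgroup.inclusion_injective hEP this))
  obtain ⟨⟨a, haN⟩, ha⟩ := IsCyclic.exists_generator (α := ↥NE)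
  have hrep : ∀ e : ↥E, ∃ i j : ℤ, e = a ^ i * b ^ j := by
    intro e
    have h1 := hg0 ⟨φ e, e, rfl⟩
    obtain ⟨j, hj⟩ := Subgroup.mem_zpowers_iff.1 h1
    have hj' : φ b ^ j = φ e := by
      have := congrArg Subtype.val hj
      simpa using this
    have h2 : e * (b ^ j)⁻¹ ∈ NE := by
      show Subgroup.inclusion hEP (e * (b ^ j)⁻¹) ∈ N
      rw [← QuotientGroup.eq_one_iff]
      show φ (e * (b ^ j)⁻¹) = 1
      rw [map_mul, map_inv, map_zpow, hj', mul_inv_cancel]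
    obtain ⟨i, hi⟩ := Subgroup.mem_zpowers_iff.1 (ha ⟨_, h2⟩)
    have hi' : a ^ i = e * (b ^ j)⁻¹ := by
      have := congrArg Subtype.val hi
      simpa using this
    exact ⟨i, j, by rw [hi']; group⟩
  have hfin : Finite ↥D :=
    Finite.of_injective (Subgroup.inclusion hDE) (Subgroup.inclusion_injective hDE)
  let f : Fin p × Fin p × ↥D → ↥E := fun x =>
    a ^ (x.1 : ℕ) * b ^ (x.2.1 : ℕ) * Subgroup.inclusion hDE x.2.2
  have hsurj : Function.Surjective f := by
    intro e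
    obtain ⟨i, j, rfl⟩ := hrep e
    have hpz : (p : ℤ) ≠ 0 := by exact_mod_cast hp.ne'
    have hpz' : (0 : ℤ) < p := by exact_mod_cast hp
    have hi0 := Int.emod_nonneg i hpz
    have hi1 := Int.emod_lt_of_pos i hpz'
    have hj0 := Int.emod_nonneg j hpz
    have hj1 := Int.emod_lt_of_pos j hpz'
    have hai : a ^ i = a ^ (i % p).toNat * (a ^ p) ^ (i / p) := by
      rw [← zpow_natCast a p, ← zpow_mul, ← zpow_natCast a (i % p).toNat,
        Int.toNat_of_nonneg hi0, ← zpow_add, Int.emod_add_mul_ediv]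
    have hbj : b ^ j = b ^ (j % p).toNat * (b ^ p) ^ (j / p) := by
      rw [← zpow_natCast b p, ← zpow_mul, ← zpow_natCast b (j % p).toNat,
        Int.toNat_of_nonneg hj0, ← zpow_add, Int.emod_add_mul_ediv]
    have hapD : ((a ^ p : ↥E) : Ω) ∈ D := by
      rw [Subgroup.coe_pow]
      exact hpow _ a.2
    have hbpD : ((b ^ p : ↥E) : Ω) ∈ D := by
      rw [Subgroup.coe_pow]
      exact hpow _ b.2
    have hd1 : (((a ^ p) ^ (i / p) : ↥E) : Ω) ∈ D := by
      rw [Subgroup.coe_zpow]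
      exact D.zpow_mem hapD _
    have hd2 : (((b ^ p) ^ (j / p) : ↥E) : Ω) ∈ D := by
      rw [Subgroup.coe_zpow]
      exact D.zpow_mem hbpD _
    have hd3 : (((b ^ (j % p).toNat)⁻¹ * (a ^ p) ^ (i / p) * b ^ (j % p).toNat : ↥E) : Ω) ∈ D := by
      have := hnorm _ ((b ^ (j % p).toNat)⁻¹).2 _ hd1
      simpa [mul_assoc] using this
    have hd4 : (((b ^ (j % p).toNat)⁻¹ * (a ^ p) ^ (i / p) * b ^ (j % p).toNat *
        (b ^ p) ^ (j / p) : ↥E) : Ω) ∈ D := by
      rw [Subgroup.coe_mul]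
      exact D.mul_mem hd3 hd2
    refine ⟨(⟨(i % p).toNat, by omega⟩, ⟨(j % p).toNat, by omega⟩, ⟨_, hd4⟩), ?_⟩
    have hincl : Subgroup.inclusion hDE ⟨_, hd4⟩ = (b ^ (j % p).toNat)⁻¹ * (a ^ p) ^ (i / p) *
        b ^ (j % p).toNat * (b ^ p) ^ (j / p) := Subtype.ext rfl
    show a ^ (i % p).toNat * b ^ (j % p).toNat * Subgroup.inclusion hDE ⟨_, hd4⟩ = _
    rw [hincl, hai, hbj]
    generalize a ^ (i % p).toNat = a0
    generalize b ^ (j % p).toNat = b0
    generalize (a ^ p) ^ (i / p) = a1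
    generalize (b ^ p) ^ (j / p) = b1
    group
  have hle := Nat.card_le_card_of_surjective f hsurj
  rw [Nat.card_prod, Nat.card_prod, Nat.card_fin] at hle
  rw [sq, mul_assoc]
  exact hle

end Cfsg.Agent.H29.MW
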