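import Mathlib
import Cfsg.Agent.H29.MetaAct
import Cfsg.Agent.H11.AbNormalCyclic
import Cfsg.Agent.H3.Dihedral
import Cfsg.Agent.H25.Lift

/-!
# Metacyclic `2`-groups with a non-`2`-closed action on a subgroup (helper29)

* `exists_moving_aut`: the first half of `exists_inverting_aut`, for all primes: a fixed point `z`
  of the `p`-element `τ` on the Frattini quotient and an element `γ` moving the line `⟨z⟩`;
* `mem_zpowers_of_orderOf_dvd`: in a finite cyclic group, `orderOf x ∣ orderOf y → x ∈ ⟨y⟩`;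
* `exists_inverting_elt`: in a `2`-group `X` with a cyclic normal subgroup `N` and cyclic quotient,
  a subgroup `V` with `|V / Φ(V)| = 4`, an element `t` normalizing `V` and acting nontrivially on
  `V / Φ(V)` with `t² ∈ V`, and an automorphism of `V` moving the `t`-fixed line, force an element
  `x ∉ N` with `x² ∈ N` acting on `N` by a power `≡ 3 (mod 4)`;
* `maxclass_of_inverting`: then `X` is generalized quaternion, dihedral or quasi-dihedral.
-/

set_option autoImplicit false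

namespace Cfsg.Agent.H29.MW

open Cfsg

theorem span_two' {W : Type*} [Group W] [Finite W] {p : ℕ} [hp : Fact p.Prime]
    (hcomm : ∀ a b : W, a * b = b * a) (hexp : ∀ a : W, a ^ p = 1) (hcard : Nat.card W ≤ p ^ 2)
    {z e : W} (hz : z ≠ 1) (hez : e ∉ Subgroup.zpowers z) (w : W) :
    ∃ m n : ℕ, w = z ^ m * e ^ n := by
  letI : CommGroup W := { ‹Group W› with mul_comm := hcomm }
  exact span_two hexp hcard hz hez w

theorem exists_moving_aut {G V : Type*} [Group G] [Finite G] [Group V] [Finite V] {p : ℕ}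
    [Fact p.Prime] (hV : IsPGroup p V) (res : G →* MulAut V) (C : Subgroup G) [hCn : C.Normal]
    (hC : ∀ g ∈ C, res g = 1 → ∃ k : ℕ, g ^ p ^ k = 1)
    (hcard : Nat.card (V ⧸ frattini V) ≤ p ^ 2)
    (τ : G) (hτC : τ ∈ C) {k : ℕ} (hτp : τ ^ p ^ k = 1) (hτ : τ ∉ pCore p G) :
    (∀ g ∈ C, frQuot V (res g) = 1 → g ∈ pCore p G) ∧ frQuot V (res τ) ≠ 1 ∧
      ∃ z : V ⧸ frattini V, z ≠ 1 ∧ frQuot V (res τ) z = z ∧
        (∀ w, ∃ a : ℕ, frQuot V (res τ) w = w * z ^ a) ∧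
        (∃ γ : G, frQuot V (res γ) z ∉ Subgroup.zpowers z) ∧
        Nat.card (V ⧸ frattini V) = p ^ 2 := by
  have hp := Fact.out (p := p.Prime)
  have hcomm : ∀ a b : V ⧸ frattini V, a * b = b * a := frQuot_comm hV
  have hexp : ∀ a : V ⧸ frattini V, a ^ p = 1 := frQuot_exp hV
  have hWp : IsPGroup p (V ⧸ frattini V) := hV.to_quotient _
  set ρ : G →* MulAut (V ⧸ frattini V) := (frQuot V).comp res with hρ
  have hKn : (C ⊓ ρ.ker).Normal := inferInstance
  have hKp : ∀ g ∈ C ⊓ ρ.ker, ∃ k : ℕ, g ^ p ^ k = 1 := by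
    rintro g ⟨hgC, hgk⟩
    have h1 : res g ∈ (frQuot V).ker := by
      rw [MonoidHom.mem_ker]; exact MonoidHom.mem_ker.1 hgk
    obtain ⟨a, ha⟩ := (frQuot_ker_isPGroup hV) ⟨res g, h1⟩
    have ha' : res g ^ p ^ a = 1 := by
      have := congrArg Subtype.val ha
      simpa using this
    have h2 : res (g ^ p ^ a) = 1 := by rw [map_pow, ha']
    obtain ⟨b, hb⟩ := hC _ (C.pow_mem hgC _) h2
    exact ⟨a + b, by rw [pow_add, pow_mul, hb]⟩
  have hKpG : IsPGroup p (C ⊓ ρ.ker : Subgroup G) := by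
    rintro ⟨g, hg⟩
    obtain ⟨k, hk⟩ := hKp g hg
    exact ⟨k, Subtype.ext hk⟩
  have hKle : C ⊓ ρ.ker ≤ pCore p G := H86.le_pCore hKn hKpG
  have hA : ρ τ ≠ 1 := fun h => hτ (hKle ⟨hτC, MonoidHom.mem_ker.2 h⟩)
  have hnt : Nontrivial (V ⧸ frattini V) := by
    by_contra hnt
    rw [not_nontrivial_iff_subsingleton] at hnt
    exact hA (MulEquiv.ext fun w => Subsingleton.elim _ _)
  have hτρ : (ρ τ) ^ p ^ k = 1 := by rw [← map_pow, hτp, map_one]
  obtain ⟨z, hz, hτz⟩ := exists_fixed' hcomm hWp (ρ τ) hτρ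
  have hB : ∃ γ : G, ρ γ z ∉ Subgroup.zpowers z := by
    by_contra hcon
    simp only [not_exists, not_not] at hcon
    have hcon' : ∀ γ : G, ∃ n : ℕ, ρ γ z = z ^ n := by
      intro γ
      have h1 := hcon γ
      rw [← mem_powers_iff_mem_zpowers] at h1
      obtain ⟨n, hn⟩ := (Submonoid.mem_powers_iff _ _).1 h1
      exact ⟨n, hn.symm⟩
    let U : Subgroup G :=
      { carrier := {g | g ∈ C ∧ ρ g z = z ∧ ∀ w, ∃ a : ℕ, ρ g w = w * z ^ a}
        one_mem' := ⟨C.one_mem, by simp, fun w => ⟨0, by simp⟩⟩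
        mul_mem' := by
          rintro g h ⟨hgC, hgz, hg⟩ ⟨hhC, hhz, hh⟩
          refine ⟨C.mul_mem hgC hhC, by rw [map_mul, MulAut.mul_apply, hhz, hgz], fun w => ?_⟩
          obtain ⟨b, hb⟩ := hh w
          obtain ⟨a, ha⟩ := hg w
          exact ⟨a + b, by
            rw [map_mul, MulAut.mul_apply, hb, map_mul, map_pow, hgz, ha, mul_assoc, ← pow_add]⟩
        inv_mem' := by
          rintro g ⟨hgC, hgz, hg⟩
          have hinvz : ρ g⁻¹ z = z := by
            rw [map_inv]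
            nth_rewrite 1 [← hgz]
            exact MulAut.inv_apply_self _ _ _
          refine ⟨C.inv_mem hgC, hinvz, fun w => ?_⟩
          obtain ⟨a, ha⟩ := hg (ρ g⁻¹ w)
          have h1 : ρ g (ρ g⁻¹ w) = w := by rw [map_inv]; exact MulAut.apply_inv_self _ _ _
          rw [h1] at ha
          refine ⟨(p - 1) * a, ?_⟩
          have e : a + (p - 1) * a = p * a := by
            have h1 : p - 1 + 1 = p := Nat.sub_add_cancel hp.one_lt.le
            calc a + (p - 1) * a = (p - 1 + 1) * a := by ring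
              _ = p * a := by rw [h1]
          have h2 : z ^ a * z ^ ((p - 1) * a) = 1 := by
            rw [← pow_add, e, pow_mul, hexp z, one_pow]
          nth_rewrite 2 [ha]
          rw [mul_assoc, h2, mul_one] }
    have hUn : U.Normal := by
      constructor
      rintro g ⟨hgC, hgz, hg⟩ γ
      obtain ⟨n, hn⟩ := hcon' γ
      obtain ⟨n', hn'⟩ := hcon' γ⁻¹
      refine ⟨hCn.conj_mem g hgC γ, ?_, fun w => ?_⟩
      · rw [map_mul, map_mul, MulAut.mul_apply, MulAut.mul_apply, hn', map_pow, hgz, ← hn', map_inv]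
        exact MulAut.apply_inv_self _ _ _
      · obtain ⟨a, ha⟩ := hg (ρ γ⁻¹ w)
        refine ⟨n * a, ?_⟩
        rw [map_mul, map_mul, MulAut.mul_apply, MulAut.mul_apply, ha, map_mul, map_pow, hn,
          ← pow_mul, map_inv, MulAut.apply_inv_self]
    have hUp : IsPGroup p U := by
      rintro ⟨g, hgC, hgz, hg⟩
      have h1 : g ^ p ∈ C ⊓ ρ.ker := by
        refine ⟨C.pow_mem hgC _, ?_⟩
        show g ^ p ∈ ρ.ker
        rw [MonoidHom.mem_ker, map_pow]
        ext w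
        obtain ⟨a, ha⟩ := hg w
        have h2 : ∀ n : ℕ, ((ρ g) ^ n) w = w * z ^ (n * a) := by
          intro n
          induction n with
          | zero => simp
          | succ n ih =>
            rw [pow_succ', MulAut.mul_apply, ih, map_mul, map_pow, hgz, ha, mul_assoc, ← pow_add]
            congr 2
            ring
        rw [h2 p, pow_mul, hexp z, one_pow, mul_one]
        rfl
      obtain ⟨m, hm⟩ := hKp _ h1
      exact ⟨m + 1, Subtype.ext (by
        show g ^ p ^ (m + 1) = 1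
        rw [pow_succ', pow_mul, hm])⟩
    have hτU : τ ∈ U :=
      ⟨hτC, hτz, fun w => map_eq_mul_pow' hcomm hexp hcard (ρ τ) hτρ hz hτz w⟩
    exact hτ (H86.le_pCore hUn hUp hτU)
  obtain ⟨γ, hγ⟩ := hB
  refine ⟨fun g hg hg1 => hKle ⟨hg, MonoidHom.mem_ker.2 hg1⟩, hA, z, hz, hτz,
    fun w => map_eq_mul_pow' hcomm hexp hcard (ρ τ) hτρ hz hτz w, ⟨γ, hγ⟩,
    le_antisymm hcard (sq_le_card' hcomm hexp hz hγ)⟩

/-- In a finite cyclic group, an element whose order divides the order of `y` is a power of `y`. -/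
theorem mem_zpowers_of_orderOf_dvd {C : Type*} [Group C] [Finite C] [IsCyclic C] {x y : C}
    (h : orderOf x ∣ orderOf y) : x ∈ Subgroup.zpowers y := by
  classical
  haveI := Fintype.ofFinite C
  have hd : 0 < orderOf y := orderOf_pos y
  have h1 := IsCyclic.card_pow_eq_one_le (α := C) hd
  have h2 : (Finset.univ.filter fun a : C => a ∈ Subgroup.zpowers y) ⊆
      Finset.univ.filter fun a : C => a ^ orderOf y = 1 := by
    intro a ha
    simp only [Finset.mem_filter, Finset.mem_univ, true_and] at ha ⊢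
    obtain ⟨k, rfl⟩ := Subgroup.mem_zpowers_iff.1 ha
    rw [← zpow_natCast, ← zpow_mul, mul_comm, zpow_mul, zpow_natCast, pow_orderOf_eq_one, one_zpow]
  have h3 : (Finset.univ.filter fun a : C => a ∈ Subgroup.zpowers y).card = orderOf y := by
    rw [← Nat.card_zpowers, Nat.card_eq_fintype_card, Fintype.card_subtype]
  have h4 := Finset.eq_of_subset_of_card_le h2 (by rw [h3]; exact h1)
  have h5 : x ∈ Finset.univ.filter fun a : C => a ^ orderOf y = 1 := by
    simp only [Finset.mem_filter, Finset.mem_univ, true_and]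
    exact orderOf_dvd_iff_pow_eq_one.1 h
  rw [← h4] at h5
  simpa using h5

lemma orderOf_eq_two_pow {Y : Type*} [Group Y] (hY : IsPGroup 2 Y) (y : Y) :
    ∃ e : ℕ, orderOf y = 2 ^ e := by
  obtain ⟨k, hk⟩ := hY y
  obtain ⟨e, -, he⟩ := (Nat.dvd_prime_pow Nat.prime_two).1 (orderOf_dvd_of_pow_eq_one hk)
  exact ⟨e, he⟩

lemma zpowers_dichotomy {C : Type*} [Group C] [Finite C] [IsCyclic C] (hC : IsPGroup 2 C)
    (x y : C) : x ∈ Subgroup.zpowers y ∨ y ∈ Subgroup.zpowers x := by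
  obtain ⟨e₁, h₁⟩ := orderOf_eq_two_pow hC x
  obtain ⟨e₂, h₂⟩ := orderOf_eq_two_pow hC y
  rcases le_total e₁ e₂ with h | h
  · left
    exact mem_zpowers_of_orderOf_dvd (by rw [h₁, h₂]; exact pow_dvd_pow 2 h)
  · right
    exact mem_zpowers_of_orderOf_dvd (by rw [h₁, h₂]; exact pow_dvd_pow 2 h)

theorem exists_inverting_elt {X V : Type*} [Group X] [Finite X] [Group V] [Finite V]
    (hX : IsPGroup 2 X) (N : Subgroup X) [hNn : N.Normal] [hNc : IsCyclic N]
    [hXN : IsCyclic (X ⧸ N)] (ι : V →* X) (hι : Function.Injective ι)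
    (hW : Nat.card (V ⧸ frattini V) = 2 ^ 2)
    (θ τ' : MulAut V) (t : X) (hτ' : ∀ v, ι (τ' v) = t * ι v * t⁻¹) (ht2 : t * t ∈ ι.range)
    (z : V ⧸ frattini V) (hz : z ≠ 1) (hτz : frQuot V τ' z = z)
    (hθz : frQuot V θ z ∉ Subgroup.zpowers z)
    (hτ2 : ∀ w, ∃ a : ℕ, frQuot V τ' w = w * z ^ a) (hτ1 : frQuot V τ' ≠ 1) :
    ∃ x : X, x ∉ N ∧ x * x ∈ N ∧ ∃ s : ℕ, (∀ n ∈ N, x * n * x⁻¹ = n ^ s) ∧ 4 ∣ s + 1 ∧
      ∃ a₀ ∈ N, a₀ ^ 2 ≠ 1 := by
  haveI : Fact (Nat.Prime 2) := ⟨Nat.prime_two⟩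
  have hV : IsPGroup 2 V := hX.of_injective ι hι
  have hcomm : ∀ a b : V ⧸ frattini V, a * b = b * a := frQuot_comm hV
  have hexp : ∀ a : V ⧸ frattini V, a ^ 2 = 1 := frQuot_exp hV
  have hcardle : Nat.card (V ⧸ frattini V) ≤ 2 ^ 2 := hW.le
  have hzpow : ∀ (w : V ⧸ frattini V) (k : ℤ), w ^ k = 1 ∨ w ^ k = w := by
    intro w k
    rcases Int.even_or_odd k with ⟨q, rfl⟩ | ⟨q, rfl⟩
    · left
      rw [← two_mul, zpow_mul, zpow_ofNat, hexp, one_zpow]
    · right
      rw [zpow_add, zpow_one, zpow_mul, zpow_ofNat, hexp, one_zpow, one_mul]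
  have hzpow_odd : ∀ (w : V ⧸ frattini V) (k : ℤ), w ≠ 1 → w ^ k = w → Odd k := by
    intro w k hw hk
    rcases Int.even_or_odd k with ⟨q, rfl⟩ | h
    · exfalso
      rw [← two_mul, zpow_mul, zpow_ofNat, hexp, one_zpow] at hk
      exact hw hk.symm
    · exact h
  have hmemz : ∀ w : V ⧸ frattini V, w ∈ Subgroup.zpowers z → w = 1 ∨ w = z := by
    intro w hw
    obtain ⟨k, rfl⟩ := Subgroup.mem_zpowers_iff.1 hw
    exact hzpow z k
  have hτπ : ∀ v : V, frQuot V τ' (QuotientGroup.mk' (frattini V) v) =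
      QuotientGroup.mk' (frattini V) (τ' v) := fun v => rfl
  have hθπ : ∀ v : V, frQuot V θ (QuotientGroup.mk' (frattini V) v) =
      QuotientGroup.mk' (frattini V) (θ v) := fun v => rfl
  have hF1 : ∀ w, frQuot V τ' w = w → w ∈ Subgroup.zpowers z := by
    intro w hw
    by_contra hwz
    apply hτ1
    apply MulEquiv.ext
    intro u
    obtain ⟨m, n, rfl⟩ := span_two' hcomm hexp hcardle hz hwz u
    rw [map_mul, map_pow, map_pow, hτz, hw]
    rfl
  have hF2 : frQuot V τ' (frQuot V θ z) = frQuot V θ z * z := by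
    obtain ⟨a, ha⟩ := hτ2 (frQuot V θ z)
    have h := hzpow z (a : ℤ)
    rw [zpow_natCast] at h
    rcases h with h | h
    · exfalso
      rw [h, mul_one] at ha
      exact hθz (hF1 _ ha)
    · rw [ha, h]
  -- `A = V ∩ N`
  have hAn : (N.comap ι).Normal := inferInstance
  have hAc : IsCyclic ↥(N.comap ι) := by
    let f : ↥(N.comap ι) →* ↥N := (ι.comp (N.comap ι).subtype).codRestrict N (fun x => x.2)
    exact isCyclic_of_injective f (by
      intro x y hxy
      have := congrArg Subtype.val hxy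
      exact Subtype.ext (hι this))
  obtain ⟨⟨a, haA⟩, ha⟩ := IsCyclic.exists_generator (α := ↥(N.comap ι))
  have ham : ∀ v ∈ N.comap ι, ∃ k : ℤ, v = a ^ k := by
    intro v hv
    obtain ⟨k, hk⟩ := Subgroup.mem_zpowers_iff.1 (ha ⟨v, hv⟩)
    exact ⟨k, by have := congrArg Subtype.val hk; simpa using this.symm⟩
  obtain ⟨⟨g0, b, rfl⟩, hg0⟩ :=
    IsCyclic.exists_generator (α := ↥((QuotientGroup.mk' N).comp ι).range)
  have hb : ∀ v : V, ∃ j : ℤ, v * (b ^ j)⁻¹ ∈ N.comap ι := by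
    intro v
    obtain ⟨j, hj⟩ := Subgroup.mem_zpowers_iff.1 (hg0 ⟨((QuotientGroup.mk' N).comp ι) v, v, rfl⟩)
    have hj' : ((QuotientGroup.mk' N).comp ι) b ^ j = ((QuotientGroup.mk' N).comp ι) v := by
      have := congrArg Subtype.val hj
      simpa using this
    refine ⟨j, ?_⟩
    show ι (v * (b ^ j)⁻¹) ∈ N
    rw [← QuotientGroup.eq_one_iff]
    show ((QuotientGroup.mk' N).comp ι) (v * (b ^ j)⁻¹) = 1
    rw [map_mul, map_inv, map_zpow, hj', mul_inv_cancel]
  have hmkA0 : QuotientGroup.mk' (frattini V) a ≠ 1 := by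
    intro h
    have hA1 : ∀ v ∈ N.comap ι, QuotientGroup.mk' (frattini V) v = 1 := by
      intro v hv
      obtain ⟨k, rfl⟩ := ham v hv
      rw [map_zpow, h, one_zpow]
    have hall : ∀ w : V ⧸ frattini V, w = 1 ∨ w = QuotientGroup.mk' (frattini V) b := by
      intro w
      obtain ⟨v, rfl⟩ := QuotientGroup.mk'_surjective (frattini V) w
      obtain ⟨j, hj⟩ := hb v
      have h1 := hA1 _ hj
      rw [map_mul, map_inv, map_zpow, mul_inv_eq_one] at h1
      rw [h1]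
      exact hzpow _ j
    rcases hall z with h1 | h1
    · exact hz h1
    · rcases hall (frQuot V θ z) with h2 | h2
      · exact hθz (h2 ▸ one_mem _)
      · exact hθz (by rw [h2, ← h1]; exact Subgroup.mem_zpowers z)
  have hτA : ∀ v ∈ N.comap ι, τ' v ∈ N.comap ι := by
    intro v hv
    show ι (τ' v) ∈ N
    rw [hτ']
    exact hNn.conj_mem _ hv t
  have hmka : QuotientGroup.mk' (frattini V) a = z := by
    obtain ⟨kτ, hkτ⟩ := ham _ (hτA a haA)
    have h1 : frQuot V τ' (QuotientGroup.mk' (frattini V) a) =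
        (QuotientGroup.mk' (frattini V) a) ^ kτ := by
      rw [hτπ, hkτ, map_zpow]
    have h2 : frQuot V τ' (QuotientGroup.mk' (frattini V) a) = QuotientGroup.mk' (frattini V) a := by
      rcases hzpow (QuotientGroup.mk' (frattini V) a) kτ with h | h
      · exfalso
        rw [h] at h1
        have : frQuot V τ' (QuotientGroup.mk' (frattini V) a) = frQuot V τ' 1 := by
          rw [h1, map_one]
        exact hmkA0 ((frQuot V τ').injective this)
      · rw [h1, h]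
    rcases hmemz _ (hF1 _ h2) with h | h
    · exact absurd h hmkA0
    · exact h
  have hmkA : ∀ v ∈ N.comap ι, QuotientGroup.mk' (frattini V) v ∈ Subgroup.zpowers z := by
    intro v hv
    obtain ⟨k, rfl⟩ := ham v hv
    rw [map_zpow, hmka]
    exact Subgroup.zpow_mem_zpowers z k
  have hτfixA : ∀ v ∈ N.comap ι, frQuot V τ' (QuotientGroup.mk' (frattini V) v) =
      QuotientGroup.mk' (frattini V) v := by
    intro v hv
    obtain ⟨k, hk⟩ := Subgroup.mem_zpowers_iff.1 (hmkA v hv)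
    rw [← hk, map_zpow, hτz]
  have hmka' : QuotientGroup.mk' (frattini V) (θ a) = frQuot V θ z := by
    rw [← hθπ, hmka]
  obtain ⟨u, hu⟩ := ht2
  have hτu : τ' u = u := by
    apply hι
    rw [hτ', hu]
    group
  have hXNp : IsPGroup 2 (X ⧸ N) := hX.to_quotient N
  have hq : ∃ q : V, ι q * t ∈ N := by
    rcases zpowers_dichotomy hXNp (QuotientGroup.mk' N t) (((QuotientGroup.mk' N).comp ι) b)
      with h | h
    · obtain ⟨k, hk⟩ := Subgroup.mem_zpowers_iff.1 h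
      rw [← map_zpow] at hk
      have hk' : ((ι (b ^ k) : X) : X ⧸ N) = ((t : X) : X ⧸ N) := hk
      refine ⟨(b ^ k)⁻¹, ?_⟩
      rw [map_inv]
      exact QuotientGroup.eq.1 hk'
    · obtain ⟨k, hk⟩ := Subgroup.mem_zpowers_iff.1 h
      rw [← map_zpow] at hk
      have hk' : ((t ^ k : X) : X ⧸ N) = ((ι b : X) : X ⧸ N) := hk
      have h1 := QuotientGroup.eq.1 hk'
      rcases Int.even_or_odd k with ⟨k', rfl⟩ | ⟨k', rfl⟩
      · exfalso
        have h2 : t ^ (k' + k') = ι (u ^ k') := by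
          rw [map_zpow, hu, ← two_mul, zpow_mul, zpow_ofNat, pow_two]
        rw [h2, ← map_inv, ← map_mul] at h1
        have h3 : (u ^ k')⁻¹ * b ∈ N.comap ι := h1
        have h4 : frQuot V τ' (QuotientGroup.mk' (frattini V) b) =
            QuotientGroup.mk' (frattini V) b := by
          have e : b = u ^ k' * ((u ^ k')⁻¹ * b) := by group
          rw [e, map_mul, map_mul, hτfixA _ h3, map_zpow, map_zpow, hτπ, hτu]
        apply hτ1
        apply MulEquiv.ext
        intro w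
        obtain ⟨v, rfl⟩ := QuotientGroup.mk'_surjective (frattini V) w
        obtain ⟨j, hj⟩ := hb v
        have e : v = (v * (b ^ j)⁻¹) * b ^ j := by group
        show frQuot V τ' (QuotientGroup.mk' (frattini V) v) = QuotientGroup.mk' (frattini V) v
        rw [e, map_mul, map_mul, hτfixA _ hj, map_zpow, map_zpow, h4]
      · have h2 : t ^ (2 * k' + 1) = ι (u ^ k') * t := by
          rw [map_zpow, hu, zpow_add, zpow_one, zpow_mul, zpow_ofNat, pow_two]
        rw [h2] at h1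
        refine ⟨b⁻¹ * u ^ k', ?_⟩
        have h3 := N.inv_mem h1
        have e : ((ι (u ^ k') * t)⁻¹ * ι b)⁻¹ = ι (b⁻¹ * u ^ k') * t := by
          rw [map_mul, map_inv]
          group
        rwa [e] at h3
  obtain ⟨q, hq⟩ := hq
  have hsq : (ι q * t) * (ι q * t) = ι (q * τ' q * u) := by
    rw [map_mul, map_mul, hτ', hu]
    group
  have ha₀range : ι q * t ∉ ι.range := by
    rintro ⟨v₀, hv₀⟩
    apply hτ1
    apply MulEquiv.ext
    intro w
    obtain ⟨v, rfl⟩ := QuotientGroup.mk'_surjective (frattini V) w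
    have h1 : τ' v = (q⁻¹ * v₀) * v * (q⁻¹ * v₀)⁻¹ := by
      apply hι
      rw [hτ', map_mul, map_mul, map_inv, map_mul, map_inv, hv₀]
      group
    show frQuot V τ' (QuotientGroup.mk' (frattini V) v) = QuotientGroup.mk' (frattini V) v
    rw [hτπ, h1, map_mul, map_mul, map_inv, mul_inv_eq_iff_eq_mul]
    exact hcomm _ _
  have hc₀e : ι (q * τ' (θ a) * q⁻¹ * (θ a)⁻¹) =
      (ι q * t) * (ι (θ a) * (ι q * t)⁻¹ * (ι (θ a))⁻¹) := by
    rw [map_mul, map_mul, map_mul, map_inv, map_inv, hτ']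
    group
  have hc₀A : q * τ' (θ a) * q⁻¹ * (θ a)⁻¹ ∈ N.comap ι := by
    show ι (q * τ' (θ a) * q⁻¹ * (θ a)⁻¹) ∈ N
    rw [hc₀e]
    exact N.mul_mem hq (hNn.conj_mem _ (N.inv_mem hq) _)
  have hmkc₀ : QuotientGroup.mk' (frattini V) (q * τ' (θ a) * q⁻¹ * (θ a)⁻¹) = z := by
    rw [map_mul, map_mul, map_mul, map_inv, map_inv, ← hτπ, hmka', hF2]
    rw [hcomm (QuotientGroup.mk' (frattini V) q), mul_assoc (frQuot V θ z * z), mul_inv_cancel,
      mul_one, hcomm (frQuot V θ z), mul_assoc, mul_inv_cancel, mul_one]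
  obtain ⟨i₀, hi₀⟩ := ham _ hc₀A
  have hi₀odd : Odd i₀ := by
    apply hzpow_odd z i₀ hz
    have h1 : QuotientGroup.mk' (frattini V) (a ^ i₀) = z := by rw [← hi₀, hmkc₀]
    rw [map_zpow, hmka] at h1
    exact h1
  obtain ⟨ν, hν⟩ := IsCyclic.exists_generator (α := ↥N)
  have hconjN : ι (θ a) * (ν : X) * (ι (θ a))⁻¹ ∈ N := hNn.conj_mem _ ν.2 _
  obtain ⟨s, hs⟩ : ∃ s : ℕ, (ν : X) ^ s = ι (θ a) * (ν : X) * (ι (θ a))⁻¹ := by
    have h1 := hν ⟨_, hconjN⟩
    rw [← mem_powers_iff_mem_zpowers] at h1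
    obtain ⟨s, hs⟩ := (Submonoid.mem_powers_iff _ _).1 h1
    exact ⟨s, by have := congrArg Subtype.val hs; simpa using this⟩
  have hsN : ∀ n ∈ N, ι (θ a) * n * (ι (θ a))⁻¹ = n ^ s := by
    intro n hn
    obtain ⟨k, hk⟩ := Subgroup.mem_zpowers_iff.1 (hν ⟨n, hn⟩)
    have hk' : (ν : X) ^ k = n := by
      have := congrArg Subtype.val hk
      simpa using this
    rw [← hk', ← conj_zpow, ← hs, ← zpow_natCast, ← zpow_natCast, ← zpow_mul, ← zpow_mul, mul_comm]
  have hιc₀ : ι a ^ i₀ = (ι q * t) * ((ι q * t) ^ s)⁻¹ := by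
    rw [← map_zpow, ← hi₀, hc₀e, hsN _ (N.inv_mem hq), inv_pow]
  have hNp : IsPGroup 2 ↥N := hX.to_subgroup N
  have haN : ι a ∈ N := haA
  have hamem : ι a ∈ Subgroup.zpowers (ι q * t) := by
    rcases zpowers_dichotomy hNp (⟨ι a, haN⟩ : ↥N) ⟨ι q * t, hq⟩ with h | h
    · obtain ⟨k, hk⟩ := Subgroup.mem_zpowers_iff.1 h
      have := congrArg Subtype.val hk
      rw [Subgroup.coe_zpow] at this
      exact Subgroup.mem_zpowers_iff.2 ⟨k, this⟩
    · exfalso
      obtain ⟨k, hk⟩ := Subgroup.mem_zpowers_iff.1 h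
      have := congrArg Subtype.val hk
      rw [Subgroup.coe_zpow] at this
      exact ha₀range ⟨a ^ k, by rw [map_zpow]; exact this⟩
  obtain ⟨e, he⟩ := Subgroup.mem_zpowers_iff.1 hamem
  have ha1 : a ≠ 1 := by
    intro h
    apply hmkA0
    rw [h, map_one]
  have he_even : Even e := by
    rcases Int.even_or_odd e with h | ⟨e', rfl⟩
    · exact h
    · exfalso
      apply ha₀range
      have h1 : ι q * t = (((ι q * t) * (ι q * t)) ^ e')⁻¹ * ι a := by
        rw [← he, zpow_add, zpow_one, zpow_mul, zpow_ofNat, pow_two, inv_mul_cancel_left]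
      rw [h1, hsq, ← map_zpow, ← map_inv, ← map_mul]
      exact ⟨_, rfl⟩
  obtain ⟨e', rfl⟩ := he_even
  have he2 : ι a = ((ι q * t) * (ι q * t)) ^ e' := by
    rw [← he, ← two_mul, zpow_mul, zpow_ofNat, pow_two]
  have hsqne : (ι q * t) * (ι q * t) ≠ 1 := by
    intro h
    rw [h, one_zpow] at he2
    exact ha1 (hι (by rw [he2, map_one]))
  have ha₅A : q * τ' q * u ∈ N.comap ι := by
    show ι (q * τ' q * u) ∈ N
    rw [← hsq]
    exact N.mul_mem hq hq
  obtain ⟨j₅, hj₅⟩ := ham _ ha₅A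
  have he'odd : Odd e' := by
    have h2 : a = a ^ (j₅ * e') := by
      apply hι
      rw [he2, hsq, hj₅, ← map_zpow, ← zpow_mul]
    have h1 : a ^ (j₅ * e' - 1) = 1 := by
      rw [zpow_sub, zpow_one, ← h2, mul_inv_cancel]
    obtain ⟨n₁, hn₁⟩ := orderOf_eq_two_pow hV a
    have hn₁0 : n₁ ≠ 0 := by
      rintro rfl
      rw [pow_zero, orderOf_eq_one_iff] at hn₁
      exact ha1 hn₁
    have h3 : (2 : ℤ) ∣ j₅ * e' - 1 := by
      have h4 : ((orderOf a : ℕ) : ℤ) ∣ j₅ * e' - 1 := orderOf_dvd_iff_zpow_eq_one.2 h1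
      have h5 : (2 : ℤ) ∣ ((orderOf a : ℕ) : ℤ) := by
        rw [hn₁]
        push_cast
        exact dvd_pow_self 2 hn₁0
      exact h5.trans h4
    rcases Int.even_or_odd e' with ⟨r, hr⟩ | h
    · exfalso
      have : j₅ * e' = 2 * (j₅ * r) := by rw [hr]; ring
      rw [this] at h3
      omega
    · exact h
  have hs4 : 4 ∣ s + 1 := by
    have h2 : (ι q * t) ^ (2 * e' * i₀) = (ι q * t) ^ (1 - (s : ℤ)) := by
      rw [zpow_sub, zpow_one, zpow_natCast, ← hιc₀, he2, zpow_mul, zpow_mul, zpow_ofNat, pow_two]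
    have h1 : (ι q * t) ^ (2 * e' * i₀ - 1 + (s : ℤ)) = 1 := by
      have : 2 * e' * i₀ - 1 + (s : ℤ) = 2 * e' * i₀ - (1 - (s : ℤ)) := by ring
      rw [this, zpow_sub, h2, mul_inv_cancel]
    obtain ⟨k₀, hk₀⟩ := orderOf_eq_two_pow hX (ι q * t)
    have hk₀2 : 2 ≤ k₀ := by
      by_contra hlt
      have hk1 : k₀ ≤ 1 := by omega
      have h3 : orderOf (ι q * t) ∣ 2 := by
        rw [hk₀]
        exact pow_dvd_pow 2 hk1
      have h4 := orderOf_dvd_iff_pow_eq_one.1 h3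
      rw [pow_two] at h4
      exact hsqne h4
    have h4 : ((orderOf (ι q * t) : ℕ) : ℤ) ∣ 2 * e' * i₀ - 1 + (s : ℤ) :=
      orderOf_dvd_iff_zpow_eq_one.2 h1
    have h5 : (4 : ℤ) ∣ ((orderOf (ι q * t) : ℕ) : ℤ) := by
      rw [hk₀]
      push_cast
      exact pow_dvd_pow (2 : ℤ) hk₀2
    obtain ⟨c, hc⟩ := h5.trans h4
    obtain ⟨e'', he''⟩ := he'odd
    obtain ⟨i'', hi''⟩ := hi₀odd
    have h6 : 2 * e' * i₀ = 4 * (2 * e'' * i'' + e'' + i'') + 2 := by
      rw [he'', hi'']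
      ring
    rw [h6] at hc
    generalize 2 * e'' * i'' + e'' + i'' = M at hc
    omega
  refine ⟨ι (θ a), ?_, ?_, s, hsN, hs4, ι q * t, hq, by rw [pow_two]; exact hsqne⟩
  · intro hx
    have h1 : θ a ∈ N.comap ι := hx
    exact hθz (hmka' ▸ hmkA (θ a) h1)
  · have hconj : θ a * a * (θ a)⁻¹ = a ^ s := by
      apply hι
      rw [map_mul, map_mul, map_inv, map_pow]
      exact hsN _ haN
    have hnorm' : ∀ v : V, v * θ a * v⁻¹ ∈ Subgroup.zpowers (θ a) := by
      intro v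
      have h1 : θ⁻¹ v * a * (θ⁻¹ v)⁻¹ ∈ N.comap ι := hAn.conj_mem _ haA _
      obtain ⟨l, hl⟩ := ham _ h1
      have h2 : v * θ a * v⁻¹ = θ a ^ l := by
        have : v * θ a * v⁻¹ = θ (θ⁻¹ v * a * (θ⁻¹ v)⁻¹) := by
          rw [map_mul, map_mul, map_inv, MulAut.apply_inv_self]
        rw [this, hl, map_zpow]
      rw [h2]
      exact Subgroup.zpow_mem_zpowers (θ a) l
    obtain ⟨m4, hm4⟩ := hs4
    have hdmem : (a ^ 2) ^ (2 * m4 - 1) ∈ Subgroup.zpowers (θ a) := by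
      have h1 : (a ^ 2) ^ (2 * m4 - 1) = θ a * (a * θ a * a⁻¹)⁻¹ := by
        have h2 : θ a * (a * θ a * a⁻¹)⁻¹ = (θ a * a * (θ a)⁻¹) * a⁻¹ := by group
        rw [h2, hconj, ← pow_mul]
        have h3 : s = 2 * (2 * m4 - 1) + 1 := by omega
        rw [h3, pow_succ, mul_inv_cancel_right]
      rw [h1]
      exact Subgroup.mul_mem _ (Subgroup.mem_zpowers (θ a)) (Subgroup.inv_mem _ (hnorm' a))
    have hord : orderOf (θ a ^ 2) = orderOf ((a ^ 2) ^ (2 * m4 - 1)) := by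
      have h1 : θ a ^ 2 = θ (a ^ 2) := by rw [map_pow]
      rw [h1, MulEquiv.orderOf_eq]
      symm
      apply Nat.Coprime.orderOf_pow
      obtain ⟨n₂, hn₂⟩ := orderOf_eq_two_pow hV (a ^ 2)
      rw [hn₂]
      apply Nat.Coprime.pow_left
      rw [Nat.coprime_two_left]
      exact ⟨m4 - 1, by omega⟩
    have hmem2 : θ a ^ 2 ∈ Subgroup.zpowers ((a ^ 2) ^ (2 * m4 - 1)) := by
      have h1 := mem_zpowers_of_orderOf_dvd (C := ↥(Subgroup.zpowers (θ a)))
        (x := ⟨θ a ^ 2, Subgroup.pow_mem _ (Subgroup.mem_zpowers (θ a)) 2⟩) (y := ⟨_, hdmem⟩)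
        (by rw [Subgroup.orderOf_mk, Subgroup.orderOf_mk, hord])
      obtain ⟨k, hk⟩ := Subgroup.mem_zpowers_iff.1 h1
      have := congrArg Subtype.val hk
      rw [Subgroup.coe_zpow] at this
      exact Subgroup.mem_zpowers_iff.2 ⟨k, this⟩
    obtain ⟨k, hk⟩ := Subgroup.mem_zpowers_iff.1 hmem2
    have h5 : θ a ^ 2 ∈ N.comap ι := by
      rw [← hk]
      exact Subgroup.zpow_mem _ (Subgroup.pow_mem _ (Subgroup.pow_mem _ haA 2) _) k
    have h6 : ι (θ a ^ 2) ∈ N := h5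
    rw [map_pow, pow_two] at h6
    exact h6

/-- A `2`-group with a cyclic normal subgroup `N` of order at least `4`, cyclic quotient, and an
element `x ∉ N` with `x² ∈ N` acting on `N` by a power `≡ 3 (mod 4)` is generalized quaternion,
dihedral or quasi-dihedral. -/
theorem maxclass_of_inverting {X : Type*} [Group X] [Finite X] (hX : IsPGroup 2 X)
    (N : Subgroup X) [hNn : N.Normal] [hNc : IsCyclic N] [hXN : IsCyclic (X ⧸ N)]
    (x : X) (hxN : x ∉ N) (hx2 : x * x ∈ N) (s : ℕ) (hs : ∀ n ∈ N, x * n * x⁻¹ = n ^ s)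
    (hs4 : 4 ∣ s + 1) (a₀ : X) (ha₀ : a₀ ∈ N) (ha₀2 : a₀ ^ 2 ≠ 1) :
    (∃ n : ℕ, Nonempty (X ≃* QuaternionGroup n)) ∨ (∃ n : ℕ, Nonempty (X ≃* DihedralGroup n)) ∨
      Cfsg.IsQuasiDihedral X := by
  haveI : Fact (Nat.Prime 2) := ⟨Nat.prime_two⟩
  obtain ⟨⟨ν, hνN⟩, hν⟩ := IsCyclic.exists_generator (α := ↥N)
  have hνm : ∀ n ∈ N, ∃ k : ℤ, n = ν ^ k := by
    intro n hn
    obtain ⟨k, hk⟩ := Subgroup.mem_zpowers_iff.1 (hν ⟨n, hn⟩)
    exact ⟨k, by have := congrArg Subtype.val hk; simpa using this.symm⟩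
  obtain ⟨μ, hμ⟩ := orderOf_eq_two_pow hX ν
  have hμ2 : 2 ≤ μ := by
    by_contra hlt
    have h1 : μ ≤ 1 := by omega
    have h3 : orderOf ν ∣ 2 := by
      rw [hμ]
      exact (pow_dvd_pow 2 h1).trans (by norm_num)
    have h4 := orderOf_dvd_iff_pow_eq_one.1 h3
    obtain ⟨k, rfl⟩ := hνm a₀ ha₀
    apply ha₀2
    rw [← zpow_natCast, ← zpow_mul, mul_comm, zpow_mul, zpow_natCast, h4, one_zpow]
  have hNcomm : ∀ n ∈ N, ∀ m ∈ N, n * m = m * n := by
    intro n hn m hm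
    obtain ⟨k, rfl⟩ := hνm n hn
    obtain ⟨l, rfl⟩ := hνm m hm
    rw [← zpow_add, ← zpow_add, add_comm]
  have h4ord : (4 : ℤ) ∣ ((orderOf ν : ℕ) : ℤ) := by
    rw [hμ]
    push_cast
    exact (by norm_num : (4 : ℤ) = 2 ^ 2) ▸ pow_dvd_pow (2 : ℤ) hμ2
  have hkey : ∀ c : ℤ, ν ^ (s : ℤ) = ν ^ c → (4 : ℤ) ∣ (s : ℤ) - c := by
    intro c hc
    have h1 : ν ^ ((s : ℤ) - c) = 1 := by rw [zpow_sub, hc, mul_inv_cancel]
    exact h4ord.trans (orderOf_dvd_iff_zpow_eq_one.2 h1)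
  -- the quotient has order two
  obtain ⟨g0, hg0⟩ := IsCyclic.exists_generator (α := X ⧸ N)
  obtain ⟨g, rfl⟩ := QuotientGroup.mk'_surjective N g0
  obtain ⟨r, hr⟩ : ∃ r : ℕ, g * ν * g⁻¹ = ν ^ r := by
    have h1 := hν ⟨_, hNn.conj_mem _ hνN g⟩
    rw [← mem_powers_iff_mem_zpowers] at h1
    obtain ⟨r, hr⟩ := (Submonoid.mem_powers_iff _ _).1 h1
    exact ⟨r, by have := congrArg Subtype.val hr; simpa using this.symm⟩
  have hgu : ∀ u : ℕ, g ^ u * ν * (g ^ u)⁻¹ = ν ^ (r ^ u) := by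
    intro u
    induction u with
    | zero => simp
    | succ u ih =>
      have h1 : g ^ (u + 1) * ν * (g ^ (u + 1))⁻¹ = g * (g ^ u * ν * (g ^ u)⁻¹) * g⁻¹ := by
        rw [pow_succ']
        generalize g ^ u = G
        group
      rw [h1, ih, ← conj_pow, hr, ← pow_mul, ← pow_succ']
  obtain ⟨u, hu⟩ : ∃ u : ℕ, (QuotientGroup.mk' N g) ^ u = QuotientGroup.mk' N x := by
    have h1 := hg0 (QuotientGroup.mk' N x)
    rw [← mem_powers_iff_mem_zpowers] at h1
    exact (Submonoid.mem_powers_iff _ _).1 h1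
  have hxg : (g ^ u)⁻¹ * x ∈ N := by
    have hu' : ((g ^ u : X) : X ⧸ N) = ((x : X) : X ⧸ N) :=
      (map_pow (QuotientGroup.mk' N) g u).trans hu
    exact QuotientGroup.eq.1 hu'
  have hsr : ν ^ s = ν ^ (r ^ u) := by
    rw [← hs ν hνN, ← hgu u]
    have h2 : ((g ^ u)⁻¹ * x) * ν * ((g ^ u)⁻¹ * x)⁻¹ = ν := by
      rw [hNcomm _ hxg _ hνN, mul_inv_cancel_right]
    have h3 : x * ν * x⁻¹ = g ^ u * (((g ^ u)⁻¹ * x) * ν * ((g ^ u)⁻¹ * x)⁻¹) * (g ^ u)⁻¹ := by
      generalize g ^ u = G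
      group
    rw [h3, h2]
  have hu_odd : Odd u := by
    rcases Nat.even_or_odd u with ⟨u', rfl⟩ | h
    · exfalso
      have h1 := hkey ((r ^ (u' + u') : ℕ) : ℤ) (by rw [zpow_natCast, zpow_natCast]; exact hsr)
      obtain ⟨m4, hm4⟩ := hs4
      have h2 : r ^ (u' + u') = (r ^ u') * (r ^ u') := by rw [pow_add]
      rw [h2] at h1
      push_cast at h1
      generalize (r : ℤ) ^ u' = R at h1
      obtain ⟨c, hc⟩ := h1
      rcases Int.even_or_odd R with ⟨R', rfl⟩ | ⟨R', rfl⟩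
      · have e : (R' + R') * (R' + R') = 4 * (R' * R') := by ring
        rw [e] at hc
        generalize R' * R' = Q at hc
        omega
      · have e : (2 * R' + 1) * (2 * R' + 1) = 4 * (R' * R' + R') + 1 := by ring
        rw [e] at hc
        generalize R' * R' + R' = Q at hc
        omega
    · exact h
  have hg2 : (QuotientGroup.mk' N g) ^ 2 = 1 := by
    have hx2' : (QuotientGroup.mk' N x) ^ 2 = 1 := by
      rw [← map_pow, pow_two]
      exact (QuotientGroup.eq_one_iff _).2 hx2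
    rw [← hu, ← pow_mul] at hx2'
    obtain ⟨e, he⟩ := orderOf_eq_two_pow (hX.to_quotient N) (QuotientGroup.mk' N g)
    have h1 : orderOf (QuotientGroup.mk' N g) ∣ u * 2 := orderOf_dvd_of_pow_eq_one hx2'
    have he1 : e ≤ 1 := by
      by_contra hlt
      have h2 : 4 ∣ u * 2 := by
        have h3 : (2 : ℕ) ^ 2 ∣ 2 ^ e := pow_dvd_pow 2 (by omega)
        rw [he] at h1
        exact (by norm_num : (4 : ℕ) = 2 ^ 2) ▸ h3.trans h1
      obtain ⟨u', hu'⟩ := hu_odd
      omega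
    apply orderOf_dvd_iff_pow_eq_one.1
    rw [he]
    exact (pow_dvd_pow 2 he1).trans (by norm_num)
  have hdich : ∀ y : X, y ∈ N ∨ y * x⁻¹ ∈ N := by
    intro y
    obtain ⟨j, hj⟩ : ∃ j : ℕ, (QuotientGroup.mk' N g) ^ j = QuotientGroup.mk' N y := by
      have h1 := hg0 (QuotientGroup.mk' N y)
      rw [← mem_powers_iff_mem_zpowers] at h1
      exact (Submonoid.mem_powers_iff _ _).1 h1
    have hgx : QuotientGroup.mk' N g = QuotientGroup.mk' N x := by
      obtain ⟨u', hu'⟩ := hu_odd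
      rw [← hu, hu', pow_succ, pow_mul, hg2, one_pow, one_mul]
    rcases Nat.even_or_odd j with ⟨j', rfl⟩ | ⟨j', rfl⟩
    · left
      rw [← two_mul, pow_mul, hg2, one_pow] at hj
      exact (QuotientGroup.eq_one_iff y).1 hj.symm
    · right
      rw [pow_succ, pow_mul, hg2, one_pow, one_mul] at hj
      have h1 : QuotientGroup.mk' N (y * x⁻¹) = 1 := by
        rw [map_mul, map_inv, ← hj, ← hgx, mul_inv_cancel]
      exact (QuotientGroup.eq_one_iff _).1 h1
  have hidx : N.index = 2 := by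
    rw [Subgroup.index_eq_two_iff]
    refine ⟨x⁻¹, fun b => ?_⟩
    rcases hdich b with h | h
    · exact Or.inr ⟨h, fun h' => hxN (by
        have := N.mul_mem (N.inv_mem h') h
        simpa [mul_assoc] using this)⟩
    · exact Or.inl ⟨h, fun h' => hxN (by
        have := N.mul_mem (N.inv_mem h) h'
        simpa [mul_assoc] using this)⟩
  have hcardX : Nat.card X = 2 * Nat.card N := by
    rw [← Subgroup.card_mul_index N, hidx, mul_comm]
  have hnc : ¬ IsCyclic X := by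
    intro hc
    obtain ⟨γ, hγ⟩ := hc.exists_generator
    obtain ⟨a, ha⟩ := Subgroup.mem_zpowers_iff.1 (hγ x)
    obtain ⟨b, hb⟩ := Subgroup.mem_zpowers_iff.1 (hγ ν)
    have h1 : x * ν = ν * x := by rw [← ha, ← hb, ← zpow_add, ← zpow_add, add_comm]
    have h2 : ν ^ s = ν := by rw [← hs ν hνN, h1, mul_inv_cancel_right]
    have h3 := hkey 1 (by rw [zpow_natCast, zpow_one]; exact h2)
    obtain ⟨m4, hm4⟩ := hs4
    omega
  have hact : ∀ y : X, y ∉ N → ∀ n ∈ N, y * n * y⁻¹ = n ^ s := by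
    intro y hy n hn
    have h1 : y * x⁻¹ ∈ N := (hdich y).resolve_left hy
    have h2 : y * n * y⁻¹ = (y * x⁻¹) * (x * n * x⁻¹) * (y * x⁻¹)⁻¹ := by group
    rw [h2, hs n hn, hNcomm _ h1 _ (N.pow_mem hn s), mul_inv_cancel_right]
  rcases Nat.lt_or_ge μ 3 with hμ3 | hμ3
  · -- order `8`
    have hμ' : μ = 2 := by omega
    subst hμ'
    have hν4 : orderOf ν = 4 := by rw [hμ]; norm_num
    have hν4' : ν ^ 4 = 1 := by rw [← hν4]; exact pow_orderOf_eq_one ν
    have hcardN : Nat.card N = 4 := by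
      rw [← orderOf_eq_card_of_forall_mem_zpowers hν, Subgroup.orderOf_mk, hν4]
    have hcard8 : Nat.card X = 2 * 4 := by rw [hcardX, hcardN]
    have hxz : x ∉ Subgroup.zpowers ν := fun h => hxN (by
      obtain ⟨k, rfl⟩ := Subgroup.mem_zpowers_iff.1 h
      exact N.zpow_mem hνN k)
    have hinv : x * ν * x⁻¹ = ν⁻¹ := by
      rw [hs ν hνN]
      obtain ⟨m4, hm4⟩ := hs4
      have h1 : ν ^ (s + 1) = 1 := by rw [hm4, pow_mul, hν4', one_pow]
      rw [pow_succ] at h1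
      exact eq_inv_of_mul_eq_one_left h1
    obtain ⟨e, he⟩ := hνm _ hx2
    have he2 : Even e := by
      have h1 : x * (x * x) * x⁻¹ = x * x := by group
      rw [hs _ hx2, he] at h1
      have h2 : ν ^ (e * ((s : ℤ) - 1)) = 1 := by
        rw [mul_sub, mul_one, zpow_sub, zpow_mul, zpow_natCast, h1, mul_inv_cancel]
      have h3 : ((orderOf ν : ℕ) : ℤ) ∣ e * ((s : ℤ) - 1) := orderOf_dvd_iff_zpow_eq_one.2 h2
      rw [hν4] at h3
      obtain ⟨m4, hm4⟩ := hs4
      have h4 : (s : ℤ) - 1 = 2 * (2 * m4 - 1) := by omega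
      rw [h4] at h3
      rcases Int.even_or_odd e with h | ⟨e', rfl⟩
      · exact h
      · exfalso
        obtain ⟨c, hc⟩ := h3
        have e1 : (2 * e' + 1) * (2 * (2 * (m4 : ℤ) - 1)) = 4 * (2 * e' * m4 - e' + m4) - 2 := by
          ring
        rw [e1] at hc
        generalize 2 * e' * (m4 : ℤ) - e' + m4 = M at hc
        push_cast at hc
        omega
    obtain ⟨e', rfl⟩ := he2
    rcases Int.even_or_odd e' with ⟨e'', rfl⟩ | ⟨e'', rfl⟩
    · have hxx : x * x = 1 := by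
        have e1 : e'' + e'' + (e'' + e'') = (4 : ℤ) * e'' := by ring
        rw [he, e1, zpow_mul, zpow_ofNat, hν4', one_zpow]
      exact Or.inr (Or.inl ⟨4, Cfsg.Agent.H3.dihedral_of_gens 4 hcard8 ν x hν4 hxz hxx hinv⟩)
    · have hxx : x * x = ν ^ 2 := by
        have e1 : 2 * e'' + 1 + (2 * e'' + 1) = (4 : ℤ) * e'' + 2 := by ring
        rw [he, e1, zpow_add, zpow_mul, zpow_ofNat, hν4', one_zpow, one_mul, zpow_ofNat]
      refine Or.inl ⟨2, ?_⟩
      have h1 := Cfsg.Agent.H25.nonempty_quat_equiv (k := 2) (M := (⊤ : Subgroup X)) ν x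
        (by show ν ^ 4 = 1; exact hν4') hxx hinv
        (fun c hc => by
          have h5 : ((orderOf ν : ℕ) : ℤ) ∣ c := orderOf_dvd_iff_zpow_eq_one.2 hc
          rw [hν4] at h5
          exact_mod_cast h5)
        (fun c hc => hxN (by
          have h5 : x = (ν ^ c)⁻¹ := eq_inv_of_mul_eq_one_left hc
          rw [h5]
          exact N.inv_mem (N.zpow_mem hνN c)))
        (Subgroup.mem_top _) (Subgroup.mem_top _) (by rw [Subgroup.card_top, hcard8])
      obtain ⟨f⟩ := h1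
      exact ⟨Subgroup.topEquiv.symm.trans f⟩
  · -- every normal abelian subgroup is cyclic
    have hn : ∀ B : Subgroup X, B.Normal → IsMulCommutative B → IsCyclic B := by
      intro B hBn hBc
      by_cases hBN : B ≤ N
      · exact isCyclic_of_injective (Subgroup.inclusion hBN) (Subgroup.inclusion_injective hBN)
      · exfalso
        obtain ⟨y, hyB, hyN⟩ := SetLike.not_le_iff_exists.1 hBN
        have hd : ν * y * ν⁻¹ * y⁻¹ ∈ B := B.mul_mem (hBn.conj_mem y hyB ν) (B.inv_mem hyB)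
        have hcomm : (ν * y * ν⁻¹ * y⁻¹) * y = y * (ν * y * ν⁻¹ * y⁻¹) := by
          have h1 := isMulCommutative_iff.1 hBc ⟨_, hd⟩ ⟨y, hyB⟩
          exact congrArg Subtype.val h1
        have hd' : ν * y * ν⁻¹ * y⁻¹ = ν ^ (1 - (s : ℤ)) := by
          have h1 : ν * y * ν⁻¹ * y⁻¹ = ν * (y * ν⁻¹ * y⁻¹) := by group
          rw [h1, hact y hyN _ (N.inv_mem hνN), zpow_sub, zpow_one, zpow_natCast, inv_pow]
        have h2 : (ν ^ (1 - (s : ℤ))) ^ s = ν ^ (1 - (s : ℤ)) := by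
          rw [← hact y hyN _ (N.zpow_mem hνN _), ← hd', ← hcomm, mul_inv_cancel_right]
        have h3 : ν ^ ((1 - (s : ℤ)) * ((s : ℤ) - 1)) = 1 := by
          rw [mul_sub, mul_one, zpow_sub, zpow_mul, zpow_natCast, h2, mul_inv_cancel]
        have h4 : ((orderOf ν : ℕ) : ℤ) ∣ (1 - (s : ℤ)) * ((s : ℤ) - 1) :=
          orderOf_dvd_iff_zpow_eq_one.2 h3
        have h5 : (8 : ℤ) ∣ ((orderOf ν : ℕ) : ℤ) := by
          rw [hμ]
          push_cast
          exact (by norm_num : (8 : ℤ) = 2 ^ 3) ▸ pow_dvd_pow (2 : ℤ) hμ3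
        obtain ⟨c, hc⟩ := h5.trans h4
        obtain ⟨m4, hm4⟩ := hs4
        have h6 : (s : ℤ) = 4 * m4 - 1 := by omega
        rw [h6] at hc
        have h7 : (1 - (4 * (m4 : ℤ) - 1)) * (4 * (m4 : ℤ) - 1 - 1) =
            8 * (2 * m4 - 2 * (m4 * m4)) - 4 := by ring
        rw [h7] at hc
        generalize 2 * (m4 : ℤ) - 2 * ((m4 : ℤ) * m4) = M at hc
        omega
    obtain ⟨-, h⟩ := Cfsg.Agent.H11.abelian_normal_cyclic_main 2 hX hn hnc
    rcases h with h | ⟨n, -, h⟩ | h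
    · exact Or.inl h
    · exact Or.inr (Or.inl ⟨n, h⟩)
    · exact Or.inr (Or.inr h)

end Cfsg.Agent.H29.MW
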