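import Mathlib
import Cfsg.Agent.H29.MetaTwo
import Cfsg.Agent.H25.Lift

/-!
# Automorphisms of metacyclic `p`-groups acting on the Frattini quotient (helper29)

General lemmas:

* `comm_pow_pow`, `mul_pow_class_two`: power formulas when the commutator is central;
* `prod_equiv`: an internal direct product of two cyclic subgroups of order `m` is
  `C_m × C_m`;
* `isMetacyclic_of_equiv`, `card_frQuot_le`: the Frattini quotient of a metacyclic `p`-group has
  order at most `p ^ 2`;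
* `core_setup`: if an automorphism `β` moves the line of the Frattini quotient spanned by the
  generator `ν₁` of a cyclic normal subgroup, then the group is the product of the two cyclic normal
  subgroups `⟨ν₁⟩` and `⟨β ν₁⟩`, with central commutator.
-/

set_option autoImplicit false

namespace Cfsg.Agent.H29.MA

open Cfsg Cfsg.Agent.H29.MW

theorem comm_pow_one {G : Type*} [Group G] {a b c : G} (h : b * a = c * a * b)
    (hca : Commute c a) (i : ℕ) : b * a ^ i = c ^ i * a ^ i * b := by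
  induction i with
  | zero => simp
  | succ i ih =>
    calc b * a ^ (i + 1) = (b * a ^ i) * a := by rw [pow_succ, mul_assoc]
      _ = c ^ i * a ^ i * (b * a) := by rw [ih]; simp only [mul_assoc]
      _ = c ^ i * a ^ i * (c * a * b) := by rw [h]
      _ = c ^ i * (a ^ i * c) * a * b := by simp only [mul_assoc]
      _ = c ^ i * (c * a ^ i) * a * b := by rw [(hca.pow_right i).eq]
      _ = c ^ (i + 1) * a ^ (i + 1) * b := by rw [pow_succ, pow_succ]; simp only [mul_assoc]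

theorem comm_pow_pow {G : Type*} [Group G] {a b c : G} (h : b * a = c * a * b)
    (hca : Commute c a) (hcb : Commute c b) (i j : ℕ) :
    b ^ j * a ^ i = c ^ (i * j) * a ^ i * b ^ j := by
  induction j with
  | zero => simp
  | succ j ih =>
    calc b ^ (j + 1) * a ^ i = b * (b ^ j * a ^ i) := by rw [pow_succ', mul_assoc]
      _ = b * (c ^ (i * j) * a ^ i * b ^ j) := by rw [ih]
      _ = (b * c ^ (i * j)) * a ^ i * b ^ j := by simp only [mul_assoc]
      _ = (c ^ (i * j) * b) * a ^ i * b ^ j := by rw [(hcb.pow_left (i * j)).eq]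
      _ = c ^ (i * j) * (b * a ^ i) * b ^ j := by simp only [mul_assoc]
      _ = c ^ (i * j) * (c ^ i * a ^ i * b) * b ^ j := by rw [comm_pow_one h hca i]
      _ = c ^ (i * (j + 1)) * a ^ i * b ^ (j + 1) := by
          rw [mul_add, mul_one, pow_add, pow_succ' b j]; simp only [mul_assoc]

theorem mul_pow_class_two {G : Type*} [Group G] {A B c : G} (h : B * A = c * A * B)
    (hcA : Commute c A) (hcB : Commute c B) (k : ℕ) :
    (A * B) ^ k = A ^ k * B ^ k * c ^ (k.choose 2) := by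
  induction k with
  | zero => simp
  | succ k ih =>
    have e1 : B ^ k * A = A * B ^ k * c ^ k := by
      have h1 := comm_pow_pow h hcA hcB 1 k
      rw [pow_one, one_mul] at h1
      rw [h1, mul_assoc, ((hcA.pow_left k).mul_right ((hcB.pow_left k).pow_right k)).eq]
    have hT : (k + 1).choose 2 = k + k.choose 2 := by
      rw [Nat.choose_succ_succ' k 1, Nat.choose_one_right]
    have c1 : Commute (c ^ k.choose 2) A := hcA.pow_left _
    have c2 : Commute (c ^ k.choose 2) B := hcB.pow_left _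
    calc (A * B) ^ (k + 1) = (A * B) ^ k * (A * B) := pow_succ _ _
      _ = A ^ k * B ^ k * c ^ k.choose 2 * (A * B) := by rw [ih]
      _ = A ^ k * B ^ k * (A * B) * c ^ k.choose 2 := by
          rw [mul_assoc (A ^ k * B ^ k), (c1.mul_right c2).eq, ← mul_assoc]
      _ = A ^ k * (B ^ k * A) * B * c ^ k.choose 2 := by simp only [mul_assoc]
      _ = A ^ k * (A * B ^ k * c ^ k) * B * c ^ k.choose 2 := by rw [e1]
      _ = A ^ k * A * B ^ k * (c ^ k * B) * c ^ k.choose 2 := by simp only [mul_assoc]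
      _ = A ^ k * A * B ^ k * (B * c ^ k) * c ^ k.choose 2 := by rw [(hcB.pow_left k).eq]
      _ = A ^ (k + 1) * B ^ (k + 1) * c ^ (k + 1).choose 2 := by
          rw [hT, pow_add c, pow_succ A, pow_succ B]; simp only [mul_assoc]

/-- An internal direct product of two cyclic subgroups of order `m`. -/
theorem prod_equiv {X : Type*} [Group X] (ν₁ ν₂ : X) (m : ℕ) [NeZero m] (h1 : orderOf ν₁ = m)
    (h2 : orderOf ν₂ = m) (hc : ν₁ * ν₂ = ν₂ * ν₁)
    (hD : ∀ a b : ℕ, ν₁ ^ a * ν₂ ^ b = 1 → ν₁ ^ a = 1)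
    (hgen : ∀ x : X, ∃ a b : ℕ, x = ν₁ ^ a * ν₂ ^ b) :
    Nonempty (X ≃* Multiplicative (ZMod m) × Multiplicative (ZMod m)) := by
  have hcomm : Commute ν₁ ν₂ := hc
  have hmod1 : ∀ n : ℕ, ν₁ ^ (n % m) = ν₁ ^ n := fun n => by
    have h3 := pow_mod_orderOf ν₁ n
    rwa [h1] at h3
  have hmod2 : ∀ n : ℕ, ν₂ ^ (n % m) = ν₂ ^ n := fun n => by
    have h3 := pow_mod_orderOf ν₂ n
    rwa [h2] at h3
  have hadd1 : ∀ i j : ZMod m, ν₁ ^ (i + j).val = ν₁ ^ i.val * ν₁ ^ j.val := by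
    intro i j
    rw [ZMod.val_add, ← pow_add, hmod1]
  have hadd2 : ∀ i j : ZMod m, ν₂ ^ (i + j).val = ν₂ ^ i.val * ν₂ ^ j.val := by
    intro i j
    rw [ZMod.val_add, ← pow_add, hmod2]
  let f : Multiplicative (ZMod m) × Multiplicative (ZMod m) →* X :=
    { toFun := fun x => ν₁ ^ (Multiplicative.toAdd x.1).val * ν₂ ^ (Multiplicative.toAdd x.2).val
      map_one' := by
        show ν₁ ^ (0 : ZMod m).val * ν₂ ^ (0 : ZMod m).val = 1
        rw [ZMod.val_zero, pow_zero, pow_zero, one_mul]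
      map_mul' := by
        intro x y
        show ν₁ ^ (Multiplicative.toAdd x.1 + Multiplicative.toAdd y.1).val *
            ν₂ ^ (Multiplicative.toAdd x.2 + Multiplicative.toAdd y.2).val = _
        rw [hadd1, hadd2]
        have e := (hcomm.pow_pow (Multiplicative.toAdd y.1).val (Multiplicative.toAdd x.2).val).eq
        calc ν₁ ^ (Multiplicative.toAdd x.1).val * ν₁ ^ (Multiplicative.toAdd y.1).val *
              (ν₂ ^ (Multiplicative.toAdd x.2).val * ν₂ ^ (Multiplicative.toAdd y.2).val)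
            = ν₁ ^ (Multiplicative.toAdd x.1).val * (ν₁ ^ (Multiplicative.toAdd y.1).val *
              ν₂ ^ (Multiplicative.toAdd x.2).val) * ν₂ ^ (Multiplicative.toAdd y.2).val := by
              simp only [mul_assoc]
          _ = ν₁ ^ (Multiplicative.toAdd x.1).val * (ν₂ ^ (Multiplicative.toAdd x.2).val *
              ν₁ ^ (Multiplicative.toAdd y.1).val) * ν₂ ^ (Multiplicative.toAdd y.2).val := by
              rw [e]
          _ = _ := by simp only [mul_assoc] }
  have hval0 : ∀ (ν : X), orderOf ν = m → ∀ a : ZMod m, ν ^ a.val = 1 → a = 0 := by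
    intro ν hν a ha
    have h3 := orderOf_dvd_of_pow_eq_one ha
    rw [hν] at h3
    have h4 : a.val < m := ZMod.val_lt a
    have h5 : a.val = 0 := Nat.eq_zero_of_dvd_of_lt h3 h4
    exact (ZMod.val_eq_zero a).1 h5
  have hinj : Function.Injective f := by
    rw [injective_iff_map_eq_one]
    rintro ⟨a, b⟩ hab
    have hab' : ν₁ ^ (Multiplicative.toAdd a).val * ν₂ ^ (Multiplicative.toAdd b).val = 1 := hab
    have ha := hD _ _ hab'
    rw [ha, one_mul] at hab'
    have ha0 := hval0 ν₁ h1 _ ha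
    have hb0 := hval0 ν₂ h2 _ hab'
    exact Prod.ext ha0 hb0
  have hsurj : Function.Surjective f := by
    intro x
    obtain ⟨a, b, rfl⟩ := hgen x
    refine ⟨(Multiplicative.ofAdd (a : ZMod m), Multiplicative.ofAdd (b : ZMod m)), ?_⟩
    show ν₁ ^ ((a : ZMod m)).val * ν₂ ^ ((b : ZMod m)).val = _
    rw [ZMod.val_natCast, ZMod.val_natCast, hmod1, hmod2]
  exact ⟨(MulEquiv.ofBijective f ⟨hinj, hsurj⟩).symm⟩

theorem isMetacyclic_of_equiv {G G' : Type*} [Group G] [Group G'] (e : G ≃* G')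
    (h : IsMetacyclic G) : IsMetacyclic G' := by
  obtain ⟨N, hN, hNc, hQc⟩ := h
  have hN' : (N.map e.toMonoidHom).Normal := hN.map _ e.surjective
  refine ⟨N.map e.toMonoidHom, hN', ?_, ?_⟩
  · exact isCyclic_of_surjective (e.subgroupMap N).toMonoidHom (e.subgroupMap N).surjective
  · exact isCyclic_of_surjective (QuotientGroup.congr N (N.map e.toMonoidHom) e rfl).toMonoidHom
      (QuotientGroup.congr N (N.map e.toMonoidHom) e rfl).surjective

theorem card_frQuot_le {X : Type*} [Group X] [Finite X] {p : ℕ} [Fact p.Prime] (hX : IsPGroup p X)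
    (hm : IsMetacyclic X) : Nat.card (X ⧸ frattini X) ≤ p ^ 2 := by
  have hp := Fact.out (p := p.Prime)
  have hm' : IsMetacyclic ↥(⊤ : Subgroup X) := isMetacyclic_of_equiv Subgroup.topEquiv.symm hm
  have h1 := card_le_of_metacyclic p hp.pos (⊤ : Subgroup X) hm' ⊤ (frattini X) le_top le_rfl
    (fun g _ d hd => (inferInstance : (frattini X).Normal).conj_mem d hd g)
    (fun g _ => H3.pow_mem_frattini hX g)
  rw [Subgroup.card_top, Subgroup.card_eq_card_quotient_mul_card_subgroup (frattini X)] at h1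
  exact Nat.le_of_mul_le_mul_right h1 Nat.card_pos

theorem core_setup {X : Type*} [Group X] [Finite X] {p : ℕ} [Fact p.Prime] (hX : IsPGroup p X)
    (hcard : Nat.card (X ⧸ frattini X) ≤ p ^ 2) (ν₁ : X)
    (hN : ∀ x : X, x * ν₁ * x⁻¹ ∈ Subgroup.zpowers ν₁) (β : MulAut X)
    (h1 : (QuotientGroup.mk' (frattini X)) ν₁ ≠ 1)
    (hβ : frQuot X β (QuotientGroup.mk' (frattini X) ν₁) ∉
      Subgroup.zpowers (QuotientGroup.mk' (frattini X) ν₁)) :
    (∀ x : X, ∃ a b : ℕ, x = ν₁ ^ a * (β ν₁) ^ b) ∧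
    (∀ x : X, x * β ν₁ * x⁻¹ ∈ Subgroup.zpowers (β ν₁)) ∧
    orderOf (β ν₁) = orderOf ν₁ ∧
    (β ν₁ * ν₁ * (β ν₁)⁻¹ * ν₁⁻¹ ∈ Subgroup.zpowers ν₁) ∧
    (β ν₁ * ν₁ * (β ν₁)⁻¹ * ν₁⁻¹ ∈ Subgroup.zpowers (β ν₁)) ∧
    (∀ x : X, x * (β ν₁ * ν₁ * (β ν₁)⁻¹ * ν₁⁻¹) = (β ν₁ * ν₁ * (β ν₁)⁻¹ * ν₁⁻¹) * x) := by
  have hcomm : ∀ a b : X ⧸ frattini X, a * b = b * a := frQuot_comm hX
  have hexp : ∀ a : X ⧸ frattini X, a ^ p = 1 := frQuot_exp hX
  have hβmk : frQuot X β (QuotientGroup.mk' (frattini X) ν₁) =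
      QuotientGroup.mk' (frattini X) (β ν₁) := rfl
  rw [hβmk] at hβ
  haveI hNn : (Subgroup.zpowers ν₁).Normal := by
    constructor
    intro n hn x
    obtain ⟨k, rfl⟩ := Subgroup.mem_zpowers_iff.1 hn
    rw [← conj_zpow]
    exact Subgroup.zpow_mem _ (hN x) k
  have hb : ∀ x : X, x * β ν₁ * x⁻¹ ∈ Subgroup.zpowers (β ν₁) := by
    intro x
    obtain ⟨k, hk⟩ := Subgroup.mem_zpowers_iff.1 (hN (β⁻¹ x))
    have h2 : x * β ν₁ * x⁻¹ = β (β⁻¹ x * ν₁ * (β⁻¹ x)⁻¹) := by
      rw [map_mul, map_mul, map_inv, MulAut.apply_inv_self]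
    rw [h2, ← hk, map_zpow]
    exact Subgroup.zpow_mem_zpowers _ k
  have hgen : ∀ x : X, ∃ a b : ℕ, x = ν₁ ^ a * (β ν₁) ^ b := by
    have hK : Subgroup.zpowers ν₁ ⊔ Subgroup.zpowers (β ν₁) = ⊤ := by
      apply frattini_nongenerating
      rw [eq_top_iff]
      intro x _
      obtain ⟨m, n, hmn⟩ := span_two' hcomm hexp hcard h1 hβ (QuotientGroup.mk' (frattini X) x)
      rw [← map_pow, ← map_pow, ← map_mul] at hmn
      have h3 : ((x : X) : X ⧸ frattini X) = ((ν₁ ^ m * β ν₁ ^ n : X) : X ⧸ frattini X) := hmn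
      have h4 := QuotientGroup.eq.1 h3.symm
      have e : x = (ν₁ ^ m * β ν₁ ^ n) * ((ν₁ ^ m * β ν₁ ^ n)⁻¹ * x) := by group
      rw [e]
      exact Subgroup.mul_mem_sup (Subgroup.mul_mem_sup (Subgroup.pow_mem _ (Subgroup.mem_zpowers _) _)
        (Subgroup.pow_mem _ (Subgroup.mem_zpowers _) _)) h4
    intro x
    have hx : x ∈ ((Subgroup.zpowers ν₁ ⊔ Subgroup.zpowers (β ν₁) : Subgroup X) : Set X) := by
      rw [hK]; exact Subgroup.mem_top x
    rw [Subgroup.normal_mul] at hx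
    obtain ⟨n, hn, k, hk, rfl⟩ := Set.mem_mul.1 hx
    have hn' : n ∈ Subgroup.zpowers ν₁ := hn
    have hk' : k ∈ Subgroup.zpowers (β ν₁) := hk
    rw [← mem_powers_iff_mem_zpowers] at hn' hk'
    obtain ⟨a, ha⟩ := (Submonoid.mem_powers_iff _ _).1 hn'
    obtain ⟨b, hb'⟩ := (Submonoid.mem_powers_iff _ _).1 hk'
    exact ⟨a, b, by rw [ha, hb']⟩
  have hc1 : β ν₁ * ν₁ * (β ν₁)⁻¹ * ν₁⁻¹ ∈ Subgroup.zpowers ν₁ :=
    Subgroup.mul_mem _ (hN (β ν₁)) (Subgroup.inv_mem _ (Subgroup.mem_zpowers ν₁))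
  have hc2 : β ν₁ * ν₁ * (β ν₁)⁻¹ * ν₁⁻¹ ∈ Subgroup.zpowers (β ν₁) := by
    have h2 := Subgroup.inv_mem _ (hb ν₁)
    have e : β ν₁ * ν₁ * (β ν₁)⁻¹ * ν₁⁻¹ = β ν₁ * (ν₁ * β ν₁ * ν₁⁻¹)⁻¹ := by group
    rw [e]
    exact Subgroup.mul_mem _ (Subgroup.mem_zpowers _) h2
  refine ⟨hgen, hb, MulEquiv.orderOf_eq β ν₁, hc1, hc2, fun x => ?_⟩
  obtain ⟨e₁, he₁⟩ := Subgroup.mem_zpowers_iff.1 hc1
  obtain ⟨e₂, he₂⟩ := Subgroup.mem_zpowers_iff.1 hc2
  obtain ⟨a, b, rfl⟩ := hgen x
  have k1 : Commute (ν₁ ^ a) (β ν₁ * ν₁ * (β ν₁)⁻¹ * ν₁⁻¹) := by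
    rw [← he₁]
    exact ((Commute.refl ν₁).pow_left a).zpow_right e₁
  have k2 : Commute ((β ν₁) ^ b) (β ν₁ * ν₁ * (β ν₁)⁻¹ * ν₁⁻¹) := by
    rw [← he₂]
    exact ((Commute.refl (β ν₁)).pow_left b).zpow_right e₂
  exact (k1.mul_left k2).eq

/-- A metacyclic `2`-group with a nontrivial automorphism of odd order is homocyclic of rank two or
the quaternion group of order `8`. -/
theorem aut_two_main {X : Type*} [Group X] [Finite X] (hX : IsPGroup 2 X) (hm : IsMetacyclic X)
    (α : MulAut X) (q : ℕ) (hq : Odd q) (hαq : α ^ q = 1) (hα1 : α ≠ 1) :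
    (∃ n : ℕ, 0 < n ∧
      Nonempty (X ≃* Multiplicative (ZMod (2 ^ n)) × Multiplicative (ZMod (2 ^ n)))) ∨
      Nonempty (X ≃* QuaternionGroup 2) := by
  haveI : Fact (Nat.Prime 2) := ⟨Nat.prime_two⟩
  have hcomm : ∀ a b : X ⧸ frattini X, a * b = b * a := frQuot_comm hX
  have hexp : ∀ a : X ⧸ frattini X, a ^ 2 = 1 := frQuot_exp hX
  have hcard : Nat.card (X ⧸ frattini X) ≤ 2 ^ 2 := card_frQuot_le hX hm
  have hsq : ∀ w : X ⧸ frattini X, w * w = 1 := fun w => by rw [← pow_two]; exact hexp w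
  have hzpow : ∀ (w : X ⧸ frattini X) (k : ℤ), w ^ k = 1 ∨ w ^ k = w := by
    intro w k
    rcases Int.even_or_odd k with ⟨r, rfl⟩ | ⟨r, rfl⟩
    · left
      rw [← two_mul, zpow_mul, zpow_ofNat, hexp, one_zpow]
    · right
      rw [zpow_add, zpow_one, zpow_mul, zpow_ofNat, hexp, one_zpow, one_mul]
  have hpow : ∀ (w : X ⧸ frattini X) (k : ℕ), w ^ k = 1 ∨ w ^ k = w := by
    intro w k
    have := hzpow w k
    rwa [zpow_natCast] at this
  have hpow_odd : ∀ (w : X ⧸ frattini X) (k : ℕ), Odd k → w ^ k = w := by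
    rintro w k ⟨r, rfl⟩
    rw [pow_succ, pow_mul, hexp, one_pow, one_mul]
  have hpow_even : ∀ (w : X ⧸ frattini X) (k : ℕ), Even k → w ^ k = 1 := by
    rintro w k ⟨r, rfl⟩
    rw [← two_mul, pow_mul, hexp, one_pow]
  -- the action on the Frattini quotient is nontrivial and fixed point free
  have hA1 : frQuot X α ≠ 1 := by
    intro h
    have hk : α ∈ (frQuot X).ker := MonoidHom.mem_ker.2 h
    obtain ⟨k, hk'⟩ := (frQuot_ker_isPGroup hX) ⟨α, hk⟩
    have hk2 : α ^ 2 ^ k = 1 := by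
      have := congrArg Subtype.val hk'
      simpa using this
    have h3 : orderOf α ∣ Nat.gcd (2 ^ k) q :=
      Nat.dvd_gcd (orderOf_dvd_of_pow_eq_one hk2) (orderOf_dvd_of_pow_eq_one hαq)
    have h4 : Nat.gcd (2 ^ k) q = 1 := Nat.Coprime.pow_left k (Nat.coprime_two_left.2 hq)
    rw [h4, Nat.dvd_one, orderOf_eq_one_iff] at h3
    exact hα1 h3
  have hAq : (frQuot X α) ^ q = 1 := by rw [← map_pow, hαq, map_one]
  have hfix : ∀ w : X ⧸ frattini X, w ≠ 1 → frQuot X α w ≠ w := by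
    intro w hw hfw
    apply hA1
    have h2 : ∀ u, frQuot X α (frQuot X α u) = u := by
      intro u
      by_cases hu : u ∈ Subgroup.zpowers w
      · obtain ⟨k, rfl⟩ := Subgroup.mem_zpowers_iff.1 hu
        rw [map_zpow, hfw, map_zpow, hfw]
      · obtain ⟨m, n, hmn⟩ := span_two' hcomm hexp hcard hw hu (frQuot X α u)
        rcases hpow w m with h3 | h3 <;> rcases hpow u n with h4 | h4
        · exfalso
          rw [h3, h4, mul_one] at hmn
          apply hu
          have : u = 1 := (frQuot X α).injective (by rw [hmn, map_one])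
          rw [this]
          exact Subgroup.one_mem _
        · rw [h3, h4, one_mul] at hmn
          rw [hmn, hmn]
        · exfalso
          rw [h3, h4, mul_one] at hmn
          apply hu
          have : u = w := (frQuot X α).injective (by rw [hmn, hfw])
          rw [this]
          exact Subgroup.mem_zpowers w
        · rw [h3, h4] at hmn
          rw [hmn, map_mul, hfw, hmn, ← mul_assoc, hsq, one_mul]
    have hA2 : frQuot X α ^ 2 = 1 := by
      apply MulEquiv.ext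
      intro u
      rw [pow_two, MulAut.mul_apply, h2]
      rfl
    obtain ⟨r, rfl⟩ := hq
    rw [pow_succ, pow_mul, hA2, one_pow, one_mul] at hAq
    exact hAq
  -- the cyclic normal subgroup
  obtain ⟨N, hNn, hNc, hQc⟩ := hm
  obtain ⟨⟨ν₁, hν₁N⟩, hgen⟩ := IsCyclic.exists_generator (α := ↥N)
  have hνm : ∀ n ∈ N, n ∈ Subgroup.zpowers ν₁ := by
    intro n hn
    obtain ⟨k, hk⟩ := Subgroup.mem_zpowers_iff.1 (hgen ⟨n, hn⟩)
    exact Subgroup.mem_zpowers_iff.2 ⟨k, by have := congrArg Subtype.val hk; simpa using this⟩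
  have hN : ∀ x : X, x * ν₁ * x⁻¹ ∈ Subgroup.zpowers ν₁ :=
    fun x => hνm _ (hNn.conj_mem _ hν₁N x)
  obtain ⟨g0, hg0⟩ := IsCyclic.exists_generator (α := X ⧸ N)
  obtain ⟨g, rfl⟩ := QuotientGroup.mk'_surjective N g0
  have hw1 : QuotientGroup.mk' (frattini X) ν₁ ≠ 1 := by
    intro h
    have hall : ∀ w : X ⧸ frattini X,
        w ∈ Subgroup.zpowers (QuotientGroup.mk' (frattini X) g) := by
      intro w
      obtain ⟨x, rfl⟩ := QuotientGroup.mk'_surjective (frattini X) w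
      obtain ⟨k, hk⟩ := Subgroup.mem_zpowers_iff.1 (hg0 (QuotientGroup.mk' N x))
      have hk' : ((g ^ k : X) : X ⧸ N) = ((x : X) : X ⧸ N) :=
        (map_zpow (QuotientGroup.mk' N) g k).trans hk
      have h3 := hνm _ (QuotientGroup.eq.1 hk')
      obtain ⟨j, hj⟩ := Subgroup.mem_zpowers_iff.1 h3
      have e : x = g ^ k * ν₁ ^ j := by rw [hj]; group
      rw [e, map_mul, map_zpow, map_zpow, h, one_zpow, mul_one]
      exact Subgroup.zpow_mem_zpowers _ k
    by_cases hg1 : QuotientGroup.mk' (frattini X) g = 1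
    · apply hA1
      apply MulEquiv.ext
      intro w
      obtain ⟨k, rfl⟩ := Subgroup.mem_zpowers_iff.1 (hall w)
      rw [hg1, one_zpow, map_one]
      rfl
    · apply hfix _ hg1
      obtain ⟨k, hk⟩ := Subgroup.mem_zpowers_iff.1
        (hall (frQuot X α (QuotientGroup.mk' (frattini X) g)))
      rcases hzpow (QuotientGroup.mk' (frattini X) g) k with h1 | h1
      · exfalso
        rw [h1] at hk
        exact hg1 ((frQuot X α).injective (by rw [← hk, map_one]))
      · rw [← hk, h1]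
  have hw2 : frQuot X α (QuotientGroup.mk' (frattini X) ν₁) ∉
      Subgroup.zpowers (QuotientGroup.mk' (frattini X) ν₁) := by
    intro hmem
    obtain ⟨k, hk⟩ := Subgroup.mem_zpowers_iff.1 hmem
    rcases hzpow (QuotientGroup.mk' (frattini X) ν₁) k with h1 | h1
    · rw [h1] at hk
      exact hw1 ((frQuot X α).injective (by rw [← hk, map_one]))
    · rw [h1] at hk
      exact hfix _ hw1 hk.symm
  obtain ⟨hgenX, hN2, hord2, hc1, hc2, hcc⟩ := core_setup hX hcard ν₁ hN α hw1 hw2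
  have hmk2 : frQuot X α (QuotientGroup.mk' (frattini X) ν₁) =
      QuotientGroup.mk' (frattini X) (α ν₁) := rfl
  have hmk3 : frQuot X α (QuotientGroup.mk' (frattini X) (α ν₁)) =
      QuotientGroup.mk' (frattini X) (α (α ν₁)) := rfl
  rw [hmk2] at hw2
  obtain ⟨ν₂, hν₂⟩ : ∃ ν₂, α ν₁ = ν₂ := ⟨_, rfl⟩
  rw [hν₂] at hgenX hN2 hord2 hc1 hc2 hcc hw2 hmk2 hmk3
  have hw2ne : QuotientGroup.mk' (frattini X) ν₂ ≠ 1 := fun h => hw2 (h ▸ Subgroup.one_mem _)
  have hw3 : QuotientGroup.mk' (frattini X) (α ν₂) =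
      QuotientGroup.mk' (frattini X) ν₁ * QuotientGroup.mk' (frattini X) ν₂ := by
    obtain ⟨m, n, hmn⟩ := span_two' hcomm hexp hcard hw1 hw2
      (frQuot X α (QuotientGroup.mk' (frattini X) ν₂))
    rcases hpow (QuotientGroup.mk' (frattini X) ν₁) m with h3 | h3 <;>
      rcases hpow (QuotientGroup.mk' (frattini X) ν₂) n with h4 | h4
    · exfalso
      rw [h3, h4, mul_one] at hmn
      exact hw2ne ((frQuot X α).injective (by rw [hmn, map_one]))
    · exfalso
      rw [h3, h4, one_mul] at hmn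
      exact hfix _ hw2ne hmn
    · exfalso
      rw [h3, h4, mul_one] at hmn
      have hne : QuotientGroup.mk' (frattini X) ν₁ * QuotientGroup.mk' (frattini X) ν₂ ≠ 1 := by
        intro h
        apply hw2
        rw [eq_inv_of_mul_eq_one_right h]
        exact Subgroup.inv_mem _ (Subgroup.mem_zpowers _)
      apply hfix _ hne
      rw [map_mul, hmk2, hmn]
      exact hcomm _ _
    · rw [← hmk3, hmn, h3, h4]
  obtain ⟨μ, hμ⟩ := orderOf_eq_two_pow hX ν₁
  have hν₁ne : ν₁ ≠ 1 := by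
    intro h
    apply hw1
    rw [h, map_one]
  have hμ1 : 1 ≤ μ := by
    by_contra hlt
    have h0 : μ = 0 := by omega
    rw [h0, pow_zero, orderOf_eq_one_iff] at hμ
    exact hν₁ne hμ
  by_cases hD : ∀ d : X, d ∈ Subgroup.zpowers ν₁ → d ∈ Subgroup.zpowers ν₂ → d = 1
  · left
    refine ⟨μ, hμ1, ?_⟩
    have hc := hD _ hc1 hc2
    have hcomm12 : ν₁ * ν₂ = ν₂ * ν₁ := by
      have e : ν₂ * ν₁ = (ν₂ * ν₁ * ν₂⁻¹ * ν₁⁻¹) * ν₁ * ν₂ := by group
      rw [e, hc, one_mul]
    haveI : NeZero (2 ^ μ) := ⟨by positivity⟩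
    exact prod_equiv ν₁ ν₂ (2 ^ μ) hμ (hord2.trans hμ) hcomm12
      (fun a b hab => hD _ (Subgroup.pow_mem _ (Subgroup.mem_zpowers ν₁) a) (by
        have h5 : ν₁ ^ a = (ν₂ ^ b)⁻¹ := eq_inv_of_mul_eq_one_left hab
        rw [h5]
        exact Subgroup.inv_mem _ (Subgroup.pow_mem _ (Subgroup.mem_zpowers ν₂) b))) hgenX
  · right
    push Not at hD
    obtain ⟨d, hd1, hd2, hdne⟩ := hD
    obtain ⟨μ', rfl⟩ : ∃ μ', μ = μ' + 1 := ⟨μ - 1, by omega⟩
    have hord2' : orderOf ν₂ = 2 ^ (μ' + 1) := hord2.trans hμ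
    have hν1pow : ν₁ ^ 2 ^ (μ' + 1) = 1 := by rw [← hμ]; exact pow_orderOf_eq_one ν₁
    have hν2pow : ν₂ ^ 2 ^ (μ' + 1) = 1 := by rw [← hord2']; exact pow_orderOf_eq_one ν₂
    have hz2 : (ν₁ ^ 2 ^ μ') ^ 2 = 1 := by rw [← pow_mul, ← pow_succ]; exact hν1pow
    have hz1 : ν₁ ^ 2 ^ μ' ≠ 1 := by
      intro h
      have h3 := orderOf_dvd_of_pow_eq_one h
      rw [hμ] at h3
      have h4 := Nat.le_of_dvd (by positivity) h3
      have h5 : 2 ^ μ' < 2 ^ (μ' + 1) := Nat.pow_lt_pow_right (by norm_num) (Nat.lt_succ_self _)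
      omega
    have hz22 : (ν₂ ^ 2 ^ μ') ^ 2 = 1 := by rw [← pow_mul, ← pow_succ]; exact hν2pow
    have hz21 : ν₂ ^ 2 ^ μ' ≠ 1 := by
      intro h
      have h3 := orderOf_dvd_of_pow_eq_one h
      rw [hord2'] at h3
      have h4 := Nat.le_of_dvd (by positivity) h3
      have h5 : 2 ^ μ' < 2 ^ (μ' + 1) := Nat.pow_lt_pow_right (by norm_num) (Nat.lt_succ_self _)
      omega
    -- involutions of `⟨ν₁⟩`
    have hinv : ∀ y ∈ Subgroup.zpowers ν₁, y ^ 2 = 1 → y = 1 ∨ y = ν₁ ^ 2 ^ μ' := by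
      intro y hy hy2
      rw [← mem_powers_iff_mem_zpowers] at hy
      obtain ⟨r, rfl⟩ := (Submonoid.mem_powers_iff _ _).1 hy
      rw [← pow_mul] at hy2
      have h3 := orderOf_dvd_of_pow_eq_one hy2
      rw [hμ, pow_succ] at h3
      have h4 : 2 ^ μ' ∣ r := Nat.dvd_of_mul_dvd_mul_right (by norm_num) h3
      obtain ⟨t, rfl⟩ := h4
      rw [pow_mul]
      rcases Nat.even_or_odd t with ⟨t', rfl⟩ | ⟨t', rfl⟩
      · left
        rw [← two_mul, pow_mul, hz2, one_pow]
      · right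
        rw [pow_succ, pow_mul, hz2, one_pow, one_mul]
    -- the involution of `⟨ν₂⟩` lies in `⟨ν₁⟩`
    have hzeq : ν₂ ^ 2 ^ μ' = ν₁ ^ 2 ^ μ' := by
      have ho2 : orderOf (ν₂ ^ 2 ^ μ') = 2 := orderOf_eq_prime hz22 hz21
      obtain ⟨e, he⟩ := orderOf_eq_two_pow hX d
      have he1 : 2 ∣ orderOf d := by
        rw [he]
        have : e ≠ 0 := by
          rintro rfl
          rw [pow_zero, orderOf_eq_one_iff] at he
          exact hdne he
        exact dvd_pow_self 2 this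
      have h3 := mem_zpowers_of_orderOf_dvd (C := ↥(Subgroup.zpowers ν₂))
        (x := ⟨ν₂ ^ 2 ^ μ', Subgroup.pow_mem _ (Subgroup.mem_zpowers ν₂) _⟩) (y := ⟨d, hd2⟩)
        (by rw [Subgroup.orderOf_mk, Subgroup.orderOf_mk, ho2]; exact he1)
      obtain ⟨k, hk⟩ := Subgroup.mem_zpowers_iff.1 h3
      have hk' : d ^ k = ν₂ ^ 2 ^ μ' := by
        have := congrArg Subtype.val hk
        rwa [Subgroup.coe_zpow] at this
      have h4 : ν₂ ^ 2 ^ μ' ∈ Subgroup.zpowers ν₁ := by
        rw [← hk']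
        exact Subgroup.zpow_mem _ hd1 k
      rcases hinv _ h4 hz22 with h5 | h5
      · exact absurd h5 hz21
      · exact h5
    have hαz : α (ν₁ ^ 2 ^ μ') = ν₁ ^ 2 ^ μ' := by rw [map_pow, hν₂, hzeq]
    have hz3 : (α ν₂) ^ 2 ^ μ' = ν₁ ^ 2 ^ μ' := by rw [← map_pow, hzeq, hαz]
    obtain ⟨i, j, hij⟩ := hgenX (α ν₂)
    have hij' : QuotientGroup.mk' (frattini X) ν₁ * QuotientGroup.mk' (frattini X) ν₂ =
        QuotientGroup.mk' (frattini X) ν₁ ^ i * QuotientGroup.mk' (frattini X) ν₂ ^ j := by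
      rw [← hw3, hij, map_mul, map_pow, map_pow]
    have hi : Odd i := by
      rcases Nat.even_or_odd i with h | h
      · exfalso
        rw [hpow_even _ i h, one_mul] at hij'
        rcases hpow (QuotientGroup.mk' (frattini X) ν₂) j with h4 | h4
        · rw [h4] at hij'
          apply hw2
          rw [eq_inv_of_mul_eq_one_right hij']
          exact Subgroup.inv_mem _ (Subgroup.mem_zpowers _)
        · rw [h4] at hij'
          exact hw1 (mul_eq_right.1 hij')
      · exact h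
    have hj : Odd j := by
      rcases Nat.even_or_odd j with h | h
      · exfalso
        rw [hpow_even _ j h, mul_one] at hij'
        apply hw2
        have h5 : QuotientGroup.mk' (frattini X) ν₂ =
            (QuotientGroup.mk' (frattini X) ν₁)⁻¹ * QuotientGroup.mk' (frattini X) ν₁ ^ i := by
          rw [← hij', inv_mul_cancel_left]
        rw [h5]
        exact Subgroup.mul_mem _ (Subgroup.inv_mem _ (Subgroup.mem_zpowers _))
          (Subgroup.pow_mem _ (Subgroup.mem_zpowers _) i)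
      · exact h
    -- the commutator
    obtain ⟨c, hc⟩ : ∃ c, ν₂ * ν₁ * ν₂⁻¹ * ν₁⁻¹ = c := ⟨_, rfl⟩
    rw [hc] at hc1 hc2 hcc
    have hrel : ν₂ * ν₁ = c * ν₁ * ν₂ := by rw [← hc]; group
    have hcA : Commute c ν₁ := (hcc ν₁).symm
    have hcB : Commute c ν₂ := (hcc ν₂).symm
    have hrel' := comm_pow_pow hrel hcA hcB i j
    have hkey := mul_pow_class_two hrel' ((hcA.pow_left (i * j)).pow_right i)
      ((hcB.pow_left (i * j)).pow_right j) (2 ^ μ')
    rw [← hij, hz3, ← pow_mul, mul_comm i, pow_mul, ← pow_mul ν₂, mul_comm j, pow_mul ν₂, hzeq] at hkey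
    have hzi : (ν₁ ^ 2 ^ μ') ^ i = ν₁ ^ 2 ^ μ' := by
      obtain ⟨i', rfl⟩ := hi
      rw [pow_succ, pow_mul, hz2, one_pow, one_mul]
    have hzj : (ν₁ ^ 2 ^ μ') ^ j = ν₁ ^ 2 ^ μ' := by
      obtain ⟨j', rfl⟩ := hj
      rw [pow_succ, pow_mul, hz2, one_pow, one_mul]
    rw [hzi, hzj, ← pow_two, hz2, one_mul, ← pow_mul] at hkey
    -- `c` is an even power of `ν₁`
    rw [← mem_powers_iff_mem_zpowers] at hc1
    obtain ⟨e, he⟩ := (Submonoid.mem_powers_iff _ _).1 hc1
    have he_even : Even e := by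
      rcases Nat.even_or_odd e with h | h
      · exact h
      · exfalso
        obtain ⟨f, hf⟩ := Subgroup.mem_zpowers_iff.1 hc2
        have h3 : QuotientGroup.mk' (frattini X) ν₁ ^ e =
            QuotientGroup.mk' (frattini X) ν₂ ^ f := by
          rw [← map_pow, ← map_zpow, he, hf]
        rw [hpow_odd _ e h] at h3
        rcases hzpow (QuotientGroup.mk' (frattini X) ν₂) f with h4 | h4
        · rw [h4] at h3
          exact hw1 h3
        · rw [h4] at h3
          apply hw2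
          rw [← h3]
          exact Subgroup.mem_zpowers _
    obtain ⟨e', rfl⟩ := he_even
    have hν₂N : ν₂ ∉ Subgroup.zpowers ν₁ := by
      intro h
      apply hw2
      obtain ⟨k, hk⟩ := Subgroup.mem_zpowers_iff.1 h
      rw [← hk, map_zpow]
      exact Subgroup.zpow_mem_zpowers _ k
    rcases Nat.eq_zero_or_pos μ' with hμ0 | hμpos
    · -- `μ = 1` is impossible
      exfalso
      subst hμ0
      rw [pow_zero, pow_one, pow_one] at hzeq
      exact hν₂N (hzeq ▸ Subgroup.mem_zpowers ν₁)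
    rcases Nat.lt_or_ge μ' 2 with hμ2 | hμ2
    · -- order `8`: the quaternion group
      have hμ'1 : μ' = 1 := by omega
      subst hμ'1
      have hν4 : orderOf ν₁ = 4 := by rw [hμ]; norm_num
      have hν4' : ν₁ ^ 4 = 1 := by rw [← hν4]; exact pow_orderOf_eq_one ν₁
      have hzz : ν₁ ^ 2 ^ 1 = ν₁ ^ 2 := by norm_num
      rw [hzz] at hkey hzeq hz2 hz1
      have hc2' : c ^ 2 = 1 := by
        rw [← he, ← pow_mul]
        have : (e' + e') * 2 = 4 * e' := by ring
        rw [this, pow_mul, hν4', one_pow]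
      have hchoose : (2 ^ 1).choose 2 = 1 := by decide
      rw [hchoose, mul_one] at hkey
      have hcz : c = ν₁ ^ 2 := by
        have hodd : Odd (i * j) := hi.mul hj
        have h' : c ^ (i * j) = c := by
          obtain ⟨r, hr⟩ := hodd
          rw [hr, pow_succ, pow_mul, hc2', one_pow, one_mul]
        rw [h'] at hkey
        exact hkey.symm
      have hBB : ν₂ * ν₂ = ν₁ ^ 2 := by rw [← pow_two]; simpa using hzeq
      have hBA : ν₂ * ν₁ * ν₂⁻¹ = ν₁⁻¹ := by
        have h5 : ν₂ * ν₁ * ν₂⁻¹ = c * ν₁ := by rw [← hc]; group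
        rw [h5, hcz, ← pow_succ]
        have h6 : ν₁ ^ (2 + 1) * ν₁ = 1 := by rw [← pow_succ]; exact hν4'
        exact eq_inv_of_mul_eq_one_left h6
      have hidx : (Subgroup.zpowers ν₁).index = 2 := by
        rw [Subgroup.index_eq_two_iff]
        refine ⟨ν₂, fun b => ?_⟩
        obtain ⟨a', b', rfl⟩ := hgenX b
        have hsqmem : ∀ t : ℕ, ν₂ ^ (t + t) ∈ Subgroup.zpowers ν₁ := by
          intro t
          rw [← two_mul, pow_mul, pow_two, hBB]
          exact Subgroup.pow_mem _ (Subgroup.pow_mem _ (Subgroup.mem_zpowers ν₁) 2) t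
        rcases Nat.even_or_odd b' with ⟨t, rfl⟩ | ⟨t, rfl⟩
        · refine Or.inr ⟨Subgroup.mul_mem _ (Subgroup.pow_mem _ (Subgroup.mem_zpowers ν₁) a')
            (hsqmem t), fun h => hν₂N ?_⟩
          have h7 := Subgroup.mul_mem _ (Subgroup.inv_mem _ (Subgroup.mul_mem _
            (Subgroup.pow_mem _ (Subgroup.mem_zpowers ν₁) a') (hsqmem t))) h
          have e7 : (ν₁ ^ a' * ν₂ ^ (t + t))⁻¹ * (ν₁ ^ a' * ν₂ ^ (t + t) * ν₂) = ν₂ := by group
          rwa [e7] at h7
        · have h8 : ν₁ ^ a' * ν₂ ^ (2 * t + 1) * ν₂ ∈ Subgroup.zpowers ν₁ := by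
            have e8 : ν₁ ^ a' * ν₂ ^ (2 * t + 1) * ν₂ = ν₁ ^ a' * ν₂ ^ ((t + 1) + (t + 1)) := by
              rw [mul_assoc, ← pow_succ]
              congr 2
              ring
            rw [e8]
            exact Subgroup.mul_mem _ (Subgroup.pow_mem _ (Subgroup.mem_zpowers ν₁) a')
              (hsqmem (t + 1))
          refine Or.inl ⟨h8, fun h => hν₂N ?_⟩
          have h7 := Subgroup.mul_mem _ (Subgroup.inv_mem _ h) h8
          have e7 : (ν₁ ^ a' * ν₂ ^ (2 * t + 1))⁻¹ * (ν₁ ^ a' * ν₂ ^ (2 * t + 1) * ν₂) = ν₂ := by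
            group
          rwa [e7] at h7
      have hcard8 : Nat.card X = 4 * 2 := by
        rw [← Subgroup.card_mul_index (Subgroup.zpowers ν₁), hidx, Nat.card_zpowers, hν4]
      obtain ⟨f⟩ := Cfsg.Agent.H25.nonempty_quat_equiv (k := 2) (M := (⊤ : Subgroup X)) ν₁ ν₂
        (by show ν₁ ^ 4 = 1; exact hν4') hBB hBA
        (fun c' hc' => by
          have h5 : ((orderOf ν₁ : ℕ) : ℤ) ∣ c' := orderOf_dvd_iff_zpow_eq_one.2 hc'
          rw [hν4] at h5
          exact_mod_cast h5)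
        (fun c' hc' => hν₂N (by
          have h5 : ν₂ = (ν₁ ^ c')⁻¹ := eq_inv_of_mul_eq_one_left hc'
          rw [h5]
          exact Subgroup.inv_mem _ (Subgroup.zpow_mem_zpowers ν₁ c')))
        (Subgroup.mem_top _) (Subgroup.mem_top _) (by rw [Subgroup.card_top, hcard8])
      exact ⟨Subgroup.topEquiv.symm.trans f⟩
    · -- `μ ≥ 3` is impossible
      exfalso
      obtain ⟨h, hh⟩ : ∃ h, μ' = h + 1 := ⟨μ' - 1, by omega⟩
      subst hh
      have hchoose : (2 ^ (h + 1)).choose 2 = 2 ^ h * (2 ^ (h + 1) - 1) := by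
        rw [Nat.choose_two_right]
        have : 2 ^ (h + 1) * (2 ^ (h + 1) - 1) = 2 * (2 ^ h * (2 ^ (h + 1) - 1)) := by
          rw [pow_succ]; ring
        rw [this, Nat.mul_div_cancel_left _ (by norm_num : 0 < 2)]
      have hch : c ^ 2 ^ h = (ν₁ ^ 2 ^ (h + 1)) ^ e' := by
        rw [← he, ← pow_mul, ← pow_mul]
        congr 1
        rw [pow_succ]; ring
      rw [hchoose, ← mul_assoc, mul_comm (i * j), mul_assoc, pow_mul, hch, ← pow_mul] at hkey
      have he'odd : Odd e' := by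
        rcases Nat.even_or_odd e' with ⟨r, rfl⟩ | h'
        · exfalso
          apply hz1
          rw [hkey]
          have : (r + r) * (i * j * (2 ^ (h + 1) - 1)) = 2 * (r * (i * j * (2 ^ (h + 1) - 1))) := by
            ring
          rw [this, pow_mul, hz2, one_pow]
        · exact h'
      -- `c = c ^ (2 e') * c`
      have h5 : ν₂ * ν₁ * ν₂⁻¹ = c * ν₁ := by rw [← hc]; group
      have h6 : ν₂ * c * ν₂⁻¹ = c := by rw [← hcB.eq, mul_inv_cancel_right]
      have h7 : ν₂ * c * ν₂⁻¹ = c ^ (e' + e') * c := by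
        nth_rewrite 1 [← he]
        rw [← conj_pow, h5, hcA.mul_pow, he]
      rw [h6] at h7
      have h8 : c ^ (e' + e') = 1 := by
        have := h7.symm
        rwa [mul_eq_right] at this
      rw [← he, ← pow_mul] at h8
      have h9 := orderOf_dvd_of_pow_eq_one h8
      rw [hμ] at h9
      obtain ⟨r, hr⟩ := he'odd
      have h10 : (2 : ℕ) ^ 3 ∣ 2 ^ (h + 1 + 1) := pow_dvd_pow 2 (by omega)
      obtain ⟨t, ht⟩ := h10.trans h9
      have h11 : (e' + e') * (e' + e') = 4 * (e' * e') := by ring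
      rw [h11, hr] at ht
      have h12 : (2 * r + 1) * (2 * r + 1) = 2 * (2 * r * r + 2 * r) + 1 := by ring
      rw [h12] at ht
      generalize 2 * r * r + 2 * r = M at ht
      omega

/-- The automorphism group of a metacyclic `2`-group which is neither homocyclic of rank two nor the
quaternion group of order `8` is a `2`-group. -/
theorem mulAut_isPGroup_two {X : Type*} [Group X] [Finite X] (hX : IsPGroup 2 X)
    (hm : IsMetacyclic X)
    (hh : ¬ ∃ n : ℕ, 0 < n ∧
      Nonempty (X ≃* Multiplicative (ZMod (2 ^ n)) × Multiplicative (ZMod (2 ^ n))))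
    (hq : ¬ Nonempty (X ≃* QuaternionGroup 2)) : IsPGroup 2 (MulAut X) := by
  intro α
  have h0 : orderOf α ≠ 0 := (orderOf_pos α).ne'
  obtain ⟨k, m, hm', hkm⟩ := Nat.exists_eq_two_pow_mul_odd h0
  refine ⟨k, ?_⟩
  by_contra hne
  have h1 : (α ^ 2 ^ k) ^ m = 1 := by rw [← pow_mul, ← hkm]; exact pow_orderOf_eq_one α
  rcases aut_two_main hX hm (α ^ 2 ^ k) m hm' h1 hne with h | h
  · exact hh h
  · exact hq h

/-- `C_m × C_m` as functions on `Fin 2`. -/
def prodFinTwo (m : ℕ) :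
    Multiplicative (ZMod m) × Multiplicative (ZMod m) ≃* Multiplicative (Fin 2 → ZMod m) where
  toFun x := Multiplicative.ofAdd ![Multiplicative.toAdd x.1, Multiplicative.toAdd x.2]
  invFun f := (Multiplicative.ofAdd (Multiplicative.toAdd f 0),
    Multiplicative.ofAdd (Multiplicative.toAdd f 1))
  left_inv x := rfl
  right_inv f := by
    apply Multiplicative.toAdd.injective
    funext i
    fin_cases i <;> rfl
  map_mul' x y := by
    apply Multiplicative.toAdd.injective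
    funext i
    fin_cases i <;> rfl

end Cfsg.Agent.H29.MA
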