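import Cfsg.Agent.H29.MetaAct
import Cfsg.Agent.H86.FusExt
import Cfsg.Agent.H86.FusAlperin
import Cfsg.Agent.H86.FusSylow

/-!
# Strongly closed metacyclic subgroups are normal for odd `p` (helper29)

Let `F` be a saturated fusion system over a finite `p`-group `S`, `p` odd, and `P` a strongly
closed metacyclic subgroup.  We show that `P` lies in every essential subgroup `R`; with Alperin's
fusion theorem (`H86.isNormal_iff_essential`) this gives `P ⊴ F`.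

If `P ≰ R`, put `Q = P ∩ R` and pick `t ∈ N_P(R) \ R`.  The subgroup of `Aut_F(R)` centralizing
`R / Q` acts on `Q / Φ(Q)` (of order at most `p ^ 2`) and is not `p`-closed modulo `Inn(R)`, so it
contains an element `ζ` inverting `Q / Φ(Q)` (`MW.exists_inverting_aut`).  Then `ζ` extends to
`R ⟨t⟩`, and one finds `c₀ ∈ N_P(R) \ R` with `c₀ ^ p ∈ Φ(Q)`; the section `Q ⟨c₀⟩ / Φ(Q)` of `P`
has exponent `p` and order `p ^ 3`, which is impossible in a metacyclic group.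
-/

set_option autoImplicit false
set_option maxHeartbeats 1000000

namespace Cfsg.Agent.H29.MW

open Cfsg Cfsg.FusionSystem Cfsg.Agent.H86

variable {Ω : Type*} [Group Ω]

lemma mw_autFun_map_inv {P : Subgroup Ω} (α : MulAut P) {x : Ω} (hx : x ∈ P) :
    autFun P α x⁻¹ = (autFun P α x)⁻¹ := by
  rw [autFun_of_mem α hx, autFun_of_mem α (P.inv_mem hx)]
  have : (⟨x⁻¹, P.inv_mem hx⟩ : P) = ⟨x, hx⟩⁻¹ := rfl
  rw [this, map_inv]
  rfl

/-- Restriction of a group of automorphisms of `R` to an invariant subgroup `Q`. -/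
noncomputable def resAut (R Q : Subgroup Ω) (A : Subgroup (MulAut R))
    (h : ∀ α ∈ A, ∀ x ∈ Q, autFun R α x ∈ Q) (hQR : Q ≤ R) : ↥A →* MulAut ↥Q where
  toFun g :=
    { toFun := fun x => ⟨autFun R (g : MulAut R) x, h _ g.2 _ x.2⟩
      invFun := fun x => ⟨autFun R (g : MulAut R)⁻¹ x, h _ (A.inv_mem g.2) _ x.2⟩
      left_inv := fun x => Subtype.ext (autFun_inv_apply _ (hQR x.2))
      right_inv := fun x => Subtype.ext (autFun_apply_inv _ (hQR x.2))
      map_mul' := fun x y => Subtype.ext (autFun_map_mul _ (hQR x.2) (hQR y.2)) }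
  map_one' := by
    apply MulEquiv.ext
    intro x
    exact Subtype.ext (autFun_one (hQR x.2))
  map_mul' := by
    intro g g'
    apply MulEquiv.ext
    intro x
    exact Subtype.ext (autFun_mul _ _ (hQR x.2))

lemma resAut_apply (R Q : Subgroup Ω) (A : Subgroup (MulAut R))
    (h : ∀ α ∈ A, ∀ x ∈ Q, autFun R α x ∈ Q) (hQR : Q ≤ R) (g : ↥A) (x : ↥Q) :
    ((resAut R Q A h hQR g x : ↥Q) : Ω) = autFun R (g : MulAut R) x := rfl

/-- The automorphisms in `A` acting trivially on `R / Q`. -/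
def stabC (R Q : Subgroup Ω) (A : Subgroup (MulAut R)) : Subgroup ↥A where
  carrier := {g | ∀ x ∈ R, autFun R (g : MulAut R) x * x⁻¹ ∈ Q}
  one_mem' := fun x hx => by
    show autFun R (1 : MulAut R) x * x⁻¹ ∈ Q
    rw [autFun_one hx, mul_inv_cancel]
    exact Q.one_mem
  mul_mem' := by
    intro g g' hg hg' x hx
    show autFun R ((g : MulAut R) * (g' : MulAut R)) x * x⁻¹ ∈ Q
    rw [autFun_mul _ _ hx]
    have h1 := hg (autFun R (g' : MulAut R) x) (autFun_mem _ hx)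
    have h2 := hg' x hx
    have e : autFun R (g : MulAut R) (autFun R (g' : MulAut R) x) * x⁻¹ =
        (autFun R (g : MulAut R) (autFun R (g' : MulAut R) x) * (autFun R (g' : MulAut R) x)⁻¹) *
          (autFun R (g' : MulAut R) x * x⁻¹) := by group
    rw [e]
    exact Q.mul_mem h1 h2
  inv_mem' := by
    intro g hg x hx
    show autFun R ((g : MulAut R)⁻¹) x * x⁻¹ ∈ Q
    have h1 := hg (autFun R (g : MulAut R)⁻¹ x) (autFun_mem _ hx)
    rw [autFun_apply_inv _ hx] at h1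
    have := Q.inv_mem h1
    rwa [mul_inv_rev, inv_inv] at this

lemma mem_stabC (R Q : Subgroup Ω) (A : Subgroup (MulAut R)) (g : ↥A) :
    g ∈ stabC R Q A ↔ ∀ x ∈ R, autFun R (g : MulAut R) x * x⁻¹ ∈ Q := Iff.rfl

lemma stabC_normal (R Q : Subgroup Ω) (A : Subgroup (MulAut R))
    (h : ∀ α ∈ A, ∀ x ∈ Q, autFun R α x ∈ Q) : (stabC R Q A).Normal := by
  constructor
  intro g hg γ x hx
  show autFun R ((γ : MulAut R) * (g : MulAut R) * (γ : MulAut R)⁻¹) x * x⁻¹ ∈ Q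
  rw [autFun_mul _ _ hx, autFun_mul _ _ (autFun_mem _ hx)]
  have hyR : autFun R (γ : MulAut R)⁻¹ x ∈ R := autFun_mem _ hx
  have h1 := hg _ hyR
  have h2 := h _ γ.2 _ h1
  rw [autFun_map_mul _ (autFun_mem _ hyR) (R.inv_mem hyR), mw_autFun_map_inv _ hyR,
    autFun_apply_inv _ hx] at h2
  exact h2

lemma stabC_pow_eq_one {p : ℕ} [Fact p.Prime] (R Q : Subgroup Ω) [Finite Q] (hQp : IsPGroup p Q)
    (A : Subgroup (MulAut R)) (h : ∀ α ∈ A, ∀ x ∈ Q, autFun R α x ∈ Q) (hQR : Q ≤ R)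
    (g : ↥A) (hg : g ∈ stabC R Q A) (hres : resAut R Q A h hQR g = 1) :
    ∃ k : ℕ, g ^ p ^ k = 1 := by
  obtain ⟨k, hk⟩ := IsPGroup.iff_card.mp hQp
  refine ⟨k, ?_⟩
  have hfix : ∀ x ∈ Q, autFun R (g : MulAut R) x = x := by
    intro x hx
    have := congrArg (fun e : MulAut ↥Q => ((e ⟨x, hx⟩ : ↥Q) : Ω)) hres
    exact this
  have key : ∀ (n : ℕ) (x : Ω), x ∈ R →
      autFun R ((g : MulAut R) ^ n) x = (autFun R (g : MulAut R) x * x⁻¹) ^ n * x := by
    intro n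
    induction n with
    | zero => intro x hx; rw [pow_zero, pow_zero, one_mul, autFun_one hx]
    | succ n ih =>
      intro x hx
      rw [pow_succ', autFun_mul _ _ hx, ih x hx]
      have hq := hg x hx
      rw [autFun_map_mul _ (hQR (Q.pow_mem hq n)) hx, hfix _ (Q.pow_mem hq n)]
      generalize autFun R (g : MulAut R) x = gx
      rw [pow_succ]
      group
  apply Subtype.ext
  show (g : MulAut R) ^ p ^ k = 1
  apply autFun_ext
  intro x hx
  rw [key _ x hx, autFun_one hx]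
  have hq := hg x hx
  have : (autFun R (g : MulAut R) x * x⁻¹) ^ p ^ k = 1 := by
    have h1 : (⟨_, hq⟩ : ↥Q) ^ p ^ k = 1 := by rw [← hk]; exact pow_card_eq_one'
    have := congrArg Subtype.val h1
    simpa using this
  rw [this, one_mul]

lemma frattini_map_aut (Q : Subgroup Ω) (θ : MulAut ↥Q) {d : Ω}
    (hd : d ∈ (frattini ↥Q).map Q.subtype) (hdQ : d ∈ Q) :
    ((θ ⟨d, hdQ⟩ : ↥Q) : Ω) ∈ (frattini ↥Q).map Q.subtype := by
  obtain ⟨d', hd', rfl⟩ := hd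
  have h1 : θ d' ∈ frattini ↥Q := by
    have := Subgroup.characteristic_iff_map_eq.1 (inferInstance : (frattini ↥Q).Characteristic) θ
    rw [← this]
    exact Subgroup.mem_map_of_mem _ hd'
  exact ⟨θ d', h1, rfl⟩

theorem le_of_essential {S : Subgroup Ω} [Finite S] {p : ℕ} [Fact p.Prime] (hS : IsPGroup p S)
    {F : FusionSystem S} (hF : F.IsSaturated p) {P : Subgroup Ω} (hP : F.StronglyClosed P)
    (hp2 : p ≠ 2) (hm : IsMetacyclic ↥P) {R : Subgroup Ω} (hR : F.IsEssential p R) : P ≤ R := by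
  classical
  by_contra hPR
  have hp := Fact.out (p := p.Prime)
  have hrad := radical_of_essential hS hR
  obtain ⟨hRc, hRfn, -⟩ := hR
  have hRS : R ≤ S := hRc.1
  have hPS : P ≤ S := hP.1
  have hsc := (stronglyClosed_iff.1 hP).2
  have hCR : centralizerIn S R ≤ R := hRc.2 R (isConj_refl F hRS)
  haveI : Finite R := finite_of_le hRS
  haveI : Finite P := finite_of_le hPS
  have hPn : ∀ g ∈ S, ∀ x ∈ P, g * x * g⁻¹ ∈ P := fun g hg x hx =>
    hsc P _ le_rfl (Mor.conj F hPS hg) x hx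
  -- an element of `N_P(R)` outside `R`
  obtain ⟨t, htP, htN, htR⟩ : ∃ t ∈ P, t ∈ Subgroup.normalizer (R : Set Ω) ∧ t ∉ R := by
    have hT : P ⊔ R ≤ S := sup_le hPS hRS
    have hlt : R < P ⊔ R := lt_of_le_of_ne le_sup_right (fun h => hPR (h ▸ le_sup_left))
    haveI : Finite (P ⊔ R : Subgroup Ω) := finite_of_le hT
    have hTp : IsPGroup p (P ⊔ R : Subgroup Ω) := hS.to_le hT
    obtain ⟨g, hgN, hgR⟩ := exists_mem_normalizerIn_not_mem hTp hlt
    obtain ⟨hgT, hgN'⟩ := mem_normalizerIn_iff.1 hgN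
    have hRP : R ≤ Subgroup.normalizer (P : Set Ω) := by
      intro r hr
      refine mem_normalizer_of_forall_conj_mem (fun y hy => hPn r (hRS hr) y hy) (fun y hy => ?_)
      have := hPn r⁻¹ (S.inv_mem (hRS hr)) y hy
      simpa using this
    have e := Subgroup.coe_mul_of_right_le_normalizer_left P R hRP
    have hgT' : g ∈ ((P ⊔ R : Subgroup Ω) : Set Ω) := hgT
    rw [e, Set.mem_mul] at hgT'
    obtain ⟨c, hc, r, hr, rfl⟩ := hgT'
    refine ⟨c, hc, ?_, fun hcR => hgR (R.mul_mem hcR hr)⟩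
    have : c = (c * r) * r⁻¹ := by group
    rw [this]
    exact Subgroup.mul_mem _ hgN' (Subgroup.inv_mem _ (Subgroup.le_normalizer hr))
  have htS : t ∈ S := hPS htP
  -- `Q = P ∩ R` and `D = Φ(Q)`
  set Q : Subgroup Ω := P ⊓ R with hQdef
  have hQR : Q ≤ R := inf_le_right
  have hQP : Q ≤ P := inf_le_left
  have hQS : Q ≤ S := hQR.trans hRS
  haveI : Finite Q := finite_of_le hQS
  have hQp : IsPGroup p Q := hS.to_le hQS
  have hAQ : ∀ α ∈ F.autGroup R, ∀ x ∈ Q, autFun R α x ∈ Q := by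
    intro α hα x hx
    have hαM := (mem_autGroup_iff hRS α).1 hα
    exact ⟨hsc Q _ hQP (hαM.restrict hQR) x hx, autFun_mem α (hQR hx)⟩
  have hNQ : ∀ g ∈ S, g ∈ Subgroup.normalizer (R : Set Ω) →
      g ∈ Subgroup.normalizer (Q : Set Ω) := by
    intro g hgS hgN
    refine mem_normalizer_of_forall_conj_mem
      (fun y hy => ⟨hPn g hgS y hy.1, conj_mem_of_mem_normalizer hgN hy.2⟩)
      (fun y hy => ⟨?_, conj_inv_mem_of_mem_normalizer hgN hy.2⟩)
    have := hPn g⁻¹ (S.inv_mem hgS) y hy.1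
    simpa using this
  set D : Subgroup Ω := (frattini ↥Q).map Q.subtype with hDdef
  have hDQ : D ≤ Q := by
    rintro _ ⟨d, -, rfl⟩
    exact d.2
  have hND : ∀ g ∈ S, g ∈ Subgroup.normalizer (R : Set Ω) → ∀ d ∈ D, g * d * g⁻¹ ∈ D := by
    intro g hgS hgN d hd
    obtain ⟨θ, hθ⟩ := exists_conjAut (Q := Q) (hNQ g hgS hgN)
    have := frattini_map_aut Q θ hd (hDQ hd)
    rwa [hθ] at this
  have hpowD : ∀ x ∈ Q, x ^ p ∈ D := by
    intro x hx
    exact ⟨⟨x, hx⟩ ^ p, H3.pow_mem_frattini hQp _, rfl⟩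
  have hcardD : Nat.card D = Nat.card (frattini ↥Q) := Subgroup.card_subtype Q (frattini ↥Q)
  have hcardQ : Nat.card Q = Nat.card (↥Q ⧸ frattini ↥Q) * Nat.card (frattini ↥Q) :=
    Subgroup.card_eq_card_quotient_mul_card_subgroup _
  have hDpos : 0 < Nat.card (frattini ↥Q) := Nat.card_pos
  have hW : Nat.card (↥Q ⧸ frattini ↥Q) ≤ p ^ 2 := by
    have h1 := card_le_of_metacyclic p hp.pos P hm Q D hDQ hQP
      (fun g hg d hd => hND g (hQS hg) (Subgroup.le_normalizer (hQR hg)) d hd) hpowD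
    rw [hcardQ, hcardD] at h1
    exact Nat.le_of_mul_le_mul_right h1 hDpos
  -- the action of `Aut_F(R)` on `Q`
  haveI hCn : (stabC R Q (F.autGroup R)).Normal := stabC_normal R Q _ hAQ
  have hC1 : ∀ g ∈ stabC R Q (F.autGroup R), resAut R Q (F.autGroup R) hAQ hQR g = 1 →
      ∃ k : ℕ, g ^ p ^ k = 1 :=
    fun g hg hres => stabC_pow_eq_one R Q hQp _ hAQ hQR g hg hres
  obtain ⟨τ₀, hτ₀⟩ := exists_conjAut (Q := R) htN
  have hτ₀A : τ₀ ∈ F.autGroup R :=
    autInducedBy_le_autGroup F hRS ((mem_autInducedBy_iff S R τ₀).2 ⟨t, htS, hτ₀⟩)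
  have hτfun : ∀ x ∈ R, autFun R τ₀ x = t * x * t⁻¹ := fun x hx => by
    rw [autFun_of_mem τ₀ hx, hτ₀]
  have hτC : (⟨τ₀, hτ₀A⟩ : ↥(F.autGroup R)) ∈ stabC R Q (F.autGroup R) := by
    intro x hx
    show autFun R τ₀ x * x⁻¹ ∈ Q
    rw [hτfun x hx]
    refine ⟨?_, R.mul_mem (conj_mem_of_mem_normalizer htN hx) (R.inv_mem hx)⟩
    have h1 := hPn x (hRS hx) t⁻¹ (P.inv_mem htP)
    have e : t * x * t⁻¹ * x⁻¹ = t * (x * t⁻¹ * x⁻¹) := by group
    rw [e]
    exact P.mul_mem htP h1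
  obtain ⟨k, hk⟩ := hS ⟨t, htS⟩
  have htk : t ^ p ^ k = 1 := by
    have := congrArg Subtype.val hk
    simpa using this
  have hτpow : ∀ (n : ℕ) (x : ↥R), (((τ₀ ^ n) x : ↥R) : Ω) = t ^ n * x * (t ^ n)⁻¹ := by
    intro n
    induction n with
    | zero => intro x; simp
    | succ n ih =>
      intro x
      rw [pow_succ', MulAut.mul_apply, hτ₀, ih, pow_succ']
      group
  have hτk : (⟨τ₀, hτ₀A⟩ : ↥(F.autGroup R)) ^ p ^ k = 1 := by
    apply Subtype.ext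
    show τ₀ ^ p ^ k = 1
    apply MulEquiv.ext
    intro x
    apply Subtype.ext
    rw [hτpow, htk]
    simp
  have hτcore : (⟨τ₀, hτ₀A⟩ : ↥(F.autGroup R)) ∉ pCore p (F.autGroup R) := by
    intro hmem
    have h1 : τ₀ ∈ (pCore p (F.autGroup R)).map (F.autGroup R).subtype := ⟨_, hmem, rfl⟩
    rw [hrad.2] at h1
    exact htR (mem_of_induces_inner hRS hCR htS hτ₀ h1)
  obtain ⟨ζ, hζC, hζinv, hζτ, hWcard⟩ := exists_inverting_aut hQp
    (resAut R Q (F.autGroup R) hAQ hQR) (stabC R Q (F.autGroup R)) hC1 hW ⟨τ₀, hτ₀A⟩ hτC hτk hτcore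
  -- the inverting automorphism as a map of the system
  set f : Ω → Ω := autFun R (ζ : MulAut R) with hfdef
  have hf : Mor F R f := (mem_autGroup_iff hRS _).1 ζ.2
  have hfinv : ∀ x ∈ Q, x * f x ∈ D := by
    intro x hx
    exact ⟨_, hζinv ⟨x, hx⟩, rfl⟩
  have hinn : ((ζ : MulAut R) * τ₀ * (ζ : MulAut R)⁻¹ * τ₀⁻¹) ∈ Inn R := by
    have h1 : ((ζ * ⟨τ₀, hτ₀A⟩ * ζ⁻¹ * (⟨τ₀, hτ₀A⟩ : ↥(F.autGroup R))⁻¹ : ↥(F.autGroup R)) :
        MulAut R) ∈ (pCore p (F.autGroup R)).map (F.autGroup R).subtype := ⟨_, hζτ, rfl⟩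
    rw [hrad.2] at h1
    exact h1
  obtain ⟨r, hr, hrx⟩ := (mem_inn_iff _).1 hinn
  have hft : ∀ x ∈ R, f (t * x * t⁻¹) = (r * t) * f x * (r * t)⁻¹ := by
    intro x hx
    have h1 := hrx (τ₀ ((ζ : MulAut R) ⟨x, hx⟩))
    have h2 : ((ζ : MulAut R) * τ₀ * (ζ : MulAut R)⁻¹ * τ₀⁻¹) (τ₀ ((ζ : MulAut R) ⟨x, hx⟩)) =
        (ζ : MulAut R) (τ₀ ⟨x, hx⟩) := by
      simp [MulAut.mul_apply]
    rw [h2, hτ₀] at h1
    have h3 : f (t * x * t⁻¹) = (((ζ : MulAut R) (τ₀ ⟨x, hx⟩) : ↥R) : Ω) := by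
      rw [hfdef, autFun_of_mem _ (conj_mem_of_mem_normalizer htN hx)]
      congr 2
      exact Subtype.ext (hτ₀ ⟨x, hx⟩).symm
    have h4 : f x = (((ζ : MulAut R) ⟨x, hx⟩ : ↥R) : Ω) := autFun_of_mem _ hx
    rw [h3, h1, h4]
    group
  have htE : t ∈ extSub S R f :=
    (mem_extSub_iff hf t).2 ⟨htS, htN, r * t, S.mul_mem (hRS hr) htS, hft⟩
  have hrec : F.IsReceptive R :=
    saturated_receptive_of_fullyCentralized hS hF (saturated_fullyNormalized hS hF hRfn).1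
  have himg : imgS R f = R := imgS_autFun hf
  obtain ⟨f', hf', hf'f⟩ := receptive_extend' hrec hf himg
  have hRE : R ≤ extSub S R f := le_extSub hf
  have hf't_S : f' t ∈ S := hf'.mem htE
  have hf't_P : f' t ∈ P :=
    hsc (P ⊓ extSub S R f) f' inf_le_left (hf'.restrict inf_le_right) t ⟨htP, htE⟩
  have hnR : t⁻¹ * f' t ∈ R := by
    have hc : (r * t)⁻¹ * f' t ∈ centralizerIn S R := by
      rw [mem_centralizerIn_iff]
      refine ⟨S.mul_mem (S.inv_mem (S.mul_mem (hRS hr) htS)) hf't_S, fun y hy => ?_⟩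
      obtain ⟨x, hx, rfl⟩ := (hf.mem_imgS).1 (himg.ge hy)
      have h1 : f' (t * x * t⁻¹) = f' t * f x * (f' t)⁻¹ := by
        rw [hf'.map_mul (Subgroup.mul_mem _ htE (hRE hx)) (Subgroup.inv_mem _ htE),
          hf'.map_mul htE (hRE hx), hf'.map_inv htE, hf'f x hx]
      rw [hf'f _ (conj_mem_of_mem_normalizer htN hx), hft x hx] at h1
      calc f x * ((r * t)⁻¹ * f' t) = (r * t)⁻¹ * (r * t * f x * (r * t)⁻¹) * f' t := by group
        _ = (r * t)⁻¹ * (f' t * f x * (f' t)⁻¹) * f' t := by rw [h1]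
        _ = (r * t)⁻¹ * f' t * f x := by group
    have h2 := hCR hc
    have e : t⁻¹ * f' t = (t⁻¹ * r * t) * ((r * t)⁻¹ * f' t) := by group
    rw [e]
    exact R.mul_mem (conj_inv_mem_of_mem_normalizer htN hr) h2
  have hnQ : t⁻¹ * f' t ∈ Q := ⟨P.mul_mem (P.inv_mem htP) hf't_P, hnR⟩
  set n : Ω := t⁻¹ * f' t with hn
  have hf't : f' t = t * n := by rw [hn]; group
  obtain ⟨h, hh⟩ : ∃ h : ℕ, h + h = p + 1 := by
    obtain ⟨q, hq⟩ := hp.eq_two_or_odd'.resolve_left hp2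
    exact ⟨q + 1, by omega⟩
  -- the element `c = t n ^ ((p + 1) / 2)` is fixed modulo `D`
  set c : Ω := t * n ^ h with hc
  have hnhQ : n ^ h ∈ Q := Q.pow_mem hnQ h
  have hcP : c ∈ P := P.mul_mem htP (hQP hnhQ)
  have hcS : c ∈ S := hPS hcP
  have hcN : c ∈ Subgroup.normalizer (R : Set Ω) :=
    Subgroup.mul_mem _ htN (Subgroup.le_normalizer (hQR hnhQ))
  have hcE : c ∈ extSub S R f := Subgroup.mul_mem _ htE (hRE (hQR hnhQ))
  have hcR : c ∉ R := by
    intro hcR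
    apply htR
    have : t = c * (n ^ h)⁻¹ := by rw [hc]; group
    rw [this]
    exact R.mul_mem hcR (R.inv_mem (hQR hnhQ))
  have hcD : c⁻¹ * f' c ∈ D := by
    have h1 : f' c = t * n * f (n ^ h) := by
      rw [hc, hf'.map_mul htE (hRE (hQR hnhQ)), hf't, hf'f _ (hQR hnhQ)]
    have h2 := hfinv _ hnhQ
    have h3 : (n ^ p)⁻¹ ∈ D := D.inv_mem (hpowD n hnQ)
    have e1 : (n ^ h)⁻¹ * n * (n ^ h)⁻¹ = (n ^ p)⁻¹ := by
      have : n ^ (-(h : ℤ)) * n ^ (1 : ℤ) * n ^ (-(h : ℤ)) = n ^ (-(p : ℤ)) := by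
        rw [← zpow_add, ← zpow_add]
        congr 1
        omega
      simpa only [zpow_neg, zpow_natCast, zpow_one] using this
    have e2 : c⁻¹ * f' c = ((n ^ h)⁻¹ * n * (n ^ h)⁻¹) * (n ^ h * f (n ^ h)) := by
      rw [h1, hc]
      group
    rw [e2, e1]
    exact D.mul_mem h3 h2
  have hf'pow : ∀ (m : ℕ), f' (c ^ m) = (f' c) ^ m := by
    intro m
    induction m with
    | zero => rw [pow_zero, pow_zero]; exact hf'.map_one
    | succ m ih => rw [pow_succ, hf'.map_mul (Subgroup.pow_mem _ hcE m) hcE, ih, pow_succ]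
  have hcinvD : ∀ d ∈ D, c⁻¹ * d * c ∈ D := by
    intro d hd
    have := hND c⁻¹ (S.inv_mem hcS) (Subgroup.inv_mem _ hcN) d hd
    simpa using this
  have hpowc : ∀ m : ℕ, (c ^ m)⁻¹ * (f' c) ^ m ∈ D := by
    intro m
    induction m with
    | zero => simp
    | succ m ih =>
      have e : (c ^ (m + 1))⁻¹ * (f' c) ^ (m + 1) =
          (c⁻¹ * ((c ^ m)⁻¹ * (f' c) ^ m) * c) * (c⁻¹ * f' c) := by
        rw [pow_succ, pow_succ]
        generalize c ^ m = a
        generalize (f' c) ^ m = b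
        group
      rw [e]
      exact D.mul_mem (hcinvD _ ih) hcD
  have hcmD : ∀ m : ℕ, c ^ m ∈ Q → c ^ m ∈ D := by
    intro m hm
    have h1 := hfinv _ hm
    rw [← hf'f _ (hQR hm), hf'pow] at h1
    have h2 := hpowc m
    have h3 : (c ^ m) ^ 2 ∈ D := by
      have e : (c ^ m) ^ 2 = (c ^ m * (f' c) ^ m) * ((c ^ m)⁻¹ * (f' c) ^ m)⁻¹ := by
        rw [pow_two]
        generalize c ^ m = a
        generalize (f' c) ^ m = b
        group
      rw [e]
      exact D.mul_mem h1 (D.inv_mem h2)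
    obtain ⟨k', hk'⟩ := hS ⟨c ^ m, hPS (hQP hm)⟩
    have hk'' : (c ^ m) ^ p ^ k' = 1 := by
      have := congrArg Subtype.val hk'
      simpa using this
    have hcop : Nat.Coprime 2 (orderOf (c ^ m)) := by
      have h4 : orderOf (c ^ m) ∣ p ^ k' := orderOf_dvd_of_pow_eq_one hk''
      have h5 : Nat.Coprime 2 (p ^ k') := by
        apply Nat.Coprime.pow_right
        rw [Nat.coprime_primes Nat.prime_two hp]
        exact fun h => hp2 h.symm
      exact Nat.Coprime.coprime_dvd_right h4 h5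
    obtain ⟨m', hm'⟩ := exists_pow_eq_self_of_coprime hcop
    rw [← hm']
    exact D.pow_mem h3 m'
  -- an element `c₀ ∈ N_P(R) \ Q` with `c₀ ^ p ∈ D`
  obtain ⟨kc, hkc⟩ := hS ⟨c, hcS⟩
  have hkc' : c ^ p ^ kc = 1 := by
    have := congrArg Subtype.val hkc
    simpa using this
  have hex : ∃ m : ℕ, c ^ p ^ m ∈ Q := ⟨kc, by rw [hkc']; exact Q.one_mem⟩
  have hm₀Q : c ^ p ^ Nat.find hex ∈ Q := Nat.find_spec hex
  have hm₀pos : Nat.find hex ≠ 0 := by
    intro h0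
    rw [h0, pow_zero, pow_one] at hm₀Q
    exact hcR (hQR hm₀Q)
  obtain ⟨m₁, hm₁⟩ := Nat.exists_eq_succ_of_ne_zero hm₀pos
  have hc₀Q : c ^ p ^ m₁ ∉ Q := Nat.find_min hex (by omega)
  have hc₀p : (c ^ p ^ m₁) ^ p ∈ D := by
    have e : (c ^ p ^ m₁) ^ p = c ^ p ^ Nat.find hex := by rw [← pow_mul, hm₁, pow_succ]
    rw [e]
    exact hcmD _ hm₀Q
  have hc₀P : c ^ p ^ m₁ ∈ P := P.pow_mem hcP _
  have hc₀S : c ^ p ^ m₁ ∈ S := hPS hc₀P
  have hc₀N : c ^ p ^ m₁ ∈ Subgroup.normalizer (R : Set Ω) := Subgroup.pow_mem _ hcN _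
  generalize c ^ p ^ m₁ = c₀ at hc₀Q hc₀p hc₀P hc₀S hc₀N
  -- the section `⟨c₀⟩ Q / D` has exponent `p` and order at least `2 p ^ 2`
  have hzN : Subgroup.zpowers c₀ ≤ Subgroup.normalizer (Q : Set Ω) := by
    rw [Subgroup.zpowers_le]
    exact hNQ c₀ hc₀S hc₀N
  have hErep : ∀ g ∈ Subgroup.zpowers c₀ ⊔ Q, ∃ i : ℤ, ∃ y ∈ Q, g = c₀ ^ i * y := by
    intro g hg
    have e := Subgroup.coe_mul_of_left_le_normalizer_right (Subgroup.zpowers c₀) Q hzN
    have hg' : g ∈ ((Subgroup.zpowers c₀ ⊔ Q : Subgroup Ω) : Set Ω) := hg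
    rw [e, Set.mem_mul] at hg'
    obtain ⟨a, ha, y, hy, rfl⟩ := hg'
    obtain ⟨i, rfl⟩ := Subgroup.mem_zpowers_iff.1 ha
    exact ⟨i, y, hy, rfl⟩
  have hES : Subgroup.zpowers c₀ ⊔ Q ≤ S :=
    sup_le (by rw [Subgroup.zpowers_le]; exact hc₀S) hQS
  have hEP : Subgroup.zpowers c₀ ⊔ Q ≤ P :=
    sup_le (by rw [Subgroup.zpowers_le]; exact hc₀P) hQP
  have hEN : Subgroup.zpowers c₀ ⊔ Q ≤ Subgroup.normalizer (R : Set Ω) :=
    sup_le (by rw [Subgroup.zpowers_le]; exact hc₀N) (hQR.trans Subgroup.le_normalizer)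
  haveI : Finite (Subgroup.zpowers c₀ ⊔ Q : Subgroup Ω) := finite_of_le hES
  have hDE : D ≤ Subgroup.zpowers c₀ ⊔ Q := hDQ.trans le_sup_right
  have hEpow : ∀ g ∈ Subgroup.zpowers c₀ ⊔ Q, g ^ p ∈ D := by
    intro g hg
    obtain ⟨i, y, hy, rfl⟩ := hErep g hg
    have hci : c₀ ^ i ∈ Subgroup.normalizer (Q : Set Ω) := hzN (Subgroup.zpow_mem_zpowers c₀ i)
    obtain ⟨k₀, hk₀⟩ := hS ⟨c₀ ^ i, S.zpow_mem hc₀S i⟩
    have hk₀' : (c₀ ^ i) ^ p ^ k₀ = 1 := by
      have := congrArg Subtype.val hk₀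
      simpa using this
    have h1 := pow_mul_mem_frattini hp2 Q hQp hW (c₀ ^ i) hci hk₀' y hy
    have h2 : (c₀ ^ i) ^ p ∈ D := by
      rw [← zpow_natCast, ← zpow_mul, mul_comm, zpow_mul, zpow_natCast]
      exact D.zpow_mem hc₀p i
    have e : (c₀ ^ i * y) ^ p = ((c₀ ^ i * y) ^ p * ((c₀ ^ i) ^ p)⁻¹) * (c₀ ^ i) ^ p :=
      (inv_mul_cancel_right _ _).symm
    rw [e]
    exact D.mul_mem h1 h2
  have hcardE := card_le_of_metacyclic p hp.pos P hm (Subgroup.zpowers c₀ ⊔ Q) D hDE hEP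
    (fun g hg d hd => hND g (hES hg) (hEN hg) d hd) hEpow
  have hQE : Q < Subgroup.zpowers c₀ ⊔ Q :=
    lt_of_le_of_ne le_sup_right (fun h => hc₀Q (h ▸
      (le_sup_left : Subgroup.zpowers c₀ ≤ Subgroup.zpowers c₀ ⊔ Q) (Subgroup.mem_zpowers c₀)))
  have hlt : Nat.card Q < Nat.card (Subgroup.zpowers c₀ ⊔ Q : Subgroup Ω) := card_lt_card_of_lt hQE
  have hdvd : Nat.card Q ∣ Nat.card (Subgroup.zpowers c₀ ⊔ Q : Subgroup Ω) :=
    Subgroup.card_dvd_of_le hQE.le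
  have h2 : 2 * Nat.card Q ≤ Nat.card (Subgroup.zpowers c₀ ⊔ Q : Subgroup Ω) := by
    obtain ⟨q, hq⟩ := hdvd
    have hQpos : 0 < Nat.card Q := Nat.card_pos
    rcases q with _ | _ | q
    · rw [hq] at hlt
      omega
    · rw [hq] at hlt
      omega
    · rw [hq]
      nlinarith
  rw [hcardQ, hWcard] at h2
  rw [hcardD] at hcardE
  have hpp : 0 < p ^ 2 := pow_pos hp.pos 2
  nlinarith [Nat.mul_pos hpp hDpos]

/-- A strongly closed metacyclic subgroup of a saturated fusion system on a `p`-group, `p` odd,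
is normal in the system. -/
theorem metacyclic_stronglyClosed_normal {S : Subgroup Ω} [Finite S] (p : ℕ) [Fact p.Prime]
    (hS : IsPGroup p S) (F : FusionSystem S) (hF : F.IsSaturated p) (P : Subgroup Ω)
    (hP : F.StronglyClosed P) (hp : p ≠ 2) (hm : IsMetacyclic ↥P) : F.IsNormal P := by
  rw [isNormal_iff_essential hS hF]
  intro R hR
  have hsc := (stronglyClosed_iff.1 hP).2
  have hPS : P ≤ S := hP.1
  haveI : Finite P := finite_of_le hPS
  have hRS : R ≤ S := by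
    rcases hR with rfl | hess
    · exact le_rfl
    · exact hess.1.1
  have hPR : P ≤ R := by
    rcases hR with rfl | hess
    · exact hPS
    · exact le_of_essential hS hF hP hp hm hess
  refine ⟨hPR, fun α hα => ?_⟩
  have hαM := (mem_autGroup_iff hRS α).1 hα
  rw [map_subgroupOf_aut_eq_iff hPR hαM]
  exact imgS_eq_of_maps (hαM.restrict hPR)
    (fun x hx => hsc P _ le_rfl (hαM.restrict hPR) x hx)

end Cfsg.Agent.H29.MW
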