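import Cfsg.Agent.H29.MetaFus
import Cfsg.Agent.H29.MetaTwo

/-!
# Strongly closed metacyclic subgroups for `p = 2` (helper29)

Let `F` be a saturated fusion system over a finite `2`-group `S` and `P` a strongly closed
metacyclic subgroup which is not dihedral, generalized quaternion or quasi-dihedral.  Then `P` lies
in every essential subgroup `R`, hence `P ⊴ F` by Alperin's fusion theorem.

If `P ≰ R`, put `Q = P ∩ R` and pick `t ∈ N_P(R) \ R`.  As in the odd case the group of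
automorphisms in `Aut_F(R)` centralizing `R / Q` acts on `Q / Φ(Q)`, of order `4`, and some
automorphism moves the line fixed by `t` (`MW.exists_moving_aut`).  The group theory of
`MW.exists_inverting_elt` and `MW.maxclass_of_inverting` then shows that `P` is of maximal class.
-/

set_option autoImplicit false
set_option maxHeartbeats 1000000

namespace Cfsg.Agent.H29.MW

open Cfsg Cfsg.FusionSystem Cfsg.Agent.H86

variable {Ω : Type*} [Group Ω]

theorem le_of_essential_two {S : Subgroup Ω} [Finite S] {p : ℕ} [Fact p.Prime] (hS : IsPGroup p S)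
    {F : FusionSystem S} (hF : F.IsSaturated p) {P : Subgroup Ω} (hP : F.StronglyClosed P)
    (hp2 : p = 2) (hm : IsMetacyclic ↥P)
    (hd : ¬ ∃ m : ℕ, Nonempty (↥P ≃* DihedralGroup m))
    (hq : ¬ ∃ m : ℕ, Nonempty (↥P ≃* QuaternionGroup m))
    (hsd : ¬ Cfsg.IsQuasiDihedral ↥P) {R : Subgroup Ω} (hR : F.IsEssential p R) : P ≤ R := by
  classical
  by_contra hPR
  have hp := Fact.out (p := p.Prime)
  have hrad := radical_of_essential hS hR
  obtain ⟨hRc, hRfn, -⟩ := hR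
  have hRS : R ≤ S := hRc.1
  have hPS : P ≤ S := hP.1
  have hsc := (stronglyClosed_iff.1 hP).2
  have hCR : centralizerIn S R ≤ R := hRc.2 R (isConj_refl F hRS)
  haveI : Finite R := finite_of_le hRS
  haveI : Finite P := finite_of_le hPS
  have hPn : ∀ g ∈ S, ∀ x ∈ P, g * x * g⁻¹ ∈ P := fun g hg x hx =>
    hsc P _ le_rfl (Mor.conj F hPS hg) x hx
  -- an element of `N_P(R)` outside `R`
  obtain ⟨t, htP, htN, htR⟩ : ∃ t ∈ P, t ∈ Subgroup.normalizer (R : Set Ω) ∧ t ∉ R := by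
    have hT : P ⊔ R ≤ S := sup_le hPS hRS
    have hlt : R < P ⊔ R := lt_of_le_of_ne le_sup_right (fun h => hPR (h ▸ le_sup_left))
    haveI : Finite (P ⊔ R : Subgroup Ω) := finite_of_le hT
    have hTp : IsPGroup p (P ⊔ R : Subgroup Ω) := hS.to_le hT
    obtain ⟨g, hgN, hgR⟩ := exists_mem_normalizerIn_not_mem hTp hlt
    obtain ⟨hgT, hgN'⟩ := mem_normalizerIn_iff.1 hgN
    have hRP : R ≤ Subgroup.normalizer (P : Set Ω) := by
      intro r hr
      refine mem_normalizer_of_forall_conj_mem (fun y hy => hPn r (hRS hr) y hy) (fun y hy => ?_)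
      have := hPn r⁻¹ (S.inv_mem (hRS hr)) y hy
      simpa using this
    have e := Subgroup.coe_mul_of_right_le_normalizer_left P R hRP
    have hgT' : g ∈ ((P ⊔ R : Subgroup Ω) : Set Ω) := hgT
    rw [e, Set.mem_mul] at hgT'
    obtain ⟨c, hc, r, hr, rfl⟩ := hgT'
    refine ⟨c, hc, ?_, fun hcR => hgR (R.mul_mem hcR hr)⟩
    have : c = (c * r) * r⁻¹ := by group
    rw [this]
    exact Subgroup.mul_mem _ hgN' (Subgroup.inv_mem _ (Subgroup.le_normalizer hr))
  have htS : t ∈ S := hPS htP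
  -- `Q = P ∩ R` and `D = Φ(Q)`
  set Q : Subgroup Ω := P ⊓ R with hQdef
  have hQR : Q ≤ R := inf_le_right
  have hQP : Q ≤ P := inf_le_left
  have hQS : Q ≤ S := hQR.trans hRS
  haveI : Finite Q := finite_of_le hQS
  have hQp : IsPGroup p Q := hS.to_le hQS
  have hAQ : ∀ α ∈ F.autGroup R, ∀ x ∈ Q, autFun R α x ∈ Q := by
    intro α hα x hx
    have hαM := (mem_autGroup_iff hRS α).1 hα
    exact ⟨hsc Q _ hQP (hαM.restrict hQR) x hx, autFun_mem α (hQR hx)⟩
  have hNQ : ∀ g ∈ S, g ∈ Subgroup.normalizer (R : Set Ω) →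
      g ∈ Subgroup.normalizer (Q : Set Ω) := by
    intro g hgS hgN
    refine mem_normalizer_of_forall_conj_mem
      (fun y hy => ⟨hPn g hgS y hy.1, conj_mem_of_mem_normalizer hgN hy.2⟩)
      (fun y hy => ⟨?_, conj_inv_mem_of_mem_normalizer hgN hy.2⟩)
    have := hPn g⁻¹ (S.inv_mem hgS) y hy.1
    simpa using this
  set D : Subgroup Ω := (frattini ↥Q).map Q.subtype with hDdef
  have hDQ : D ≤ Q := by
    rintro _ ⟨d, -, rfl⟩
    exact d.2
  have hND : ∀ g ∈ S, g ∈ Subgroup.normalizer (R : Set Ω) → ∀ d ∈ D, g * d * g⁻¹ ∈ D := by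
    intro g hgS hgN d hd
    obtain ⟨θ, hθ⟩ := exists_conjAut (Q := Q) (hNQ g hgS hgN)
    have := frattini_map_aut Q θ hd (hDQ hd)
    rwa [hθ] at this
  have hpowD : ∀ x ∈ Q, x ^ p ∈ D := by
    intro x hx
    exact ⟨⟨x, hx⟩ ^ p, H3.pow_mem_frattini hQp _, rfl⟩
  have hcardD : Nat.card D = Nat.card (frattini ↥Q) := Subgroup.card_subtype Q (frattini ↥Q)
  have hcardQ : Nat.card Q = Nat.card (↥Q ⧸ frattini ↥Q) * Nat.card (frattini ↥Q) :=
    Subgroup.card_eq_card_quotient_mul_card_subgroup _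
  have hDpos : 0 < Nat.card (frattini ↥Q) := Nat.card_pos
  have hW : Nat.card (↥Q ⧸ frattini ↥Q) ≤ p ^ 2 := by
    have h1 := card_le_of_metacyclic p hp.pos P hm Q D hDQ hQP
      (fun g hg d hd => hND g (hQS hg) (Subgroup.le_normalizer (hQR hg)) d hd) hpowD
    rw [hcardQ, hcardD] at h1
    exact Nat.le_of_mul_le_mul_right h1 hDpos
  -- the action of `Aut_F(R)` on `Q`
  haveI hCn : (stabC R Q (F.autGroup R)).Normal := stabC_normal R Q _ hAQ
  have hC1 : ∀ g ∈ stabC R Q (F.autGroup R), resAut R Q (F.autGroup R) hAQ hQR g = 1 →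
      ∃ k : ℕ, g ^ p ^ k = 1 :=
    fun g hg hres => stabC_pow_eq_one R Q hQp _ hAQ hQR g hg hres
  obtain ⟨τ₀, hτ₀⟩ := exists_conjAut (Q := R) htN
  have hτ₀A : τ₀ ∈ F.autGroup R :=
    autInducedBy_le_autGroup F hRS ((mem_autInducedBy_iff S R τ₀).2 ⟨t, htS, hτ₀⟩)
  have hτfun : ∀ x ∈ R, autFun R τ₀ x = t * x * t⁻¹ := fun x hx => by
    rw [autFun_of_mem τ₀ hx, hτ₀]
  have hτC : (⟨τ₀, hτ₀A⟩ : ↥(F.autGroup R)) ∈ stabC R Q (F.autGroup R) := by
    intro x hx
    show autFun R τ₀ x * x⁻¹ ∈ Q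
    rw [hτfun x hx]
    refine ⟨?_, R.mul_mem (conj_mem_of_mem_normalizer htN hx) (R.inv_mem hx)⟩
    have h1 := hPn x (hRS hx) t⁻¹ (P.inv_mem htP)
    have e : t * x * t⁻¹ * x⁻¹ = t * (x * t⁻¹ * x⁻¹) := by group
    rw [e]
    exact P.mul_mem htP h1
  obtain ⟨k, hk⟩ := hS ⟨t, htS⟩
  have htk : t ^ p ^ k = 1 := by
    have := congrArg Subtype.val hk
    simpa using this
  have hτpow : ∀ (n : ℕ) (x : ↥R), (((τ₀ ^ n) x : ↥R) : Ω) = t ^ n * x * (t ^ n)⁻¹ := by
    intro n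
    induction n with
    | zero => intro x; simp
    | succ n ih =>
      intro x
      rw [pow_succ', MulAut.mul_apply, hτ₀, ih, pow_succ']
      group
  have hτk : (⟨τ₀, hτ₀A⟩ : ↥(F.autGroup R)) ^ p ^ k = 1 := by
    apply Subtype.ext
    show τ₀ ^ p ^ k = 1
    apply MulEquiv.ext
    intro x
    apply Subtype.ext
    rw [hτpow, htk]
    simp
  have hτcore : (⟨τ₀, hτ₀A⟩ : ↥(F.autGroup R)) ∉ pCore p (F.autGroup R) := by
    intro hmem
    have h1 : τ₀ ∈ (pCore p (F.autGroup R)).map (F.autGroup R).subtype := ⟨_, hmem, rfl⟩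
    rw [hrad.2] at h1
    exact htR (mem_of_induces_inner hRS hCR htS hτ₀ h1)
  obtain ⟨hKcore, hτne, z, hz, hτz, hτ2, ⟨γ, hγ⟩, hWcard⟩ := exists_moving_aut hQp
    (resAut R Q (F.autGroup R) hAQ hQR) (stabC R Q (F.autGroup R)) hC1 hW ⟨τ₀, hτ₀A⟩ hτC hτk hτcore
  subst hp2
  have hz2 : z ^ 2 = 1 := frQuot_exp hQp z
  have hτsq : frQuot ↥Q (resAut R Q (F.autGroup R) hAQ hQR
      ((⟨τ₀, hτ₀A⟩ : ↥(F.autGroup R)) ^ 2)) = 1 := by
    rw [map_pow, map_pow]
    apply MulEquiv.ext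
    intro w
    obtain ⟨a, ha⟩ := hτ2 w
    rw [pow_two, MulAut.mul_apply, ha, map_mul, map_pow, hτz, ha, mul_assoc, ← pow_add, ← two_mul,
      pow_mul, hz2, one_pow, mul_one]
    rfl
  have hτsqcore := hKcore _ (Subgroup.pow_mem _ hτC 2) hτsq
  have httR : t * t ∈ R := by
    have h1 : τ₀ ^ 2 ∈ (pCore 2 (F.autGroup R)).map (F.autGroup R).subtype :=
      ⟨_, hτsqcore, rfl⟩
    rw [hrad.2] at h1
    have h2 : ∀ x : R, (((τ₀ ^ 2) x : ↥R) : Ω) = (t * t) * x * (t * t)⁻¹ := by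
      intro x
      rw [hτpow 2 x, pow_two]
    exact mem_of_induces_inner hRS hCR (S.mul_mem htS htS) h2 h1
  have httQ : t * t ∈ Q := ⟨P.mul_mem htP htP, httR⟩
  obtain ⟨N, hNn, hNc, hXNc⟩ := hm
  have hPp : IsPGroup 2 ↥P := hS.to_le hPS
  have hι : ∀ v : ↥Q, Subgroup.inclusion hQP
      (resAut R Q (F.autGroup R) hAQ hQR ⟨τ₀, hτ₀A⟩ v) =
        (⟨t, htP⟩ : ↥P) * Subgroup.inclusion hQP v * (⟨t, htP⟩ : ↥P)⁻¹ := by
    intro v
    apply Subtype.ext
    show autFun R τ₀ v = t * v * t⁻¹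
    exact hτfun _ (hQR v.2)
  have hrange : (⟨t, htP⟩ : ↥P) * ⟨t, htP⟩ ∈ (Subgroup.inclusion hQP).range :=
    ⟨⟨t * t, httQ⟩, Subtype.ext rfl⟩
  obtain ⟨x, hxN, hx2, s, hs, hs4, a₀, ha₀, ha₀2⟩ := exists_inverting_elt hPp N
    (Subgroup.inclusion hQP) (Subgroup.inclusion_injective hQP) hWcard
    (resAut R Q (F.autGroup R) hAQ hQR γ) (resAut R Q (F.autGroup R) hAQ hQR ⟨τ₀, hτ₀A⟩)
    ⟨t, htP⟩ hι hrange z hz hτz hγ hτ2 hτne
  exact (maxclass_of_inverting hPp N x hxN hx2 s hs hs4 a₀ ha₀ ha₀2).elim hq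
    (fun h => h.elim hd hsd)

/-- A strongly closed metacyclic subgroup of a saturated fusion system on a `2`-group which is not
dihedral, generalized quaternion or quasi-dihedral is normal in the system. -/
theorem metacyclic_stronglyClosed_normal_two {S : Subgroup Ω} [Finite S] (p : ℕ) [Fact p.Prime]
    (hS : IsPGroup p S) (F : FusionSystem S) (hF : F.IsSaturated p) (P : Subgroup Ω)
    (hP : F.StronglyClosed P) (hp : p = 2) (hm : IsMetacyclic ↥P)
    (hd : ¬ ∃ m : ℕ, Nonempty (↥P ≃* DihedralGroup m))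
    (hq : ¬ ∃ m : ℕ, Nonempty (↥P ≃* QuaternionGroup m))
    (hsd : ¬ Cfsg.IsQuasiDihedral ↥P) : F.IsNormal P := by
  rw [isNormal_iff_essential hS hF]
  intro R hR
  have hsc := (stronglyClosed_iff.1 hP).2
  have hPS : P ≤ S := hP.1
  haveI : Finite P := finite_of_le hPS
  have hRS : R ≤ S := by
    rcases hR with rfl | hess
    · exact le_rfl
    · exact hess.1.1
  have hPR : P ≤ R := by
    rcases hR with rfl | hess
    · exact hPS
    · exact le_of_essential_two hS hF hP hp hm hd hq hsd hess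
  refine ⟨hPR, fun α hα => ?_⟩
  have hαM := (mem_autGroup_iff hRS α).1 hα
  rw [map_subgroupOf_aut_eq_iff hPR hαM]
  exact imgS_eq_of_maps (hαM.restrict hPR)
    (fun x hx => hsc P _ le_rfl (hαM.restrict hPR) x hx)

end Cfsg.Agent.H29.MW
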