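import Mathlib

/-!
# S2953, residual configuration (R1): abstract TI / centralizer facts for `V`

`V ≤ G`, `L ≤ N_G(V)`, `z ∈ V`, `C_G(z) ≤ L`, and every nontrivial element of `V` is an
`L`-conjugate of `z`.  Then `C_G(u) ≤ L` for every `1 ≠ u ∈ V`, and `V ∩ V^g ≠ 1` forces `g ∈ L`.
-/

set_option autoImplicit false

namespace Cfsg.Agent.H29.R1

universe u

/-- `C_G(u) ≤ L` for `1 ≠ u ∈ V`. -/
theorem cent_le_of_trans {G : Type u} [Group G] (V L : Subgroup G) (z : G)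
    (hCz : Subgroup.centralizer ({z} : Set G) ≤ L)
    (htr : ∀ u ∈ V, u ≠ 1 → ∃ κ ∈ L, κ * z * κ⁻¹ = u) :
    ∀ u ∈ V, u ≠ 1 → Subgroup.centralizer ({u} : Set G) ≤ L := by
  intro u hu hu1 c hc
  obtain ⟨κ, hκ, rfl⟩ := htr u hu hu1
  rw [Subgroup.mem_centralizer_singleton_iff] at hc
  have h1 : κ⁻¹ * c * κ ∈ Subgroup.centralizer ({z} : Set G) := by
    rw [Subgroup.mem_centralizer_singleton_iff]
    have h2 : κ⁻¹ * (c * (κ * z * κ⁻¹)) * κ = κ⁻¹ * ((κ * z * κ⁻¹) * c) * κ := by rw [hc]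
    simpa [mul_assoc] using h2
  have h3 := hCz h1
  have h4 : c = κ * (κ⁻¹ * c * κ) * κ⁻¹ := by group
  rw [h4]
  exact L.mul_mem (L.mul_mem hκ h3) (L.inv_mem hκ)

/-- TI: `V ∩ V^g ≠ 1` forces `g ∈ L`. -/
theorem ti_of_trans {G : Type u} [Group G] (V L : Subgroup G) (z : G)
    (hCz : Subgroup.centralizer ({z} : Set G) ≤ L)
    (htr : ∀ u ∈ V, u ≠ 1 → ∃ κ ∈ L, κ * z * κ⁻¹ = u) :
    ∀ g : G, V ⊓ V.map (MulAut.conj g).toMonoidHom ≠ ⊥ → g ∈ L := by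
  intro g hg
  rw [Subgroup.ne_bot_iff_exists_ne_one] at hg
  obtain ⟨⟨x, hx⟩, hx1⟩ := hg
  have hx1' : x ≠ 1 := fun h => hx1 (Subtype.ext h)
  obtain ⟨hxV, hxg⟩ := Subgroup.mem_inf.mp hx
  obtain ⟨w, hwV, hwx⟩ := Subgroup.mem_map.mp hxg
  have hwx' : g * w * g⁻¹ = x := by simpa using hwx
  have hw1 : w ≠ 1 := by
    rintro rfl
    apply hx1'
    rw [← hwx']
    group
  obtain ⟨κ₁, hκ₁, h1⟩ := htr x hxV hx1'
  obtain ⟨κ₂, hκ₂, h2⟩ := htr w hwV hw1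
  have h3 : κ₁⁻¹ * g * κ₂ ∈ Subgroup.centralizer ({z} : Set G) := by
    rw [Subgroup.mem_centralizer_singleton_iff]
    have h4 : g * (κ₂ * z * κ₂⁻¹) * g⁻¹ = κ₁ * z * κ₁⁻¹ := by rw [h2, h1, hwx']
    have h5 : κ₁⁻¹ * (g * (κ₂ * z * κ₂⁻¹) * g⁻¹) * (g * κ₂) =
        κ₁⁻¹ * (κ₁ * z * κ₁⁻¹) * (g * κ₂) := by rw [h4]
    have h6 : κ₁⁻¹ * (g * (κ₂ * z * κ₂⁻¹) * g⁻¹) * (g * κ₂) = κ₁⁻¹ * g * κ₂ * z := by group
    have h7 : κ₁⁻¹ * (κ₁ * z * κ₁⁻¹) * (g * κ₂) = z * (κ₁⁻¹ * g * κ₂) := by group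
    rw [h6, h7] at h5
    exact h5
  have h8 := hCz h3
  have h9 : g = κ₁ * (κ₁⁻¹ * g * κ₂) * κ₂⁻¹ := by group
  rw [h9]
  exact L.mul_mem (L.mul_mem hκ₁ h8) (L.inv_mem hκ₂)

end Cfsg.Agent.H29.R1

#print axioms Cfsg.Agent.H29.R1.cent_le_of_trans
#print axioms Cfsg.Agent.H29.R1.ti_of_trans
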