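import Mathlib
import Cfsg.Agent.H45.S8Defs2

set_option autoImplicit false

/-!
# S1158 (helper45's team project), piece CASE2 (helper29)

The cyclic subgroup of order `(q+1)/4`.
-/

namespace Cfsg.Agent.H29.S8

open Cfsg.Agent.H45.S8

universe u v

/-- **S8-CASE2.** -/
theorem case2 : StCase2.{u, v} := by
  intro G L _ _ _ _ m hm hQ hC21 hC22 hC23 hC24 hNE hAr a Φ ha1 ha2 hconj D hDc hDk hND hDconj
  obtain ⟨-, -, -, h4k, hodd, hk1, -⟩ := hAr m hm
  obtain ⟨hAc, hAcard, haA⟩ := hC21 G L a Φ D hDc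
  rw [hDk] at hAcard
  have hN1 := hC22 G L a Φ D
  rw [hND] at hN1
  obtain ⟨hCcomm, hCcard, hC4, hCsub⟩ := hQ (liftSub a Φ D) hAc hAcard
  have hCcard' : Nat.card ↥(Subgroup.centralizer ((liftSub a Φ D : Subgroup G) : Set G)) =
      4 * kk m := by rw [hCcard, h4k]
  have htrans := hC23 G L a Φ D (kk m) hodd hDc hDk ha1 ha2 hDconj hconj
  have hN := hC24 G (liftSub a Φ D) a (kk m) hodd ha1 ha2 haA hCcomm hCcard' hC4 htrans
  rw [hN1] at hN
  have hNcard : Nat.card ↥(Subgroup.normalizer ((liftSub a Φ D : Subgroup G) : Set G)) =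
      6 * (qq m + 1) := by
    rw [hN, ← h4k]; ring
  -- `A ≤ C(A)`
  have hAle : liftSub a Φ D ≤ Subgroup.centralizer ((liftSub a Φ D : Subgroup G) : Set G) := by
    intro x hx
    rw [Subgroup.mem_centralizer_iff]
    intro y hy
    letI : CommGroup ↥(liftSub a Φ D) := IsCyclic.commGroup
    have h1 : (⟨y, hy⟩ : ↥(liftSub a Φ D)) * ⟨x, hx⟩ = ⟨x, hx⟩ * ⟨y, hy⟩ := mul_comm _ _
    exact congrArg Subtype.val h1
  have hcop : (Nat.card ↥(liftSub a Φ D)).Coprime
      (Nat.card ↥(Subgroup.centralizer ((liftSub a Φ D : Subgroup G) : Set G)) /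
        Nat.card ↥(liftSub a Φ D)) := by
    rw [hAcard, hCcard']
    have hkpos : 0 < kk m := by omega
    rw [Nat.mul_div_cancel _ hkpos]
    have h2 : (kk m).Coprime 2 := Nat.coprime_two_right.mpr hodd
    exact Nat.Coprime.mul_right h2 h2
  have hNE' := hNE G (liftSub a Φ D) (Subgroup.centralizer ((liftSub a Φ D : Subgroup G) : Set G))
    hAc hAle hCcomm hcop hCsub
  have hAbot : liftSub a Φ D ≠ ⊥ := by
    intro h
    rw [h, Subgroup.card_bot] at hAcard
    omega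
  have hNA := hNE' (liftSub a Φ D) le_rfl hAbot
  refine ⟨liftSub a Φ D, hAc, hAcard, hNcard, ?_, ?_⟩
  · rw [← hNA]; exact hNcard
  · intro A₀ hA₀ hA₀bot
    rw [hNE' A₀ hA₀ hA₀bot, hNA]

example : ∀ (G : Type u) (L : Type v) [Group G] [Group L] [Finite G] [Finite L] (m : ℕ), 1 ≤ m →
    HQuarter G m → StC21.{u, v} → StC22.{u, v} → StC23.{u, v} → StC24.{u} → StNormEq.{u} →
    StArCop →
    ∀ (a : G) (Φ : ↥(Subgroup.centralizer ({a} : Set G)) ≃* Multiplicative (ZMod 2) × L),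
      a ≠ 1 → a * a = 1 → (∀ z : G, z ≠ 1 → z * z = 1 → ∃ c : G, c * a * c⁻¹ = z) →
    ∀ D : Subgroup L, IsCyclic ↥D → Nat.card ↥D = kk m →
      Nat.card ↥(Subgroup.normalizer (D : Set L)) = 4 * kk m →
      (∀ D' : Subgroup L, IsCyclic ↥D' → Nat.card ↥D' = kk m →
        ∃ c : L, D' = D.map (MulAut.conj c).toMonoidHom) →
      ∃ A : Subgroup G, IsCyclic ↥A ∧ Nat.card ↥A = kk m ∧
        Nat.card ↥(Subgroup.normalizer (A : Set G)) = 6 * (qq m + 1) ∧
        Nat.card ↥(Subgroup.normalizer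
          ((Subgroup.centralizer (A : Set G) : Subgroup G) : Set G)) = 6 * (qq m + 1) ∧
        ∀ A₀ : Subgroup G, A₀ ≤ A → A₀ ≠ ⊥ →
          Subgroup.normalizer (A₀ : Set G) = Subgroup.normalizer (A : Set G) :=
  case2

end Cfsg.Agent.H29.S8
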