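import Mathlib
import Cfsg.Agent.H45.S8Defs0
import Cfsg.Agent.H29.Basic

set_option autoImplicit false

/-!
# S1158 (helper45's team project), piece COP (helper29)

Two centralisers `C(y)`, `C(y')` have coprime orders unless the order of `y'` divides `|C(y)|`.
-/

namespace Cfsg.Agent.H29.S8

open Cfsg.Agent.H45.S8

universe u

/-- **S8-COP.** -/
theorem cop : StCop.{u} := by
  intro G _ _ M hAb hDvd hSyl hTI1 y y' hy hyM hy' hy'M hnd
  apply Nat.coprime_of_dvd
  intro p hp hpA hpA'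
  haveI : Fact p.Prime := ⟨hp⟩
  have hpM : p ∣ M := hpA.trans (hDvd y hy hyM)
  obtain ⟨z, hz⟩ := exists_prime_orderOf_dvd_card' p hpA
  obtain ⟨z', hz'⟩ := exists_prime_orderOf_dvd_card' p hpA'
  have hzo : orderOf (z : G) = p := by rw [Subgroup.orderOf_coe]; exact hz
  have hz'o : orderOf (z' : G) = p := by rw [Subgroup.orderOf_coe]; exact hz'
  have hz1 : (z : G) ≠ 1 := by
    intro h
    rw [h, orderOf_one] at hzo
    exact hp.one_lt.ne hzo
  have hz'1 : (z' : G) ≠ 1 := by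
    intro h
    rw [h, orderOf_one] at hz'o
    exact hp.one_lt.ne hz'o
  have hCz : Subgroup.centralizer ({(z : G)} : Set G) = Subgroup.centralizer ({y} : Set G) :=
    hTI1 G M hAb hDvd y hy hyM z z.2 hz1
  have hZ : IsPGroup p ↥(Subgroup.zpowers (z : G)) :=
    IsPGroup.of_card (n := 1) (by rw [Nat.card_zpowers, hzo, pow_one])
  have hZ' : IsPGroup p ↥(Subgroup.zpowers (z' : G)) :=
    IsPGroup.of_card (n := 1) (by rw [Nat.card_zpowers, hz'o, pow_one])
  obtain ⟨P, hP⟩ := hZ.exists_le_sylow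
  obtain ⟨P', hP'⟩ := hZ'.exists_le_sylow
  obtain ⟨g, hg⟩ := MulAction.exists_smul_eq G P' P
  -- `w := g z' g⁻¹ ∈ P`
  have hw : g * (z' : G) * g⁻¹ ∈ (P : Subgroup G) := by
    rw [← hg, Sylow.coe_subgroup_smul, Subgroup.mem_pointwise_smul_iff_inv_smul_mem]
    have h0 : (MulAut.conj g)⁻¹ • (g * (z' : G) * g⁻¹) = (z' : G) := by
      rw [MulAut.smul_def, MulAut.conj_inv_apply]
      group
    rw [h0]
    exact hP' (Subgroup.mem_zpowers _)
  have hzP : (z : G) ∈ (P : Subgroup G) := hP (Subgroup.mem_zpowers _)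
  have hwo : orderOf (g * (z' : G) * g⁻¹) = p := by
    exact ((MulAut.conj g).orderOf_eq (z' : G)).trans hz'o
  haveI := hSyl p hpM P
  -- the two subgroups of order `p` of the cyclic group `P` coincide
  have heq : Subgroup.zpowers (⟨g * (z' : G) * g⁻¹, hw⟩ : ↥(P : Subgroup G)) =
      Subgroup.zpowers (⟨(z : G), hzP⟩ : ↥(P : Subgroup G)) := by
    apply Cfsg.Agent.H29.eq_of_card_eq_of_isCyclic
    rw [Nat.card_zpowers, Nat.card_zpowers, Subgroup.orderOf_mk, Subgroup.orderOf_mk, hwo, hzo]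
  have hzw : (z : G) ∈ Subgroup.zpowers (g * (z' : G) * g⁻¹) := by
    have h1 : (⟨(z : G), hzP⟩ : ↥(P : Subgroup G)) ∈
        Subgroup.zpowers (⟨g * (z' : G) * g⁻¹, hw⟩ : ↥(P : Subgroup G)) := by
      rw [heq]; exact Subgroup.mem_zpowers _
    obtain ⟨i, hi⟩ := Subgroup.mem_zpowers_iff.mp h1
    refine Subgroup.mem_zpowers_iff.mpr ⟨i, ?_⟩
    have h2 := congrArg Subtype.val hi
    simpa using h2
  -- `g y' g⁻¹` commutes with `z`, so lies in `C(y)`
  have hy'z' : (z' : G) * y' = y' * (z' : G) := Subgroup.mem_centralizer_singleton_iff.mp z'.2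
  have hcw : (g * y' * g⁻¹) * (g * (z' : G) * g⁻¹) = (g * (z' : G) * g⁻¹) * (g * y' * g⁻¹) := by
    have h0 : (g * y' * g⁻¹) * (g * (z' : G) * g⁻¹) = g * (y' * (z' : G)) * g⁻¹ := by group
    have h1 : (g * (z' : G) * g⁻¹) * (g * y' * g⁻¹) = g * ((z' : G) * y') * g⁻¹ := by group
    rw [h0, h1, hy'z']
  have hcz : (g * y' * g⁻¹) * (z : G) = (z : G) * (g * y' * g⁻¹) := by
    obtain ⟨i, hi⟩ := Subgroup.mem_zpowers_iff.mp hzw
    rw [← hi]
    exact ((Commute.zpow_right (show Commute (g * y' * g⁻¹) (g * (z' : G) * g⁻¹) from hcw) i)).eq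
  have hmem : g * y' * g⁻¹ ∈ Subgroup.centralizer ({y} : Set G) := by
    rw [← hCz, Subgroup.mem_centralizer_singleton_iff]
    exact hcz
  apply hnd
  have h3 := Subgroup.orderOf_dvd_natCard _ hmem
  have h4 : orderOf (g * y' * g⁻¹) = orderOf y' := (MulAut.conj g).orderOf_eq y'
  rwa [h4] at h3

example : ∀ (G : Type u) [Group G] [Finite G] (M : ℕ), HAb G M → HDvd G M → HSyl G M → StTI1.{u} →
    ∀ y y' : G, (orderOf y).Prime → orderOf y ∣ M → (orderOf y').Prime → orderOf y' ∣ M →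
      ¬ orderOf y' ∣ Nat.card ↥(Subgroup.centralizer ({y} : Set G)) →
      (Nat.card ↥(Subgroup.centralizer ({y} : Set G))).Coprime
        (Nat.card ↥(Subgroup.centralizer ({y'} : Set G))) :=
  cop

end Cfsg.Agent.H29.S8
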