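import Mathlib
import Cfsg.Agent.H45.S8Defs2

set_option autoImplicit false

/-!
# S1158 (helper45's team project), piece EMB (helper29)

`HAb` and `HSix` for a group with a faithful 7-dimensional representation, from the two linear
algebra statements LA1, LA2.
-/

namespace Cfsg.Agent.H29.S8

open Cfsg.Agent.H45.S8

universe u v

/-- **S8-EMB.** -/
theorem emb : StEmb.{u, v} := by
  intro G _ _ n _ _ K _ _ f hf hn M hM hLA1 hLA2
  refine ⟨?_, ?_⟩
  · intro y hy hyM c₁ c₂ h₁ h₂
    have hord : orderOf (f y) = orderOf y := orderOf_injective f hf y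
    have h := hLA1 n K (orderOf y) hy hn (hM _ hy hyM) (f y) hord (f c₁) (f c₂)
      (by rw [← map_mul, ← map_mul, h₁]) (by rw [← map_mul, ← map_mul, h₂])
    apply hf
    rw [map_mul, map_mul, h]
  · intro y g hy hyM hmem
    have hord : orderOf (f y) = orderOf y := orderOf_injective f hf y
    rw [← mem_powers_iff_mem_zpowers] at hmem
    obtain ⟨j, hj⟩ := hmem
    have hj' : g * y * g⁻¹ = y ^ j := hj.symm
    have h := hLA2 n K (orderOf y) hy hn (hM _ hy hyM) (f y) hord (f g) j
      (by rw [← map_inv, ← map_mul, ← map_mul, hj', map_pow])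
    apply hf
    rw [map_mul, map_mul, map_pow, h]

example : ∀ (G : Type u) [Group G] [Finite G] (n : Type) [Fintype n] [DecidableEq n] (K : Type v)
    [Field K] [Fintype K] (f : G →* GL n K), Function.Injective f → Fintype.card n = 7 →
    ∀ M : ℕ, (∀ p : ℕ, p.Prime → p ∣ M → ∀ d : ℕ, p ∣ Fintype.card K ^ d - 1 ↔ 6 ∣ d) →
    StLA1.{0, v} → StLA2.{0, v} → HAb G M ∧ HSix G M :=
  emb

end Cfsg.Agent.H29.S8
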