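import Mathlib
import Cfsg.Agent.H45.S8Defs2

set_option autoImplicit false

/-!
# S1158 (helper45's team project), piece HDVD (helper29)

`HDvd G M` from the fixed-point hypotheses, via `StDvd`.
-/

namespace Cfsg.Agent.H29.S8

open Cfsg.Agent.H45.S8

universe u v

/-- Conjugate elements have centralisers of the same order. -/
theorem card_centralizer_conj' {G : Type u} [Group G] (c a : G) :
    Nat.card ↥(Subgroup.centralizer ({c * a * c⁻¹} : Set G)) =
      Nat.card ↥(Subgroup.centralizer ({a} : Set G)) := by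
  refine Nat.card_congr
    { toFun := fun x => ⟨c⁻¹ * (x : G) * c, ?_⟩
      invFun := fun x => ⟨c * (x : G) * c⁻¹, ?_⟩
      left_inv := ?_
      right_inv := ?_ }
  · have hx := Subgroup.mem_centralizer_singleton_iff.mp x.2
    rw [Subgroup.mem_centralizer_singleton_iff]
    have h0 : c⁻¹ * (x : G) * c * a = c⁻¹ * ((x : G) * (c * a * c⁻¹)) * c := by group
    have h1 : a * (c⁻¹ * (x : G) * c) = c⁻¹ * ((c * a * c⁻¹) * (x : G)) * c := by group
    rw [h0, h1, hx]
  · have hx := Subgroup.mem_centralizer_singleton_iff.mp x.2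
    rw [Subgroup.mem_centralizer_singleton_iff]
    have h0 : c * (x : G) * c⁻¹ * (c * a * c⁻¹) = c * ((x : G) * a) * c⁻¹ := by group
    have h1 : c * a * c⁻¹ * (c * (x : G) * c⁻¹) = c * (a * (x : G)) * c⁻¹ := by group
    rw [h0, h1, hx]
  · intro x
    apply Subtype.ext
    show c * (c⁻¹ * (x : G) * c) * c⁻¹ = (x : G)
    group
  · intro x
    apply Subtype.ext
    show c⁻¹ * (c * (x : G) * c⁻¹) * c = (x : G)
    group

/-- **S8-HDVD.** -/
theorem hDvd : StHDvd.{u, v} := by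
  intro G _ _ Ω _ m hm hG hQ hSyl hKC hDvd hfix hcomm a ha1 ha2 hCa hconj A₁ hA₁c hA₁
  refine hDvd G m hm hG ?_ ?_ ?_
  · intro z hz1 hz2
    obtain ⟨c, rfl⟩ := hconj z hz1 hz2
    rw [card_centralizer_conj', hCa]
  · intro z g hz hz2 hzd hgz
    obtain ⟨x, hx⟩ := hcomm z g hz hz2 hzd hgz
    exact hfix g x hx
  · intro z hz hzk
    exact hKC G m hQ hSyl A₁ hA₁c hA₁ z hz hzk

example : ∀ (G : Type u) [Group G] [Finite G] (Ω : Type v) [MulAction G Ω] (m : ℕ), 1 ≤ m →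
    Nat.card G = GG m → HQuarter G m → HSyl G (kk m) → StKCent.{u} → StDvd.{u} →
    (∀ (g : G) (x : Ω), g • x = x → g ^ (qq m ^ 3 * (qq m - 1)) = 1) →
    (∀ z g : G, (orderOf z).Prime → orderOf z ≠ 2 → orderOf z ∣ qq m * (qq m - 1) →
      g * z = z * g → ∃ x : Ω, g • x = x) →
    ∀ a : G, a ≠ 1 → a * a = 1 →
    Nat.card ↥(Subgroup.centralizer ({a} : Set G)) = qq m * (qq m ^ 2 - 1) →
    (∀ z : G, z ≠ 1 → z * z = 1 → ∃ c : G, c * a * c⁻¹ = z) →
    ∀ A₁ : Subgroup G, IsCyclic ↥A₁ → Nat.card ↥A₁ = kk m → HDvd G (MM m) :=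
  hDvd

end Cfsg.Agent.H29.S8
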