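import Mathlib
import Cfsg.Agent.H45.S8Defs0

set_option autoImplicit false

/-!
# S1158 (helper45's team project), piece TI1 (helper29)

`C(y)` is the centraliser of each of its non-trivial elements.
-/

namespace Cfsg.Agent.H29.S8

open Cfsg.Agent.H45.S8

universe u

/-- **S8-TI1.** -/
theorem ti1 : StTI1.{u} := by
  intro G _ _ M hAb hDvd y hy hyM z hz hz1
  have hzy : z * y = y * z := Subgroup.mem_centralizer_singleton_iff.mp hz
  have hzM : orderOf z ∣ M := (Subgroup.orderOf_dvd_natCard _ hz).trans (hDvd y hy hyM)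
  have hz1' : orderOf z ≠ 1 := fun h => hz1 (orderOf_eq_one_iff.mp h)
  obtain ⟨p', hp', hp'z⟩ := Nat.exists_prime_and_dvd hz1'
  have hord : orderOf (z ^ (orderOf z / p')) = p' :=
    orderOf_pow_orderOf_div (orderOf_pos z).ne' hp'z
  have hz'y : y * z ^ (orderOf z / p') = z ^ (orderOf z / p') * y :=
    ((Commute.pow_right (show Commute y z from hzy.symm) _ : Commute y _)).eq
  ext g
  rw [Subgroup.mem_centralizer_singleton_iff, Subgroup.mem_centralizer_singleton_iff]
  constructor
  · intro hgz
    have hgz' : g * z ^ (orderOf z / p') = z ^ (orderOf z / p') * g :=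
      ((Commute.pow_right (show Commute g z from hgz) _ : Commute g _)).eq
    exact hAb (z ^ (orderOf z / p')) (by rw [hord]; exact hp') (by rw [hord]; exact hp'z.trans hzM)
      g y hgz' hz'y
  · intro hgy
    exact hAb y hy hyM g z hgy hzy

example : ∀ (G : Type u) [Group G] [Finite G] (M : ℕ), HAb G M → HDvd G M →
    ∀ y : G, (orderOf y).Prime → orderOf y ∣ M → SelfC (Subgroup.centralizer ({y} : Set G)) :=
  ti1

end Cfsg.Agent.H29.S8
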