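import Mathlib
import Cfsg.Agent.H45.S8Defs0

set_option autoImplicit false

/-!
# S1158 (helper45's team project), piece TI2 (helper29)

`C(y)` is cyclic.
-/

namespace Cfsg.Agent.H29.S8

open Cfsg.Agent.H45.S8

universe u

/-- **S8-TI2.** -/
theorem ti2 : StTI2.{u} := by
  intro G _ _ M hAb hDvd hSyl y hy hyM
  have hcomm : ∀ a b : ↥(Subgroup.centralizer ({y} : Set G)), a * b = b * a := by
    intro a b
    apply Subtype.ext
    exact hAb y hy hyM a.1 b.1 (Subgroup.mem_centralizer_singleton_iff.mp a.2)
      (Subgroup.mem_centralizer_singleton_iff.mp b.2)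
  haveI hZ : IsZGroup ↥(Subgroup.centralizer ({y} : Set G)) := by
    refine ⟨fun p hp P => ?_⟩
    haveI : Fact p.Prime := ⟨hp⟩
    by_cases hpd : p ∣ Nat.card ↥(Subgroup.centralizer ({y} : Set G))
    · have hpM : p ∣ M := hpd.trans (hDvd y hy hyM)
      have hPG : IsPGroup p ↥((P : Subgroup ↥(Subgroup.centralizer ({y} : Set G))).map
          (Subgroup.centralizer ({y} : Set G)).subtype) := P.isPGroup'.map _
      obtain ⟨Q, hQ⟩ := hPG.exists_le_sylow
      haveI := hSyl p hpM Q
      obtain ⟨f, hf⟩ : ∃ f : ↥(P : Subgroup ↥(Subgroup.centralizer ({y} : Set G))) →*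
          ↥(Q : Subgroup G), ∀ x, ((f x : ↥(Q : Subgroup G)) : G) = ((x : ↥(Subgroup.centralizer ({y} : Set G))) : G) :=
        ⟨((Subgroup.centralizer ({y} : Set G)).subtype.comp
          (P : Subgroup ↥(Subgroup.centralizer ({y} : Set G))).subtype).codRestrict
            (Q : Subgroup G) (fun x => hQ (Subgroup.mem_map_of_mem _ x.2)), fun x => rfl⟩
      have hfi : Function.Injective f := by
        intro a b hab
        have h1 : ((a : ↥(Subgroup.centralizer ({y} : Set G))) : G) =
            ((b : ↥(Subgroup.centralizer ({y} : Set G))) : G) := by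
          rw [← hf a, ← hf b, hab]
        exact Subtype.ext (Subtype.ext h1)
      exact isCyclic_of_injective f hfi
    · obtain ⟨n, hn⟩ := IsPGroup.iff_card.mp P.isPGroup'
      have hn0 : n = 0 := by
        by_contra h0
        apply hpd
        have h1 : p ∣ Nat.card ↥(P : Subgroup ↥(Subgroup.centralizer ({y} : Set G))) := by
          rw [hn]; exact dvd_pow_self p h0
        exact h1.trans (Subgroup.card_subgroup_dvd_card _)
      rw [hn0, pow_zero] at hn
      haveI : Subsingleton ↥(P : Subgroup ↥(Subgroup.centralizer ({y} : Set G))) :=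
        (Nat.card_eq_one_iff_unique.mp hn).1
      exact isCyclic_of_subsingleton
  letI : CommGroup ↥(Subgroup.centralizer ({y} : Set G)) :=
    { (inferInstance : Group ↥(Subgroup.centralizer ({y} : Set G))) with mul_comm := hcomm }
  exact inferInstance

example : ∀ (G : Type u) [Group G] [Finite G] (M : ℕ), HAb G M → HDvd G M → HSyl G M →
    ∀ y : G, (orderOf y).Prime → orderOf y ∣ M →
      IsCyclic ↥(Subgroup.centralizer ({y} : Set G)) :=
  ti2

end Cfsg.Agent.H29.S8
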