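import Mathlib
import Cfsg.Agent.H45.S8Defs0

set_option autoImplicit false

/-!
# S1158 (helper45's team project), piece TI4 (helper29)

`C(y)` is a Hall subgroup.
-/

namespace Cfsg.Agent.H29.S8

open Cfsg.Agent.H45.S8

universe u

/-- **S8-TI4.** -/
theorem ti4 : StTI4.{u} := by
  intro G _ _ M hAb hDvd hSyl hTI1 y hy hyM
  have hidx : Nat.card G / Nat.card ↥(Subgroup.centralizer ({y} : Set G)) =
      (Subgroup.centralizer ({y} : Set G)).index := by
    rw [← (Subgroup.centralizer ({y} : Set G)).card_mul_index]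
    exact Nat.mul_div_cancel_left _ Nat.card_pos
  rw [hidx]
  apply Nat.coprime_of_dvd
  intro p' hp' hpA hpI
  haveI : Fact p'.Prime := ⟨hp'⟩
  obtain ⟨z', hz'⟩ := exists_prime_orderOf_dvd_card' p' hpA
  have hpM : p' ∣ M := hpA.trans (hDvd y hy hyM)
  have hz'o : orderOf (z' : G) = p' := by rw [Subgroup.orderOf_coe]; exact hz'
  have hz'1 : (z' : G) ≠ 1 := by
    intro h
    rw [h, orderOf_one] at hz'o
    exact hp'.one_lt.ne hz'o
  have hZ : IsPGroup p' ↥(Subgroup.zpowers (z' : G)) :=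
    IsPGroup.of_card (n := 1) (by rw [Nat.card_zpowers, hz'o, pow_one])
  obtain ⟨P, hP⟩ := hZ.exists_le_sylow
  haveI := hSyl p' hpM P
  have hCz : Subgroup.centralizer ({(z' : G)} : Set G) = Subgroup.centralizer ({y} : Set G) :=
    hTI1 G M hAb hDvd y hy hyM z' z'.2 hz'1
  have hzP : (z' : G) ∈ (P : Subgroup G) := hP (Subgroup.mem_zpowers _)
  have hPA : (P : Subgroup G) ≤ Subgroup.centralizer ({y} : Set G) := by
    intro x hx
    rw [← hCz, Subgroup.mem_centralizer_singleton_iff]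
    letI : CommGroup ↥(P : Subgroup G) := IsCyclic.commGroup
    have h1 : (⟨x, hx⟩ : ↥(P : Subgroup G)) * ⟨z', hzP⟩ = ⟨z', hzP⟩ * ⟨x, hx⟩ := mul_comm _ _
    exact congrArg Subtype.val h1
  have h1 : (Subgroup.centralizer ({y} : Set G)).index ∣ (P : Subgroup G).index :=
    Subgroup.index_dvd_of_le hPA
  exact P.not_dvd_index (hpI.trans h1)

example : ∀ (G : Type u) [Group G] [Finite G] (M : ℕ), HAb G M → HDvd G M → HSyl G M → StTI1.{u} →
    ∀ y : G, (orderOf y).Prime → orderOf y ∣ M →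
      (Nat.card ↥(Subgroup.centralizer ({y} : Set G))).Coprime
        (Nat.card G / Nat.card ↥(Subgroup.centralizer ({y} : Set G))) :=
  ti4

end Cfsg.Agent.H29.S8
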