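import Cfsg.Agent.H27.Comp

set_option autoImplicit false

namespace Cfsg.Agent.H29

open Cfsg

variable {G : Type*} [Group G]

/-- The normalizer of a subgroup normalizes its centralizer. -/
theorem normalizer_le_normalizer_centralizer' (S : Subgroup G) :
    Subgroup.normalizer (S : Set G) ≤
      Subgroup.normalizer ((Subgroup.centralizer (S : Set G) : Subgroup G) : Set G) := by
  have key : ∀ g ∈ Subgroup.normalizer (S : Set G), ∀ z ∈ Subgroup.centralizer (S : Set G),
      g * z * g⁻¹ ∈ Subgroup.centralizer (S : Set G) := by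
    intro g hg z hz
    rw [Subgroup.mem_centralizer_iff]
    intro s hs
    have hs' : g⁻¹ * s * g⁻¹⁻¹ ∈ S :=
      (Subgroup.mem_normalizer_iff.mp (Subgroup.inv_mem _ hg) s).mp hs
    have hc := Subgroup.mem_centralizer_iff.mp hz _ hs'
    calc s * (g * z * g⁻¹) = g * ((g⁻¹ * s * g⁻¹⁻¹) * z) * g⁻¹ := by group
      _ = g * (z * (g⁻¹ * s * g⁻¹⁻¹)) * g⁻¹ := by rw [hc]
      _ = g * z * g⁻¹ * s := by group
  intro g hg
  rw [Subgroup.mem_normalizer_iff]
  intro z
  constructor
  · exact key g hg z
  · intro h
    have h2 := key g⁻¹ (Subgroup.inv_mem _ hg) _ h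
    have e : g⁻¹ * (g * z * g⁻¹) * g⁻¹⁻¹ = z := by group
    rwa [e] at h2

/-- The layer of `C_G(t)` is `S`, given a quasisimple normal subgroup `S` of `C_G(t)` whose
centralizer in `G` is abelian. -/
theorem layer_centralizer_eq_of_data (S : Subgroup G) (t : G)
    (hq : IsQuasisimple S) (hSC : S ≤ Subgroup.centralizer ({t} : Set G))
    (hCN : Subgroup.centralizer ({t} : Set G) ≤ Subgroup.normalizer (S : Set G))
    (hcomm : ∀ a ∈ Subgroup.centralizer (S : Set G), ∀ b ∈ Subgroup.centralizer (S : Set G),
      a * b = b * a) :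
    (layer ↥(Subgroup.centralizer ({t} : Set G))).map
      (Subgroup.centralizer ({t} : Set G)).subtype = S := by
  have hS'n : (S.subgroupOf (Subgroup.centralizer ({t} : Set G))).Normal :=
    (Subgroup.normal_subgroupOf_iff_le_normalizer hSC).mpr hCN
  have hS'q : IsQuasisimple ↥(S.subgroupOf (Subgroup.centralizer ({t} : Set G))) :=
    H27.isQuasisimple_subgroupOf hSC hq
  have hS'c : IsComponent (S.subgroupOf (Subgroup.centralizer ({t} : Set G))) :=
    ⟨hS'n.isSubnormal, hS'q⟩
  have huniq : ∀ K : Subgroup ↥(Subgroup.centralizer ({t} : Set G)), IsComponent K →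
      K = S.subgroupOf (Subgroup.centralizer ({t} : Set G)) := by
    intro K hK
    have hKnc : ¬ (∀ a ∈ K, ∀ b ∈ K, a * b = b * a) := by
      intro h
      have hc : IsMulCommutative K := ⟨⟨fun a b => Subtype.ext (h a a.2 b b.2)⟩⟩
      have hp : Group.IsPerfect K := hK.2.1
      have hs : Subsingleton K := Group.IsPerfect.subsingleton_of_isMulCommutative
      have hn := H27.quasisimple_nontrivial hK.2
      exact not_subsingleton K hs
    rcases H27.component_normal_le_or_comm K
      (S.subgroupOf (Subgroup.centralizer ({t} : Set G))) hK with h | h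
    · rcases H27.quasisimple_subnormal hS'q
        (K.subgroupOf (S.subgroupOf (Subgroup.centralizer ({t} : Set G)))) hK.1.subgroupOf
        with h1 | h1
      · apply le_antisymm h
        intro x hx
        have hx' : (⟨x, hx⟩ : S.subgroupOf (Subgroup.centralizer ({t} : Set G))) ∈
            K.subgroupOf (S.subgroupOf (Subgroup.centralizer ({t} : Set G))) := by
          rw [h1]; exact Subgroup.mem_top _
        exact hx'
      · exfalso; apply hKnc
        intro a ha b hb
        have ha' : (⟨a, h ha⟩ : S.subgroupOf (Subgroup.centralizer ({t} : Set G))) ∈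
            Subgroup.center (S.subgroupOf (Subgroup.centralizer ({t} : Set G))) :=
          h1 (show (⟨a, h ha⟩ : S.subgroupOf (Subgroup.centralizer ({t} : Set G))) ∈
            K.subgroupOf _ from ha)
        have h3 := Subgroup.mem_center_iff.mp ha' ⟨b, h hb⟩
        exact (congrArg Subtype.val h3).symm
    · exfalso; apply hKnc
      have hZ : ∀ a ∈ K, (a : G) ∈ Subgroup.centralizer (S : Set G) := by
        intro a ha
        rw [Subgroup.mem_centralizer_iff]
        intro s hs
        have h3 := H27.comm_of_comm_eq_bot h ha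
          (show (⟨s, hSC hs⟩ : Subgroup.centralizer ({t} : Set G)) ∈
            S.subgroupOf (Subgroup.centralizer ({t} : Set G)) from hs)
        exact (congrArg Subtype.val h3).symm
      intro a ha b hb
      exact Subtype.ext (hcomm _ (hZ a ha) _ (hZ b hb))
  have hlayer : layer ↥(Subgroup.centralizer ({t} : Set G)) =
      S.subgroupOf (Subgroup.centralizer ({t} : Set G)) := by
    unfold layer
    apply le_antisymm
    · apply sSup_le
      intro K hK
      rw [huniq K hK]
    · exact le_sSup hS'c
  rw [hlayer, Subgroup.map_subgroupOf_eq_of_le hSC]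

/-- Abstract criterion for a standard subgroup. -/
theorem isStandardSubgroup_of_data [Finite G] (S : Subgroup G) (t : G)
    (hq : IsQuasisimple S) (hSC : S ≤ Subgroup.centralizer ({t} : Set G))
    (hCN : Subgroup.centralizer ({t} : Set G) ≤ Subgroup.normalizer (S : Set G))
    (ht2 : orderOf t = 2)
    (hcomm : ∀ a ∈ Subgroup.centralizer (S : Set G), ∀ b ∈ Subgroup.centralizer (S : Set G),
      a * b = b * a)
    (hinv : ∀ u ∈ Subgroup.centralizer (S : Set G), u * u = 1 → u ≠ 1 → u = t) :
    IsStandardSubgroup S := by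
  have ht1 : t ≠ 1 := by
    intro h; rw [h, orderOf_one] at ht2; omega
  have htt : t * t = 1 := by
    rw [← pow_two, ← ht2]; exact pow_orderOf_eq_one t
  have htZ : t ∈ Subgroup.centralizer (S : Set G) := by
    rw [Subgroup.mem_centralizer_iff]
    intro s hs
    exact Subgroup.mem_centralizer_singleton_iff.mp (hSC hs)
  have hNZ := normalizer_le_normalizer_centralizer' S
  have key : ∀ g : G, g * t * g⁻¹ ∈ Subgroup.centralizer (S : Set G) →
      g ∈ Subgroup.centralizer ({t} : Set G) := by
    intro g hg
    have h1 : (g * t * g⁻¹) * (g * t * g⁻¹) = 1 := by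
      calc (g * t * g⁻¹) * (g * t * g⁻¹) = g * (t * t) * g⁻¹ := by group
        _ = 1 := by rw [htt]; group
    have h2 : g * t * g⁻¹ ≠ 1 := by
      intro h
      apply ht1
      have h3 : t = g⁻¹ * (g * t * g⁻¹) * g := by group
      rw [h3, h]; group
    have h3 := hinv _ hg h1 h2
    rw [Subgroup.mem_centralizer_singleton_iff]
    calc g * t = (g * t * g⁻¹) * g := by group
      _ = t * g := by rw [h3]
  refine ⟨hq, ⟨?_, ?_⟩, ?_, ?_⟩
  · have h1 : orderOf t ∣ Nat.card ↥(Subgroup.centralizer (S : Set G)) :=
      Subgroup.orderOf_dvd_natCard _ htZ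
    rw [ht2] at h1
    exact (even_iff_two_dvd).mpr h1
  · intro g hg
    by_contra hodd
    rw [Nat.not_odd_iff_even] at hodd
    have : Fact (Nat.Prime 2) := ⟨Nat.prime_two⟩
    obtain ⟨x, hx⟩ := exists_prime_orderOf_dvd_card' 2 hodd.two_dvd
    have hxZ : (x : G) ∈ Subgroup.centralizer (S : Set G) := (Subgroup.mem_inf.mp x.2).1
    have hxZg : (x : G) ∈ (Subgroup.centralizer (S : Set G)).map (MulAut.conj g).toMonoidHom :=
      (Subgroup.mem_inf.mp x.2).2
    have hx2 : orderOf (x : G) = 2 := by rw [Subgroup.orderOf_coe]; exact hx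
    have hxt : (x : G) = t := by
      apply hinv _ hxZ
      · rw [← pow_two, ← hx2]; exact pow_orderOf_eq_one _
      · intro h; rw [h, orderOf_one] at hx2; omega
    obtain ⟨v, hvZ, hv⟩ := hxZg
    have hv' : g * v * g⁻¹ = t := by rw [← hxt]; exact hv
    have hv2 : g⁻¹ * t * g⁻¹⁻¹ = v := by rw [← hv']; group
    have hgi : g⁻¹ ∈ Subgroup.centralizer ({t} : Set G) := key g⁻¹ (by rw [hv2]; exact hvZ)
    have hgC : g ∈ Subgroup.centralizer ({t} : Set G) := by
      have := Subgroup.inv_mem _ hgi
      rwa [inv_inv] at this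
    exact hg (hNZ (hCN hgC))
  · intro g _ hbot
    rw [Subgroup.commutator_eq_bot_iff_le_centralizer] at hbot
    have hconjZ : ∀ a ∈ S, g * a * g⁻¹ ∈ Subgroup.centralizer (S : Set G) := by
      intro a ha
      rw [Subgroup.mem_centralizer_iff]
      intro s hs
      have h1 : g * a * g⁻¹ ∈ S.map (MulAut.conj g).toMonoidHom := ⟨a, ha, rfl⟩
      exact (Subgroup.mem_centralizer_iff.mp (hbot hs) _ h1).symm
    have hc : IsMulCommutative S := by
      refine ⟨⟨fun a b => Subtype.ext ?_⟩⟩
      have h1 := hcomm _ (hconjZ a a.2) _ (hconjZ b b.2)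
      have h2 : g * ((a : G) * b) * g⁻¹ = g * ((b : G) * a) * g⁻¹ := by
        calc g * ((a : G) * b) * g⁻¹ = (g * a * g⁻¹) * (g * b * g⁻¹) := by group
          _ = (g * b * g⁻¹) * (g * a * g⁻¹) := h1
          _ = g * ((b : G) * a) * g⁻¹ := by group
      exact mul_left_cancel (mul_right_cancel h2)
    have hp : Group.IsPerfect S := hq.1
    have hs : Subsingleton S := Group.IsPerfect.subsingleton_of_isMulCommutative
    have hn := H27.quasisimple_nontrivial hq
    exact not_subsingleton S hs
  · apply le_antisymm hNZ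
    intro g hg
    exact hCN (key g ((Subgroup.mem_normalizer_iff.mp hg t).mp htZ))

end Cfsg.Agent.H29
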