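import Cfsg.Agent.H29.BlockMat
import Cfsg.Agent.H29.StdAbstract
import Cfsg.Agent.H6.PSLSimple

set_option autoImplicit false

namespace Cfsg.Agent.H29

open Cfsg Matrix

variable {F : Type*} [Field F] {m : ℕ}

/-- The block embedding `SL(m) → SL(m+1)`, `A ↦ diag(A, 1)`. -/
def embSL : Matrix.SpecialLinearGroup (Fin m) F →* Matrix.SpecialLinearGroup (Fin (m + 1)) F where
  toFun A := ⟨blk A.1 1, by rw [det_blk, mul_one]; exact A.2⟩
  map_one' := Subtype.ext blk_one
  map_mul' A B := by
    apply Subtype.ext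
    show blk (A.1 * B.1) 1 = blk A.1 1 * blk B.1 1
    rw [blk_mul, mul_one]

theorem embSL_coe (A : Matrix.SpecialLinearGroup (Fin m) F) :
    (embSL A).1 = blk A.1 1 := rfl

theorem embSL_injective : Function.Injective (embSL (F := F) (m := m)) := by
  intro A B h
  apply Subtype.ext
  have h1 := congrArg (fun g : Matrix.SpecialLinearGroup (Fin (m + 1)) F => tl g.1) h
  simpa [embSL_coe] using h1

theorem mem_range_embSL_iff (g : Matrix.SpecialLinearGroup (Fin (m + 1)) F) :
    g ∈ (embSL (F := F) (m := m)).range ↔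
      IsBlock g.1 ∧ g.1 (Fin.last m) (Fin.last m) = 1 := by
  constructor
  · rintro ⟨A, rfl⟩
    exact ⟨isBlock_blk _ _, blk_last_last _ _⟩
  · rintro ⟨hb, h1⟩
    have hdet : (tl g.1).det = 1 := by
      have h2 := det_of_isBlock hb
      rw [h1, mul_one, g.2] at h2
      exact h2.symm
    refine ⟨⟨tl g.1, hdet⟩, ?_⟩
    apply Subtype.ext
    show blk (tl g.1) 1 = g.1
    conv_rhs => rw [eq_blk_of_isBlock hb, h1]

theorem mem_centralizer_iff_isBlock (h2 : (2 : F) ≠ 0)
    {t : Matrix.SpecialLinearGroup (Fin (m + 1)) F}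
    (ht : t.1 = Matrix.diagonal (tdiag (F := F) (m + 1)))
    (g : Matrix.SpecialLinearGroup (Fin (m + 1)) F) :
    g ∈ Subgroup.centralizer ({t} : Set (Matrix.SpecialLinearGroup (Fin (m + 1)) F)) ↔
      IsBlock g.1 := by
  rw [Subgroup.mem_centralizer_singleton_iff]
  constructor
  · intro h
    apply isBlock_of_commute h2
    have h1 : g.1 * t.1 = t.1 * g.1 := congrArg Subtype.val h
    rwa [ht] at h1
  · intro h
    apply Subtype.ext
    show g.1 * t.1 = t.1 * g.1
    rw [ht]; exact commute_of_isBlock h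

theorem conj_mem_range_embSL {g s : Matrix.SpecialLinearGroup (Fin (m + 1)) F}
    (hg : IsBlock g.1) (hg' : IsBlock (g⁻¹).1) (hs : s ∈ (embSL (F := F) (m := m)).range) :
    g * s * g⁻¹ ∈ (embSL (F := F) (m := m)).range := by
  rw [mem_range_embSL_iff] at hs ⊢
  obtain ⟨hsb, hs1⟩ := hs
  have e : (g * s * g⁻¹).1 = g.1 * s.1 * (g⁻¹).1 := rfl
  have hgs : IsBlock (g.1 * s.1) := isBlock_mul hg hsb
  refine ⟨by rw [e]; exact isBlock_mul hgs hg', ?_⟩
  rw [e, last_mul hgs hg', last_mul hg hsb, hs1, mul_one, ← last_mul hg hg']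
  have e2 : g.1 * (g⁻¹).1 = 1 := by
    have := congrArg Subtype.val (mul_inv_cancel g)
    exact this
  rw [e2, Matrix.one_apply_eq]

section main

variable (h2 : (2 : F) ≠ 0) {t : Matrix.SpecialLinearGroup (Fin (m + 1)) F}
  (ht : t.1 = Matrix.diagonal (tdiag (F := F) (m + 1)))

include h2 ht

theorem range_embSL_le_centralizer :
    (embSL (F := F) (m := m)).range ≤
      Subgroup.centralizer ({t} : Set (Matrix.SpecialLinearGroup (Fin (m + 1)) F)) := by
  intro s hs
  rw [mem_centralizer_iff_isBlock h2 ht]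
  exact ((mem_range_embSL_iff s).mp hs).1

theorem centralizer_le_normalizer_range_embSL :
    Subgroup.centralizer ({t} : Set (Matrix.SpecialLinearGroup (Fin (m + 1)) F)) ≤
      Subgroup.normalizer (((embSL (F := F) (m := m)).range : Subgroup _) : Set _) := by
  intro g hg
  have hgb : IsBlock g.1 := (mem_centralizer_iff_isBlock h2 ht g).mp hg
  have hgb' : IsBlock (g⁻¹).1 :=
    (mem_centralizer_iff_isBlock h2 ht g⁻¹).mp (Subgroup.inv_mem _ hg)
  rw [Subgroup.mem_normalizer_iff]
  intro s
  constructor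
  · exact conj_mem_range_embSL hgb hgb'
  · intro h
    have h3 := conj_mem_range_embSL hgb' (by rw [inv_inv]; exact hgb) h
    have e : g⁻¹ * (g * s * g⁻¹) * g⁻¹⁻¹ = s := by group
    rwa [e] at h3

omit h2 in
theorem t_mem_range_embSL : t ∈ (embSL (F := F) (m := m)).range := by
  rw [mem_range_embSL_iff, ht, diagonal_tdiag_eq_blk]
  exact ⟨isBlock_blk _ _, blk_last_last _ _⟩

/-- Elements centralizing the embedded `SL(m)` are of the form `diag(λ, …, λ, μ)`. -/
theorem centralizer_range_embSL_shape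
    {g : Matrix.SpecialLinearGroup (Fin (m + 1)) F}
    (hg : g ∈ Subgroup.centralizer
      (((embSL (F := F) (m := m)).range : Subgroup _) : Set _)) :
    ∃ c : F, g.1 = blk (Matrix.scalar (Fin m) c) (g.1 (Fin.last m) (Fin.last m)) := by
  have hgt : g ∈ Subgroup.centralizer ({t} : Set (Matrix.SpecialLinearGroup (Fin (m + 1)) F)) := by
    rw [Subgroup.mem_centralizer_singleton_iff]
    exact (Subgroup.mem_centralizer_iff.mp hg t (t_mem_range_embSL ht)).symm
  have hb : IsBlock g.1 := (mem_centralizer_iff_isBlock h2 ht g).mp hgt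
  have hsc : tl g.1 ∈ Set.range (Matrix.scalar (Fin m)) := by
    apply Matrix.mem_range_scalar_of_commute_single
    intro i j hij
    have hT := Subgroup.mem_centralizer_iff.mp hg
      (embSL (Matrix.SpecialLinearGroup.transvection hij (1 : F))) ⟨_, rfl⟩
    have hT1 : (embSL (Matrix.SpecialLinearGroup.transvection hij (1 : F))).1 * g.1 =
        g.1 * (embSL (Matrix.SpecialLinearGroup.transvection hij (1 : F))).1 :=
      congrArg Subtype.val hT
    have hT2 := congrArg tl hT1
    rw [tl_mul (by rw [embSL_coe]; exact isBlock_blk _ _) hb,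
      tl_mul hb (by rw [embSL_coe]; exact isBlock_blk _ _), embSL_coe, tl_blk] at hT2
    have hT3 : (1 + Matrix.single i j (1 : F)) * tl g.1 = tl g.1 * (1 + Matrix.single i j (1 : F)) :=
      hT2
    rw [add_mul, mul_add, one_mul, mul_one] at hT3
    exact add_left_cancel hT3
  obtain ⟨c, hc⟩ := hsc
  refine ⟨c, ?_⟩
  rw [hc]
  exact eq_blk_of_isBlock hb

theorem centralizer_range_embSL_comm
    {a b : Matrix.SpecialLinearGroup (Fin (m + 1)) F}
    (ha : a ∈ Subgroup.centralizer (((embSL (F := F) (m := m)).range : Subgroup _) : Set _))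
    (hb : b ∈ Subgroup.centralizer (((embSL (F := F) (m := m)).range : Subgroup _) : Set _)) :
    a * b = b * a := by
  obtain ⟨c, hc⟩ := centralizer_range_embSL_shape h2 ht ha
  obtain ⟨d, hd⟩ := centralizer_range_embSL_shape h2 ht hb
  apply Subtype.ext
  show a.1 * b.1 = b.1 * a.1
  rw [hc, hd, blk_mul, blk_mul, ← map_mul, ← map_mul, mul_comm c d,
    mul_comm (a.1 (Fin.last m) (Fin.last m))]

theorem centralizer_range_embSL_invol (hm : Even m) (hm1 : 1 ≤ m)
    {u : Matrix.SpecialLinearGroup (Fin (m + 1)) F}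
    (hu : u ∈ Subgroup.centralizer (((embSL (F := F) (m := m)).range : Subgroup _) : Set _))
    (huu : u * u = 1) (hu1 : u ≠ 1) : u = t := by
  obtain ⟨c, hc⟩ := centralizer_range_embSL_shape h2 ht hu
  set μ := u.1 (Fin.last m) (Fin.last m) with hμ
  have h1 : u.1 * u.1 = 1 := congrArg Subtype.val huu
  rw [hc, blk_mul, ← map_mul] at h1
  have hcc : c * c = 1 := by
    have h3 := congrFun (congrFun h1 (Fin.castSucc ⟨0, hm1⟩)) (Fin.castSucc ⟨0, hm1⟩)
    rw [blk_castSucc_castSucc, Matrix.one_apply_eq, Matrix.scalar_apply,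
      Matrix.diagonal_apply_eq] at h3
    exact h3
  have hμμ : μ * μ = 1 := by
    have h3 := congrFun (congrFun h1 (Fin.last m)) (Fin.last m)
    rw [blk_last_last, Matrix.one_apply_eq] at h3
    exact h3
  have hdet : c ^ m * μ = 1 := by
    have h3 := u.2
    rw [hc, det_blk] at h3
    simpa using h3
  have hcm : c ^ m = 1 := by
    obtain ⟨r, hr⟩ := hm
    rw [hr, ← two_mul, pow_mul, pow_two, hcc, one_pow]
  have hμ1 : μ = 1 := by rw [hcm, one_mul] at hdet; exact hdet
  rcases mul_self_eq_one_iff.mp hcc with h | h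
  · exfalso; apply hu1
    apply Subtype.ext
    show u.1 = 1
    rw [hc, h, hμ1, map_one, blk_one]
  · apply Subtype.ext
    rw [hc, ht, diagonal_tdiag_eq_blk, h, hμ1, map_neg, map_one]

end main

end Cfsg.Agent.H29
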